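import Cfsg.Agent.Lib.TC.D.HNB.Data

/-!
# The letters are automorphisms of the graph
-/

namespace Cfsg.Agent.Lib.TC.D.HNB.ChkA

open Cfsg.Agent.Lib.TC.Core Cfsg.Agent.Lib.TC.Enc Cfsg.Agent.Lib.TC.Perm
  Cfsg.Agent.Lib.TC.D.HNB.Data

open Cfsg.Agent.Lib.HS.Graph (adjB)

set_option maxRecDepth 100000

theorem haut : ((List.range 5).all fun c => (List.range 100).all fun u => (List.range 100).all fun v =>
    Bool.rec (Bool.rec true false (adjB u v)) (adjB u v) (adjB (P100.T c u) (P100.T c v))) = true := by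
  decide +kernel

end Cfsg.Agent.Lib.TC.D.HNB.ChkA
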