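import Cfsg.Agent.Lib.TC.D.HNB.Data

/-!
# The checks of the masks
-/

namespace Cfsg.Agent.Lib.TC.D.HNB.ChkM

open Cfsg.Agent.Lib.TC.Core Cfsg.Agent.Lib.TC.Enc Cfsg.Agent.Lib.TC.Perm
  Cfsg.Agent.Lib.TC.D.HNO.Tab Cfsg.Agent.Lib.TC.D.HND.Sys Cfsg.Agent.Lib.TC.D.HNL.Lam
  Cfsg.Agent.Lib.TC.D.HNB.Data

open Cfsg.Agent.Lib.SteinerSearch.Core (tb)
open Cfsg.Agent.Lib.PermComp.Core (bit setBit bit_setBit)

set_option maxRecDepth 100000

/-- Equality of booleans. -/
def bEq (a b : Bool) : Bool := Bool.rec (Bool.rec true false b) b a

theorem bEq_iff {a b : Bool} (h : bEq a b = true) : a = b := by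
  cases a <;> cases b <;> first | rfl | exact absurd h (by decide)

/-- The check of a row: the images of `0, 1, …` are the entries of the row. -/
noncomputable def chkRow (m m' : Nat) (row : List Nat) : Nat → Bool :=
  List.rec (fun _ => true)
    (fun q _ ih v => andB (bEq (tb m' q) (tb m v)) (force (Nat.succ v) ih)) row

theorem chkRow_spec {m m' : Nat} {row : List Nat} {v : Nat} (h : chkRow m m' row v = true)
    (i : Nat) (hi : i < row.length) : tb m' (row.getD i 0) = tb m (v + i) := by
  induction row generalizing v i with
  | nil => simp at hi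
  | cons q l ih =>
    have h' : andB (bEq (tb m' q) (tb m v)) (force (Nat.succ v) (chkRow m m' l)) = true := h
    rw [andB_eq_true, force_eq] at h'
    cases i with
    | zero =>
      exact bEq_iff h'.1
    | succ i =>
      have h3 := ih h'.2 i (by simpa using hi)
      simp only [List.getD_cons_succ]
      rw [h3]
      congr 1
      omega

/-- The check of all the rows of a letter. -/
noncomputable def chkC (c : Nat) (row : List Nat) : Nat → Bool :=
  Nat.rec true (fun a ih =>
    andB (force (maskF a) fun m => force (maskF (ptL.T c a)) fun m' => chkRow m m' row 0) ih)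

theorem chkC_spec {c : Nat} {row : List Nat} {L : Nat} (h : chkC c row L = true) (a : Nat) (ha : a < L) :
    chkRow (maskF a) (maskF (ptL.T c a)) row 0 = true := by
  induction L with
  | zero => omega
  | succ L ih =>
    have h' : andB (force (maskF L) fun m => force (maskF (ptL.T c L)) fun m' => chkRow m m' row 0)
      (chkC c row L) = true := h
    rw [andB_eq_true, force_eq, force_eq] at h'
    by_cases hL : a = L
    · rw [hL]
      exact h'.1
    · exact ih h'.2 (by omega)

theorem hm0 : chkC 0 (tab100.getD 0 []) 1408 = true := by decide +kernel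

theorem hm1 : chkC 1 (tab100.getD 1 []) 1408 = true := by decide +kernel

theorem hm2 : chkC 2 (tab100.getD 2 []) 1408 = true := by decide +kernel

theorem hm3 : chkC 3 (tab100.getD 3 []) 1408 = true := by decide +kernel

theorem hm4 : chkC 4 (tab100.getD 4 []) 1408 = true := by decide +kernel

theorem hlen : ∀ c, c < 5 → (tab100.getD c []).length = 100 := by decide

theorem hmask (c : Nat) (hc : c < 5) (a : Nat) (ha : a < 1408) (v : Nat) (hv : v < 100) :
    tb (maskF (ptL.T c a)) (P100.T c v) = tb (maskF a) v := by
  have h : chkC c (tab100.getD c []) 1408 = true := by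
    have hc' : c = 0 ∨ c = 1 ∨ c = 2 ∨ c = 3 ∨ c = 4 := by omega
    rcases hc' with rfl | rfl | rfl | rfl | rfl
    · exact hm0
    · exact hm1
    · exact hm2
    · exact hm3
    · exact hm4
  have h1 := chkC_spec h a ha
  have h2 := chkRow_spec h1 v (by rw [hlen c hc]; exact hv)
  rw [Nat.zero_add] at h2
  exact h2

theorem hinvL : ((List.range 5).all fun c => (List.range 1408).all fun a =>
    Nat.beq (ptL.T c (ptL.T (invL c) a)) a && Nat.blt (ptL.T (invL c) a) 1408) = true := by decide +kernel

/-- The check that a function on a list is injective, with a mask of values which were seen. -/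
noncomputable def injGo (f : Nat → Nat) (l : List Nat) : Nat → Bool :=
  List.rec (fun _ => true)
    (fun a _ ih seen => force (f a) fun x =>
      andB (Bool.rec true false (bit seen x)) (force (setBit seen x) ih)) l

theorem injGo_spec {f : Nat → Nat} {l : List Nat} {seen : Nat} (h : injGo f l seen = true) :
    (∀ a ∈ l, bit seen (f a) = false) ∧ l.Pairwise (fun a b => f a ≠ f b) := by
  induction l generalizing seen with
  | nil => simp
  | cons a l ih =>
    have h' : (force (f a) fun x =>
      andB (Bool.rec true false (bit seen x)) (force (setBit seen x) (injGo f l))) = true := h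
    rw [force_eq, andB_eq_true, force_eq] at h'
    obtain ⟨h1, h2⟩ := h'
    have h3 : bit seen (f a) = false := by
      cases hb : bit seen (f a) with
      | false => rfl
      | true =>
        rw [hb] at h1
        exact absurd h1 (by decide)
    obtain ⟨h4, h5⟩ := ih h2
    refine ⟨?_, List.pairwise_cons.2 ⟨?_, h5⟩⟩
    · intro b hb
      rcases List.mem_cons.1 hb with rfl | hb'
      · exact h3
      · have h6 := h4 b hb'
        cases h7 : bit seen (f b) with
        | false => rfl
        | true =>
          have h8 : bit (setBit seen (f a)) (f b) = true := (bit_setBit _ _ _).2 (Or.inl h7)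
          rw [h6] at h8
          exact absurd h8 (by decide)
    · intro b hb he
      have h8 : bit (setBit seen (f a)) (f b) = true := (bit_setBit _ _ _).2 (Or.inr he.symm)
      rw [h4 b hb] at h8
      exact absurd h8 (by decide)

theorem pw_inj {f : Nat → Nat} {l : List Nat} (h : l.Pairwise (fun a b => f a ≠ f b))
    {a b : Nat} (ha : a ∈ l) (hb : b ∈ l) (he : f a = f b) : a = b := by
  induction l with
  | nil => simp at ha
  | cons x l ih =>
    obtain ⟨h1, h2⟩ := List.pairwise_cons.1 h
    rcases List.mem_cons.1 ha with rfl | ha'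
    · rcases List.mem_cons.1 hb with rfl | hb'
      · rfl
      · exact absurd he (h1 b hb')
    · rcases List.mem_cons.1 hb with rfl | hb'
      · exact absurd he.symm (h1 a ha')
      · exact ih h2 ha' hb'

theorem inj_of_go {f : Nat → Nat} {l : List Nat} {seen : Nat} (h : injGo f l seen = true)
    {a b : Nat} (ha : a ∈ l) (hb : b ∈ l) (he : f a = f b) : a = b :=
  pw_inj (injGo_spec h).2 ha hb he

theorem hlamGo : injGo lam (List.range 1408) 0 = true := by decide +kernel

/-- The signature of a point. -/
noncomputable def sigN (v : Nat) : Nat :=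
  List.rec 0 (fun a _ ih => Nat.add (Nat.mul 2 ih) (Bool.rec 0 1 (tb (maskF a) v))) sepL

theorem hsigGo : injGo sigN (List.range 100) 0 = true := by decide +kernel

theorem hsepL : ∀ a ∈ sepL, a < 1408 := by decide +kernel

theorem sig_eq {v w : Nat} (h : ∀ a ∈ sepL, tb (maskF a) v = tb (maskF a) w) : sigN v = sigN w := by
  unfold sigN
  generalize sepL = l at h
  induction l with
  | nil => rfl
  | cons a l ih =>
    have h1 := ih (fun b hb => h b (List.mem_cons_of_mem _ hb))
    have h2 := h a List.mem_cons_self
    show Nat.add (Nat.mul 2 _) _ = Nat.add (Nat.mul 2 _) _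
    rw [h1, h2]

theorem hsep {v w : Nat} (hv : v < 100) (hw : w < 100)
    (h : ∀ a ∈ sepL, tb (maskF a) v = tb (maskF a) w) : v = w :=
  inj_of_go hsigGo (List.mem_range.2 hv) (List.mem_range.2 hw) (sig_eq h)

end Cfsg.Agent.Lib.TC.D.HNB.ChkM
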