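import Mathlib
import Cfsg.Prelude.Def_SporadicB

/-!
# A criterion for a non-split double cover, and homomorphisms from equivariant relations
-/

namespace Cfsg.Agent.Lib.TC.D.HNB.Cover

/-- The preimage of a simple subgroup of index two, under a surjection with a kernel of order two,
is a non-split double cover when some fourth power is a non-trivial element of the kernel. -/
theorem cover_of_hom {N A : Type*} [Group N] [Finite N] [Group A] (ρ : N →* A)
    (hρ : Function.Surjective ρ) (H : Subgroup A) (hidx : H.index = 2)
    (hs : IsSimpleGroup H) (hnp : ¬ Nat.Prime (Nat.card H))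
    (hker : Nat.card ρ.ker = 2) (h : N) (h1 : ρ (h ^ 4) = 1) (h2 : h ^ 4 ≠ 1) :
    ∃ K : Subgroup N, K.Normal ∧ K.index = 2 ∧ Cfsg.IsNonsplitDoubleCover K H := by
  classical
  have hHn : H.Normal := Subgroup.normal_of_index_eq_two hidx
  let K : Subgroup N := H.comap ρ
  have hKn : K.Normal := hHn.comap ρ
  have hKi : K.index = 2 := by
    show (H.comap ρ).index = 2
    rw [Subgroup.index_comap_of_surjective _ hρ, hidx]
  refine ⟨K, hKn, hKi, ?_⟩
  -- the surjection of the cover
  let σ : K →* H := ρ.subgroupComap H
  have hσ : Function.Surjective σ := ρ.subgroupComap_surjective_of_surjective H hρ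
  have hσv : ∀ k : K, (σ k : A) = ρ k.1 := fun k => rfl
  -- the kernel of the surjection
  have hkerle : ρ.ker ≤ K := by
    intro z hz
    show ρ z ∈ H
    rw [(MonoidHom.mem_ker).1 hz]
    exact H.one_mem
  have hσker : Nat.card σ.ker = 2 := by
    rw [← hker]
    refine Nat.card_congr ⟨fun z => ⟨z.1.1, ?_⟩, fun z => ⟨⟨z.1, hkerle z.2⟩, ?_⟩, ?_, ?_⟩
    · have hz := z.2
      have h3 : σ z.1 = 1 := hz
      have h4 : (σ z.1 : A) = 1 := by rw [h3]; rfl
      exact (MonoidHom.mem_ker).2 h4
    · apply (MonoidHom.mem_ker).2
      apply Subtype.ext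
      exact (MonoidHom.mem_ker).1 z.2
    · intro z
      rfl
    · intro z
      rfl
  -- the centre of the simple group
  have hcH : Subgroup.center H = ⊥ := by
    rcases hs.eq_bot_or_eq_top_of_normal (Subgroup.center H) inferInstance with h3 | h3
    · exact h3
    · exfalso
      have hcomm : ∀ a b : H, a * b = b * a := by
        intro a b
        have : a ∈ Subgroup.center H := by
          rw [h3]
          exact Subgroup.mem_top _
        exact (Subgroup.mem_center_iff.1 this b).symm
      let _ : CommGroup H := { (inferInstance : Group H) with mul_comm := hcomm }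
      exact hnp IsSimpleGroup.prime_card
  -- the kernel is the centre
  have hle1 : Subgroup.center K ≤ σ.ker := by
    intro w hw
    have h3 : σ w ∈ Subgroup.center H := by
      rw [Subgroup.mem_center_iff]
      intro y
      obtain ⟨y', rfl⟩ := hσ y
      rw [← map_mul, ← map_mul, Subgroup.mem_center_iff.1 hw y']
    rw [hcH] at h3
    exact (MonoidHom.mem_ker).2 (Subgroup.mem_bot.1 h3)
  have hFk : Finite σ.ker := Nat.finite_of_card_ne_zero (by rw [hσker]; norm_num)
  have hle2 : σ.ker ≤ Subgroup.center K := by
    intro z hz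
    rw [Subgroup.mem_center_iff]
    intro g
    by_cases hz1 : z = 1
    · rw [hz1, mul_one, one_mul]
    · have hconj : g * z * g⁻¹ ∈ σ.ker := (MonoidHom.normal_ker σ).conj_mem z hz g
      have hne : g * z * g⁻¹ ≠ 1 := by
        intro h3
        apply hz1
        have h4 : g * z = g := by
          have := congrArg (fun t => t * g) h3
          simpa [mul_assoc] using this
        simpa using h4
      -- both are the non-identity element of a group of order two
      have hsub : ∀ a b : σ.ker, a ≠ 1 → b ≠ 1 → a = b := by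
        intro a b ha hb
        by_contra hab
        have h3 : ({1, a, b} : Finset σ.ker).card = 3 := by
          rw [Finset.card_eq_three]
          exact ⟨1, a, b, Ne.symm ha, Ne.symm hb, hab, rfl⟩
        have h4 : ({1, a, b} : Finset σ.ker).card ≤ Nat.card σ.ker := by
          have := Fintype.ofFinite σ.ker
          rw [Nat.card_eq_fintype_card]
          exact Finset.card_le_univ _
        omega
      have h5 := hsub ⟨_, hconj⟩ ⟨z, hz⟩ (fun h3 => hne (congrArg Subtype.val h3))
        (fun h3 => hz1 (congrArg Subtype.val h3))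
      have h6 : g * z * g⁻¹ = z := congrArg Subtype.val h5
      have h7 : g * z = z * g := by
        calc g * z = g * z * g⁻¹ * g := by group
          _ = z * g := by rw [h6]
      exact h7
  have hZ : Subgroup.center K = σ.ker := le_antisymm hle1 hle2
  refine ⟨by rw [hZ]; exact hσker, ⟨?_⟩, ?_⟩
  · exact (QuotientGroup.quotientMulEquivOfEq hZ).trans (QuotientGroup.quotientKerEquivOfSurjective σ hσ)
  · intro L hL
    -- the square of the element
    have hsq : h ^ 2 ∈ K := by
      have := Subgroup.sq_mem_of_index_two hKi h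
      exact this
    let g : K := ⟨h ^ 2, hsq⟩
    have hgg : ((g * g : K) : N) = h ^ 4 := by
      show h ^ 2 * h ^ 2 = h ^ 4
      rw [← pow_add]
    have hgne : g * g ≠ 1 := by
      intro h3
      apply h2
      rw [← hgg, h3]
      rfl
    have hgZ : g * g ∈ Subgroup.center K := by
      rw [hZ]
      apply (MonoidHom.mem_ker).2
      apply Subtype.ext
      show ρ (h ^ 2 * h ^ 2) = 1
      rw [← pow_add]
      exact h1
    -- decompose `g`
    obtain ⟨⟨a, b⟩, hab⟩ := hL.2 g
    have hab' : (a : K) * (b : K) = g := hab
    have haZ : (a : K) ∈ Subgroup.center K := a.2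
    have haa : (a : K) * (a : K) = 1 := by
      have h3 : (a : K) ∈ σ.ker := by
        rw [← hZ]
        exact haZ
      have h4 : ((⟨(a : K), h3⟩ : σ.ker)) ^ 2 = 1 := by
        have : Finite σ.ker := hFk
        rw [← hσker]
        exact pow_card_eq_one'
      have h5 := congrArg Subtype.val h4
      simpa [pow_two] using h5
    have hgg2 : g * g = (b : K) * (b : K) := by
      rw [← hab']
      calc (a : K) * (b : K) * ((a : K) * (b : K))
          = (a : K) * (a : K) * ((b : K) * (b : K)) := by
            have hc := Subgroup.mem_center_iff.1 haZ (b : K)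
            calc (a : K) * (b : K) * ((a : K) * (b : K))
                = (a : K) * ((b : K) * (a : K)) * (b : K) := by group
              _ = (a : K) * ((a : K) * (b : K)) * (b : K) := by rw [hc]
              _ = _ := by group
        _ = (b : K) * (b : K) := by rw [haa, one_mul]
    have hgL : g * g ∈ L := by
      rw [hgg2]
      exact L.mul_mem b.2 b.2
    have hdis := hL.disjoint
    have : g * g = 1 := by
      have h3 := Subgroup.disjoint_def.1 hdis hgZ hgL
      exact h3
    exact hgne this

/-- A homomorphism from an equivariant relation which separates the points of `Y`. -/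
theorem exists_rho {Γ X Y ι : Type*} [Group Γ] (φ : Γ →* Equiv.Perm X) (R : X → Y → Prop)
    (sep : ∀ y y', (∀ x, R x y ↔ R x y') → y = y') (N : Subgroup Γ) (s : ι → Γ)
    (hN : Subgroup.closure (Set.range s) = N) (π : ι → Equiv.Perm Y)
    (hπ : ∀ i x y, R (φ (s i) x) (π i y) ↔ R x y) :
    ∃ ρ : N →* Equiv.Perm Y, (∀ i (hs : s i ∈ N), ρ ⟨s i, hs⟩ = π i) := by
  classical
  let T : Subgroup (Γ × Equiv.Perm Y) :=
    { carrier := {t | ∀ x y, R (φ t.1 x) (t.2 y) ↔ R x y}
      mul_mem' := by
        intro a b ha hb x y
        have h1 := ha (φ b.1 x) (b.2 y)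
        have h2 := hb x y
        simpa [Equiv.Perm.mul_apply, map_mul] using h1.trans h2
      one_mem' := by
        intro x y
        simp
      inv_mem' := by
        intro a ha x y
        have h1 := ha (φ a.1⁻¹ x) (a.2⁻¹ y)
        have h2 : φ a.1 (φ a.1⁻¹ x) = x := by
          rw [← Equiv.Perm.mul_apply, ← map_mul, mul_inv_cancel, map_one, Equiv.Perm.one_apply]
        have h3 : a.2 (a.2⁻¹ y) = y := by
          rw [← Equiv.Perm.mul_apply, mul_inv_cancel, Equiv.Perm.one_apply]
        rw [h2, h3] at h1
        exact h1.symm }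
  let p : T →* Γ := (MonoidHom.fst Γ (Equiv.Perm Y)).comp T.subtype
  have hinj : Function.Injective p := by
    rintro ⟨⟨g, σ⟩, hσ⟩ ⟨⟨g', σ'⟩, hσ'⟩ hgg
    have hg : g = g' := hgg
    subst hg
    have h1 : ∀ y, σ y = σ' y := by
      intro y
      apply sep
      intro x
      -- `x` is an image
      have h2 := hσ (φ g⁻¹ x) y
      have h3 := hσ' (φ g⁻¹ x) y
      have h4 : φ g (φ g⁻¹ x) = x := by
        rw [← Equiv.Perm.mul_apply, ← map_mul, mul_inv_cancel, map_one, Equiv.Perm.one_apply]
      simp only [h4] at h2 h3
      exact h2.trans h3.symm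
    have h5 : σ = σ' := Equiv.ext h1
    subst h5
    rfl
  have hle : N ≤ p.range := by
    rw [← hN, Subgroup.closure_le]
    rintro _ ⟨i, rfl⟩
    exact ⟨⟨(s i, π i), hπ i⟩, rfl⟩
  let e : T ≃* p.range := MonoidHom.ofInjective hinj
  let ρ : N →* Equiv.Perm Y :=
    ((MonoidHom.snd Γ (Equiv.Perm Y)).comp T.subtype).comp
      (e.symm.toMonoidHom.comp (Subgroup.inclusion hle))
  refine ⟨ρ, fun i hs => ?_⟩
  have h1 : e.symm (Subgroup.inclusion hle ⟨s i, hs⟩) = ⟨(s i, π i), hπ i⟩ := by
    apply e.injective
    rw [MulEquiv.apply_symm_apply]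
    apply Subtype.ext
    rfl
  show ((e.symm (Subgroup.inclusion hle ⟨s i, hs⟩)).1).2 = π i
  rw [h1]

end Cfsg.Agent.Lib.TC.D.HNB.Cover
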