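import Cfsg.Agent.Lib.TC.D.HNL.Main
import Cfsg.Agent.Lib.HS.Graph

/-!
# An action on 100 points of the subgroup generated by the first letters
-/

namespace Cfsg.Agent.Lib.TC.D.HNB.Data

open Cfsg.Agent.Lib.TC.Core Cfsg.Agent.Lib.TC.Enc Cfsg.Agent.Lib.TC.Perm
  Cfsg.Agent.Lib.TC.Chain Cfsg.Agent.Lib.TC.Chain.PermLev Cfsg.Agent.Lib.TC.D.HNO.Tab
  Cfsg.Agent.Lib.TC.D.HND.Sys Cfsg.Agent.Lib.TC.D.HNL.Lam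

open Cfsg.Agent.Lib.SteinerSearch.Core (tb)
open Cfsg.Agent.Lib.HS.Graph (adjB)

set_option maxRecDepth 100000

/-- The letters on 100 points. -/
def tab100 : List (List Nat) :=
  [[27,49,91,48,6,92,4,15,90,13,57,63,65,9,32,7,34,77,62,97,87,98,78,68,69,93,50,0,67,94,74,99,14,88,16,89,71,96,95,70,81,79,56,46,47,55,43,44,3,1,26,75,73,76,72,45,42,10,66,64,61,60,18,11,59,12,58,28,23,24,39,36,54,52,30,51,53,17,22,41,84,40,83,82,80,86,85,20,33,35,8,2,5,25,29,38,37,19,21,31],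
   [27,49,91,48,6,92,4,15,90,13,57,63,65,9,32,7,34,77,62,97,87,98,78,68,69,93,50,0,67,94,74,99,14,88,16,89,71,96,95,70,81,79,56,46,47,55,43,44,3,1,26,75,73,76,72,45,42,10,66,64,61,60,18,11,59,12,58,28,23,24,39,36,54,52,30,51,53,17,22,41,84,40,83,82,80,86,85,20,33,35,8,2,5,25,29,38,37,19,21,31],
   [0,2,18,13,9,3,20,16,15,4,8,14,7,5,11,10,19,22,21,6,12,17,1,58,39,30,37,54,28,60,49,44,85,79,89,90,76,66,78,74,95,99,27,53,36,52,80,94,70,72,96,26,57,61,42,86,91,64,71,65,29,43,81,32,35,50,46,84,93,87,77,67,56,47,68,55,33,98,41,31,51,59,24,92,88,63,73,97,23,38,45,25,48,82,75,40,62,69,83,34],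
   [0,22,1,5,9,13,19,12,10,4,15,14,20,3,11,8,7,21,2,16,6,18,17,88,82,91,51,42,28,60,25,79,63,76,99,64,44,26,89,24,95,78,54,61,31,90,66,73,92,30,65,80,45,43,27,75,72,52,23,81,29,53,96,85,57,59,37,71,74,97,48,58,49,86,39,94,36,70,38,33,46,62,93,98,67,32,55,69,84,34,35,56,83,68,47,40,50,87,77,41],
   [0,1,2,3,6,5,4,15,21,13,17,16,14,9,12,7,11,10,18,19,20,8,22,23,69,31,30,27,67,29,26,25,65,33,63,35,71,41,40,70,38,37,72,46,47,73,43,44,48,49,74,75,55,76,56,52,54,77,58,59,61,60,62,34,64,32,66,28,68,24,39,36,42,45,50,51,53,57,78,96,84,95,83,82,80,86,85,87,88,89,98,91,92,99,94,81,79,97,90,93]]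

/-- The table on 100 points. -/
def P100 : PT where
  n := 100
  k := 5
  T := fun c i => (tab100.getD c []).getD i 0
  inv := invL
  tp := fun _ => 0
  tc := fun _ => 0

/-- The masks. -/
noncomputable def maskT : Tr Nat :=
  (Tr.node (Tr.node (Tr.node (Tr.node (Tr.node (Tr.node (Tr.node (Tr.node (Tr.node (Tr.node (Tr.node (Tr.leaf (nat_lit 0xf5bda6bea6da78a444280cf11))
 (Tr.leaf (nat_lit 0xbf76a6f653c3da0d0c9021c39)))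
 (Tr.node (Tr.leaf (nat_lit 0xc50d0f10d059fd72a9f7b9ac))
 (Tr.leaf (nat_lit 0xf9bb3d1ee85021001569fd7d2))))
 (Tr.node (Tr.node (Tr.leaf (nat_lit 0x7d3771fe62403b7c0ae9245a1))
 (Tr.leaf (nat_lit 0xbc42680736f98497e56eacfa)))
 (Tr.node (Tr.leaf (nat_lit 0x8efe6c4813edd5cb25d23084b))
 (Tr.leaf (nat_lit 0xf9bb3d1ee85021001569fd7d2)))))
 (Tr.node (Tr.node (Tr.node (Tr.leaf (nat_lit 0xd7cdf281263f08a4e202cebbe))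
 (Tr.leaf (nat_lit 0xd976f0f67b011b84aef160139)))
 (Tr.node (Tr.leaf (nat_lit 0xd0320d7edb90678085e57575e))
 (Tr.leaf (nat_lit 0xf9bb3d1ee85021001569fd7d2))))
 (Tr.node (Tr.node (Tr.leaf (nat_lit 0xbc7d3c7de04669cf05992d803))
 (Tr.leaf (nat_lit 0xf9bb3d1ee85021001569fd7d2)))
 (Tr.node (Tr.leaf (nat_lit 0x5888a69fb8191ca1764ddaf9a))
 (Tr.leaf (nat_lit 0xf9bb3d1ee85021001569fd7d2))))))
 (Tr.node (Tr.node (Tr.node (Tr.node (Tr.leaf (nat_lit 0x6df3d9300d00b7521a2b7b7e4))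
 (Tr.leaf (nat_lit 0x908613dcfbf720a7afe4a0117)))
 (Tr.node (Tr.leaf (nat_lit 0xfcfe8e7c9980748304013bf5e))
 (Tr.leaf (nat_lit 0xf9bb3d1ee85021001569fd7d2))))
 (Tr.node (Tr.node (Tr.leaf (nat_lit 0x410f220e6278793cf6678c7fa))
 (Tr.leaf (nat_lit 0x5c2065ff32091fe802cd76faa)))
 (Tr.node (Tr.leaf (nat_lit 0x40895909ac3c25f2f36fde3c6))
 (Tr.leaf (nat_lit 0xf9bb3d1ee85021001569fd7d2)))))
 (Tr.node (Tr.node (Tr.node (Tr.leaf (nat_lit 0x3ebf594880c4247b09cbb7dc6))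
 (Tr.leaf (nat_lit 0x306a28653fbda3dfef680439)))
 (Tr.node (Tr.leaf (nat_lit 0x140a594d08b527bf83cfb738e))
 (Tr.leaf (nat_lit 0xf9bb3d1ee85021001569fd7d2))))
 (Tr.node (Tr.node (Tr.leaf (nat_lit 0xf3f45de0ffa622c0c97066055))
 (Tr.leaf (nat_lit 0xf9bb3d1ee85021001569fd7d2)))
 (Tr.node (Tr.leaf (nat_lit 0xc73ef0c607f95bb4a0f214139))
 (Tr.leaf (nat_lit 0xf9bb3d1ee85021001569fd7d2)))))))
 (Tr.node (Tr.node (Tr.node (Tr.node (Tr.node (Tr.leaf (nat_lit 0x75f5f0b026023ae44a2b6efb4))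
 (Tr.leaf (nat_lit 0xb027037ef2c2602e8da5a5f76)))
 (Tr.node (Tr.leaf (nat_lit 0xf5e6d3f43fa332a68a2022335))
 (Tr.leaf (nat_lit 0xf9bb3d1ee85021001569fd7d2))))
 (Tr.node (Tr.node (Tr.leaf (nat_lit 0xc0c70cd206d19ff22dfbe9aa))
 (Tr.leaf (nat_lit 0xcffba6120759dd00340259ffa)))
 (Tr.node (Tr.leaf (nat_lit 0x62fed8409da076f3f97312055))
 (Tr.leaf (nat_lit 0xf9bb3d1ee85021001569fd7d2)))))
 (Tr.node (Tr.node (Tr.node (Tr.leaf (nat_lit 0x6881c3bbbc0894727a2ddafe4))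
 (Tr.leaf (nat_lit 0xf76b375766736b2c9100052b3)))
 (Tr.node (Tr.leaf (nat_lit 0xa0d406f8ffe6f0c76d3428855))
 (Tr.leaf (nat_lit 0xf9bb3d1ee85021001569fd7d2))))
 (Tr.node (Tr.node (Tr.leaf (nat_lit 0x40d22c185b30f7c17767786de))
 (Tr.leaf (nat_lit 0xf9bb3d1ee85021001569fd7d2)))
 (Tr.node (Tr.leaf (nat_lit 0xbc7aec7f1881d78f059931a09))
 (Tr.leaf (nat_lit 0xf9bb3d1ee85021001569fd7d2))))))
 (Tr.node (Tr.node (Tr.node (Tr.node (Tr.leaf (nat_lit 0x66305473637befbff720033))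
 (Tr.leaf (nat_lit 0xbeabaf1f90dbc42b158891e03)))
 (Tr.node (Tr.leaf (nat_lit 0x472a074607f97f389046177fa))
 (Tr.leaf (nat_lit 0xf9bb3d1ee85021001569fd7d2))))
 (Tr.node (Tr.node (Tr.leaf (nat_lit 0xd28847cbbebd04a0e144d6bde))
 (Tr.leaf (nat_lit 0x121f024ac2d46c3dedc785dde)))
 (Tr.node (Tr.leaf (nat_lit 0xddd9e6bb2e1d9d84660848b89))
 (Tr.leaf (nat_lit 0xf9bb3d1ee85021001569fd7d2)))))
 (Tr.node (Tr.node (Tr.node (Tr.leaf (nat_lit 0xf179bc37ec126b84d5394d211))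
 (Tr.leaf (nat_lit 0xa2e824691c95c3bbcd793d7a)))
 (Tr.node (Tr.leaf (nat_lit 0x80751070e74669c6adb76d976))
 (Tr.leaf (nat_lit 0xf9bb3d1ee85021001569fd7d2))))
 (Tr.node (Tr.node (Tr.leaf (nat_lit 0xee87bb9dd17ac07332a098427))
 (Tr.leaf (nat_lit 0xf9bb3d1ee85021001569fd7d2)))
 (Tr.node (Tr.leaf (nat_lit 0x111498a4c9962a95ceffef51c))
 (Tr.leaf (nat_lit 0xf9bb3d1ee85021001569fd7d2))))))))
 (Tr.node (Tr.node (Tr.node (Tr.node (Tr.node (Tr.node (Tr.leaf (nat_lit 0x8a0a0f4fd9fdc51bb5d49104b))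
 (Tr.leaf (nat_lit 0x415382324f10ff14fe27497fc)))
 (Tr.node (Tr.leaf (nat_lit 0x4382c3821fb99630fa66d27fc))
 (Tr.leaf (nat_lit 0xf9bb3d1ee85021001569fd7d2))))
 (Tr.node (Tr.node (Tr.leaf (nat_lit 0x922c9261989971a9efff3768))
 (Tr.leaf (nat_lit 0xebaed3c6bde91032b87092171)))
 (Tr.node (Tr.leaf (nat_lit 0xef6d1f65e56e695a90100f063))
 (Tr.leaf (nat_lit 0xf9bb3d1ee85021001569fd7d2)))))
 (Tr.node (Tr.node (Tr.node (Tr.leaf (nat_lit 0x8486a29c13fbd0a726a6b8f3e))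
 (Tr.leaf (nat_lit 0x300459edf8a622ffcbfda6005)))
 (Tr.node (Tr.leaf (nat_lit 0x22261944d1e2627b99f7b7476))
 (Tr.leaf (nat_lit 0xf9bb3d1ee85021001569fd7d2))))
 (Tr.node (Tr.node (Tr.leaf (nat_lit 0xa81151fbec44815629bdfd9e4))
 (Tr.leaf (nat_lit 0xf9bb3d1ee85021001569fd7d2)))
 (Tr.node (Tr.leaf (nat_lit 0x2fa6f98411eb927b1afab2421))
 (Tr.leaf (nat_lit 0xf9bb3d1ee85021001569fd7d2))))))
 (Tr.node (Tr.node (Tr.node (Tr.node (Tr.leaf (nat_lit 0x11483c0568372b8dd75fef29a))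
 (Tr.leaf (nat_lit 0xd2bfe80a929844a0e5e3d4f5e)))
 (Tr.node (Tr.leaf (nat_lit 0x47410f21473eef58d2064f6ee))
 (Tr.leaf (nat_lit 0xf9bb3d1ee85021001569fd7d2))))
 (Tr.node (Tr.node (Tr.leaf (nat_lit 0xdbfcc6e2bf8d1c80ec5042959))
 (Tr.leaf (nat_lit 0x37cbdb010cb7a63fdb0a83285)))
 (Tr.node (Tr.leaf (nat_lit 0x64808fbd9dbaf6f3522c1a605))
 (Tr.leaf (nat_lit 0xf9bb3d1ee85021001569fd7d2)))))
 (Tr.node (Tr.node (Tr.node (Tr.leaf (nat_lit 0x94420f7d5bb7e78f87842120f))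
 (Tr.leaf (nat_lit 0x79f36d3a7a00b7485f69606c1)))
 (Tr.node (Tr.leaf (nat_lit 0x8a3611a3249956a3feff0fe2))
 (Tr.leaf (nat_lit 0xf9bb3d1ee85021001569fd7d2))))
 (Tr.node (Tr.node (Tr.leaf (nat_lit 0xded27dd95b3587c123c07008f))
 (Tr.leaf (nat_lit 0xf9bb3d1ee85021001569fd7d2)))
 (Tr.node (Tr.leaf (nat_lit 0x24584c690ca4f7df411f3facc))
 (Tr.leaf (nat_lit 0xf9bb3d1ee85021001569fd7d2)))))))
 (Tr.node (Tr.node (Tr.node (Tr.node (Tr.node (Tr.leaf (nat_lit 0x93bdf082a6df08a4edfac4911))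
 (Tr.leaf (nat_lit 0x499107baef5cbd507e6c485c1)))
 (Tr.node (Tr.leaf (nat_lit 0x20f08c309d82f6c35d3f7be54))
 (Tr.leaf (nat_lit 0xf9bb3d1ee85021001569fd7d2))))
 (Tr.node (Tr.node (Tr.leaf (nat_lit 0x632407e6f7ea7a78d87406471))
 (Tr.leaf (nat_lit 0x8500d9a50dbf839682beff32c)))
 (Tr.node (Tr.leaf (nat_lit 0xbbb56daaf2ce80484df8e4c41))
 (Tr.leaf (nat_lit 0xf9bb3d1ee85021001569fd7d2)))))
 (Tr.node (Tr.node (Tr.node (Tr.leaf (nat_lit 0xea2f794ff068417ab1f194063))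
 (Tr.leaf (nat_lit 0xf3a8fd87bcbb02a0d178d6211)))
 (Tr.node (Tr.leaf (nat_lit 0x3d406aa6cc7dfeedff04941))
 (Tr.leaf (nat_lit 0xf9bb3d1ee85021001569fd7d2))))
 (Tr.node (Tr.node (Tr.leaf (nat_lit 0x51a087b6bf9b3ea0de6c42711))
 (Tr.leaf (nat_lit 0xf9bb3d1ee85021001569fd7d2)))
 (Tr.node (Tr.leaf (nat_lit 0xfaebd353bc010422b901d3bf6))
 (Tr.leaf (nat_lit 0xf9bb3d1ee85021001569fd7d2))))))
 (Tr.node (Tr.node (Tr.node (Tr.node (Tr.leaf (nat_lit 0x93d6f8805bb78285eff2e001d))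
 (Tr.leaf (nat_lit 0xe7f33d104772e34011227d6f6)))
 (Tr.node (Tr.leaf (nat_lit 0xffc56fa9722e80484200eeeee))
 (Tr.leaf (nat_lit 0xf9bb3d1ee85021001569fd7d2))))
 (Tr.node (Tr.node (Tr.leaf (nat_lit 0xba6fb257f043482fbd9181833))
 (Tr.leaf (nat_lit 0xdf647de5732f0bc882d06602b)))
 (Tr.node (Tr.leaf (nat_lit 0xef6acf671da9d71a901013269))
 (Tr.leaf (nat_lit 0xf9bb3d1ee85021001569fd7d2)))))
 (Tr.node (Tr.node (Tr.node (Tr.leaf (nat_lit 0xdb97cbaadb9c8410eee0c054d))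
 (Tr.leaf (nat_lit 0xafeeae0411ebd00b1412bbe7a)))
 (Tr.node (Tr.leaf (nat_lit 0xc0c10f39ff3ee5c2f72448247))
 (Tr.leaf (nat_lit 0xf9bb3d1ee85021001569fd7d2))))
 (Tr.node (Tr.node (Tr.leaf (nat_lit 0x37fc74c026e73aed495a26891))
 (Tr.leaf (nat_lit 0xf9bb3d1ee85021001569fd7d2)))
 (Tr.node (Tr.leaf (nat_lit 0x444a92550d317fb7b2071b3be))
 (Tr.leaf (nat_lit 0xf9bb3d1ee85021001569fd7d2)))))))))
 (Tr.node (Tr.node (Tr.node (Tr.node (Tr.node (Tr.node (Tr.node (Tr.leaf (nat_lit 0x1b5bf80348158f1dffdbc1089))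
 (Tr.leaf (nat_lit 0x143a245e02d17fad05cf35f9a)))
 (Tr.node (Tr.leaf (nat_lit 0xf9bcecaeb88810804479fef58))
 (Tr.leaf (nat_lit 0xf9bb3d1ee85021001569fd7d2))))
 (Tr.node (Tr.node (Tr.leaf (nat_lit 0x15d086b00f97be854e0e6bf9c))
 (Tr.leaf (nat_lit 0x604492f5fd227af7fa350a035)))
 (Tr.node (Tr.leaf (nat_lit 0x441630dc43707bf522e73c5be))
 (Tr.leaf (nat_lit 0xf9bb3d1ee85021001569fd7d2)))))
 (Tr.node (Tr.node (Tr.node (Tr.leaf (nat_lit 0x5bdf9a00c9142c11fe43cb5de))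
 (Tr.leaf (nat_lit 0x52f7b810d3126ee1ffe340417)))
 (Tr.node (Tr.leaf (nat_lit 0xe8f9ec3bbc08d5c2753958a41))
 (Tr.leaf (nat_lit 0xf9bb3d1ee85021001569fd7d2))))
 (Tr.node (Tr.node (Tr.leaf (nat_lit 0xd380de07e69fff7ff8c003))
 (Tr.leaf (nat_lit 0xf9bb3d1ee85021001569fd7d2)))
 (Tr.node (Tr.leaf (nat_lit 0xebf5a6b2f74ad8407c3048c71))
 (Tr.leaf (nat_lit 0xf9bb3d1ee85021001569fd7d2))))))
 (Tr.node (Tr.node (Tr.node (Tr.node (Tr.leaf (nat_lit 0xd00271df7a3103a4a3e5f43be))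
 (Tr.leaf (nat_lit 0x7cedae3db00a7ceb56090ae03)))
 (Tr.node (Tr.leaf (nat_lit 0x9b7f70426245090cadd3e59fa))
 (Tr.leaf (nat_lit 0xf9bb3d1ee85021001569fd7d2))))
 (Tr.node (Tr.node (Tr.leaf (nat_lit 0x70b045fabe8036e0496d76fd4))
 (Tr.leaf (nat_lit 0x860b434b06fdc53ea18695bee)))
 (Tr.node (Tr.leaf (nat_lit 0x9fd7b290435788052e82e9dbe))
 (Tr.leaf (nat_lit 0xf9bb3d1ee85021001569fd7d2)))))
 (Tr.node (Tr.node (Tr.node (Tr.leaf (nat_lit 0xf6ea9f559db366a3910013217))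
 (Tr.leaf (nat_lit 0x7e679b75d1026e7b9a8103427)))
 (Tr.node (Tr.leaf (nat_lit 0xd059067bee146d84e5054dbde))
 (Tr.leaf (nat_lit 0xf9bb3d1ee85021001569fd7d2))))
 (Tr.node (Tr.node (Tr.leaf (nat_lit 0xb8bef0deb8c110a72df9b0911))
 (Tr.leaf (nat_lit 0xf9bb3d1ee85021001569fd7d2)))
 (Tr.node (Tr.leaf (nat_lit 0x5dfabc1409113f81164b7b79a))
 (Tr.leaf (nat_lit 0xf9bb3d1ee85021001569fd7d2)))))))
 (Tr.node (Tr.node (Tr.node (Tr.node (Tr.node (Tr.leaf (nat_lit 0x303424fef2c27aed4dfd24c11))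
 (Tr.leaf (nat_lit 0xede72f3c736af14a162028663)))
 (Tr.node (Tr.leaf (nat_lit 0xbf2dd3e7a4cf083e889887921))
 (Tr.leaf (nat_lit 0xf9bb3d1ee85021001569fd7d2))))
 (Tr.node (Tr.node (Tr.leaf (nat_lit 0xd1df78086a342184e763ec3de))
 (Tr.leaf (nat_lit 0xfadc7cc9f82400c16151fe8de)))
 (Tr.node (Tr.leaf (nat_lit 0xf6b63ddcd3f262e101e034417))
 (Tr.leaf (nat_lit 0xf9bb3d1ee85021001569fd7d2)))))
 (Tr.node (Tr.node (Tr.node (Tr.leaf (nat_lit 0x3182279e7af3b22d5f6ca0691))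
 (Tr.leaf (nat_lit 0x3a2035d7f0430a6919ddf7cb2)))
 (Tr.node (Tr.leaf (nat_lit 0xeb9eae8ed9f8d011747098459))
 (Tr.leaf (nat_lit 0xf9bb3d1ee85021001569fd7d2))))
 (Tr.node (Tr.node (Tr.leaf (nat_lit 0x1ca407fcb3cf3ceb0ecc22d03))
 (Tr.leaf (nat_lit 0xf9bb3d1ee85021001569fd7d2)))
 (Tr.node (Tr.leaf (nat_lit 0x7f8aef8f18b99639524892689))
 (Tr.leaf (nat_lit 0xf9bb3d1ee85021001569fd7d2))))))
 (Tr.node (Tr.node (Tr.node (Tr.node (Tr.leaf (nat_lit 0xf6b1edbb969ac6e041a854e05))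
 (Tr.leaf (nat_lit 0x26890f0984fee47b510e9fec6)))
 (Tr.node (Tr.leaf (nat_lit 0x117844622e853f8ccd5f67bd8))
 (Tr.leaf (nat_lit 0xf9bb3d1ee85021001569fd7d2))))
 (Tr.node (Tr.node (Tr.leaf (nat_lit 0x333fb806c0d26a3dddfb85411))
 (Tr.leaf (nat_lit 0x5488e250dbfff9fd61e0b209)))
 (Tr.node (Tr.leaf (nat_lit 0x214159216c26a35edb3fef2e4))
 (Tr.leaf (nat_lit 0xf9bb3d1ee85021001569fd7d2)))))
 (Tr.node (Tr.node (Tr.node (Tr.leaf (nat_lit 0x4820d1f7bd091ff2bafd52121))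
 (Tr.leaf (nat_lit 0x777fc26206807e3cc80307ffc)))
 (Tr.node (Tr.leaf (nat_lit 0xeedccee99dacd4d360101a84d))
 (Tr.leaf (nat_lit 0xf9bb3d1ee85021001569fd7d2))))
 (Tr.node (Tr.node (Tr.leaf (nat_lit 0x3a90568dd17fb7bdff11111))
 (Tr.leaf (nat_lit 0xf9bb3d1ee85021001569fd7d2)))
 (Tr.node (Tr.leaf (nat_lit 0x949c2232c0d9d1efe1fcbbe8))
 (Tr.leaf (nat_lit 0xf9bb3d1ee85021001569fd7d2))))))))
 (Tr.node (Tr.node (Tr.node (Tr.node (Tr.node (Tr.node (Tr.leaf (nat_lit 0x40e251503f2137e2bb67723f6))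
 (Tr.leaf (nat_lit 0x2859067bec44fd5f7d1d098c1)))
 (Tr.node (Tr.leaf (nat_lit 0x86604d6117afc7ca819677a6e))
 (Tr.leaf (nat_lit 0xf9bb3d1ee85021001569fd7d2))))
 (Tr.node (Tr.node (Tr.leaf (nat_lit 0xe7f4eca017aad2c040327ee7c))
 (Tr.leaf (nat_lit 0xe94fea2f7828d11ef63188269)))
 (Tr.node (Tr.leaf (nat_lit 0xa1090f2fecfee11ed53c8d241))
 (Tr.leaf (nat_lit 0xf9bb3d1ee85021001569fd7d2)))))
 (Tr.node (Tr.node (Tr.node (Tr.leaf (nat_lit 0x6c29077fa4487d7a100d1ffe2))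
 (Tr.leaf (nat_lit 0xc5702784344fd5f2e8729dee)))
 (Tr.node (Tr.leaf (nat_lit 0xdebea6de93d95ca124c010d1b))
 (Tr.leaf (nat_lit 0xf9bb3d1ee85021001569fd7d2))))
 (Tr.node (Tr.node (Tr.leaf (nat_lit 0xf3f45de0ffa622c0c97066055))
 (Tr.leaf (nat_lit 0xf9bb3d1ee85021001569fd7d2)))
 (Tr.node (Tr.leaf (nat_lit 0xf75c9ee5cdb66a95c0100f01d))
 (Tr.leaf (nat_lit 0xf9bb3d1ee85021001569fd7d2))))))
 (Tr.node (Tr.node (Tr.node (Tr.node (Tr.leaf (nat_lit 0x9429077fa6df6dae858c05b03))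
 (Tr.leaf (nat_lit 0x76f9bc1184126ee1510b5fe96)))
 (Tr.node (Tr.leaf (nat_lit 0x741886ff8c907eb5400d1ff9c))
 (Tr.leaf (nat_lit 0xf9bb3d1ee85021001569fd7d2))))
 (Tr.node (Tr.node (Tr.leaf (nat_lit 0xd1df78086a342184e763ec3de))
 (Tr.leaf (nat_lit 0xc83424fef34859c024f57cd7a)))
 (Tr.node (Tr.leaf (nat_lit 0x4204b885d13a4af1f2f7de43e))
 (Tr.leaf (nat_lit 0xf9bb3d1ee85021001569fd7d2)))))
 (Tr.node (Tr.node (Tr.node (Tr.leaf (nat_lit 0x61e033360bdfeeffbf40a21))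
 (Tr.leaf (nat_lit 0x9fbcbc8481df088104daffd1a)))
 (Tr.node (Tr.leaf (nat_lit 0x1461517126072fee8b8f67ba6))
 (Tr.leaf (nat_lit 0xf9bb3d1ee85021001569fd7d2))))
 (Tr.node (Tr.node (Tr.leaf (nat_lit 0x61e033360bdfeeffbf40a21))
 (Tr.leaf (nat_lit 0xf9bb3d1ee85021001569fd7d2)))
 (Tr.node (Tr.leaf (nat_lit 0x650127bf667afb7c522c0c6a1))
 (Tr.leaf (nat_lit 0xf9bb3d1ee85021001569fd7d2)))))))
 (Tr.node (Tr.node (Tr.node (Tr.node (Tr.node (Tr.leaf (nat_lit 0xd91df8afe81c0994e6f9cc109))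
 (Tr.leaf (nat_lit 0xef366dee53e8d35800f034469)))
 (Tr.node (Tr.leaf (nat_lit 0xad3fe82e00c8d11e04bbbdf68))
 (Tr.leaf (nat_lit 0xf9bb3d1ee85021001569fd7d2))))
 (Tr.node (Tr.node (Tr.leaf (nat_lit 0xe8643c813ed947b2ac6b2dee))
 (Tr.leaf (nat_lit 0xfb36d9e6d980021088f1f757c)))
 (Tr.node (Tr.leaf (nat_lit 0xbeac7dcdb0ef00eb01d8b6803))
 (Tr.leaf (nat_lit 0xf9bb3d1ee85021001569fd7d2)))))
 (Tr.node (Tr.node (Tr.node (Tr.leaf (nat_lit 0x29df78086864b15f7f7ba80c1))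
 (Tr.leaf (nat_lit 0xc5dfca280fbcf596e6220834d)))
 (Tr.node (Tr.leaf (nat_lit 0xeb9eae8ed9f8d011747098459))
 (Tr.leaf (nat_lit 0xf9bb3d1ee85021001569fd7d2))))
 (Tr.node (Tr.node (Tr.leaf (nat_lit 0xbf7175f366478b4c0998658a1))
 (Tr.leaf (nat_lit 0xf9bb3d1ee85021001569fd7d2)))
 (Tr.node (Tr.leaf (nat_lit 0x802e604e32e951aea5f7b4b7a))
 (Tr.leaf (nat_lit 0xf9bb3d1ee85021001569fd7d2))))))
 (Tr.node (Tr.node (Tr.node (Tr.node (Tr.leaf (nat_lit 0x2ffd8e2085cefc5b5c1a0bc41))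
 (Tr.leaf (nat_lit 0xccf7e8381308d5c226a378f6e)))
 (Tr.node (Tr.leaf (nat_lit 0x124470c172270aedebd7e68be))
 (Tr.leaf (nat_lit 0xf9bb3d1ee85021001569fd7d2))))
 (Tr.node (Tr.node (Tr.leaf (nat_lit 0x8931918c954a5533feff95c6))
 (Tr.leaf (nat_lit 0xede0fdb53d2b93c212387a221)))
 (Tr.node (Tr.leaf (nat_lit 0xffc2bf95593382011200fb6be))
 (Tr.leaf (nat_lit 0xf9bb3d1ee85021001569fd7d2)))))
 (Tr.node (Tr.node (Tr.node (Tr.leaf (nat_lit 0xf0cfba1df83260a7f72188217))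
 (Tr.leaf (nat_lit 0x2d4017f56d67bb5f1a1c2b0a1)))
 (Tr.node (Tr.leaf (nat_lit 0xc3fd3c00e77e69c0f5724c053))
 (Tr.leaf (nat_lit 0xf9bb3d1ee85021001569fd7d2))))
 (Tr.node (Tr.node (Tr.leaf (nat_lit 0x57e97d01263f2fe8d34a46283))
 (Tr.leaf (nat_lit 0xf9bb3d1ee85021001569fd7d2)))
 (Tr.node (Tr.leaf (nat_lit 0x415382324f10ff14fe27497fc))
 (Tr.leaf (nat_lit 0xf9bb3d1ee85021001569fd7d2))))))))))
 (Tr.node (Tr.node (Tr.node (Tr.node (Tr.node (Tr.node (Tr.node (Tr.node (Tr.leaf (nat_lit 0xf5bda6bea6da78a444280cf11))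
 (Tr.leaf (nat_lit 0x258293940df3b2371a2ebb7b4)))
 (Tr.node (Tr.leaf (nat_lit 0xc50d0f10d059fd72a9f7b9ac))
 (Tr.leaf (nat_lit 0xf9bb3d1ee85021001569fd7d2))))
 (Tr.node (Tr.node (Tr.leaf (nat_lit 0xce7dd861850c4dd2a0935f96e))
 (Tr.leaf (nat_lit 0x415450e06f243bd4ea776e1fc)))
 (Tr.node (Tr.leaf (nat_lit 0xa20543ebf6eec07ee9b484865))
 (Tr.leaf (nat_lit 0xf9bb3d1ee85021001569fd7d2)))))
 (Tr.node (Tr.node (Tr.node (Tr.leaf (nat_lit 0x4b4047e37f2d9f58fa54420e9))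
 (Tr.leaf (nat_lit 0x1d034906f77bbc57f7e68091)))
 (Tr.node (Tr.leaf (nat_lit 0xffc56fa9722e80484200eeeee))
 (Tr.leaf (nat_lit 0xf9bb3d1ee85021001569fd7d2))))
 (Tr.node (Tr.node (Tr.leaf (nat_lit 0xbec773d97267806f2b80a08a7))
 (Tr.leaf (nat_lit 0xf9bb3d1ee85021001569fd7d2)))
 (Tr.node (Tr.leaf (nat_lit 0xbdfc96f4adc738870c182b911))
 (Tr.leaf (nat_lit 0xf9bb3d1ee85021001569fd7d2))))))
 (Tr.node (Tr.node (Tr.node (Tr.node (Tr.leaf (nat_lit 0xd1840facfbbe2080c664ee75e))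
 (Tr.leaf (nat_lit 0x1faf9b0481df2c3b9eca83503)))
 (Tr.node (Tr.leaf (nat_lit 0x2404e8ad10aad2ff42bfbee2c))
 (Tr.leaf (nat_lit 0xf9bb3d1ee85021001569fd7d2))))
 (Tr.node (Tr.node (Tr.leaf (nat_lit 0xb7df2e0842f6e00d4502adede))
 (Tr.leaf (nat_lit 0x1701c3a3069f8e3cca8ec7fac)))
 (Tr.node (Tr.leaf (nat_lit 0xda7d6c6bf20c4dc8e5d14484b))
 (Tr.leaf (nat_lit 0xf9bb3d1ee85021001569fd7d2)))))
 (Tr.node (Tr.node (Tr.node (Tr.leaf (nat_lit 0xf3f38f32df92e600dd2041655))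
 (Tr.leaf (nat_lit 0x30038b3fd892e63fdfad81605)))
 (Tr.node (Tr.leaf (nat_lit 0x9843437b7a05850eaf85e1bee))
 (Tr.leaf (nat_lit 0xf9bb3d1ee85021001569fd7d2))))
 (Tr.node (Tr.node (Tr.leaf (nat_lit 0xa295143a44d0d7ab9dfd79e2))
 (Tr.leaf (nat_lit 0xf9bb3d1ee85021001569fd7d2)))
 (Tr.node (Tr.leaf (nat_lit 0x710193b7ec122a34da2dcf7b4))
 (Tr.leaf (nat_lit 0xf9bb3d1ee85021001569fd7d2)))))))
 (Tr.node (Tr.node (Tr.node (Tr.node (Tr.node (Tr.leaf (nat_lit 0x7fbd47eaa6cc3c78484806dc1))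
 (Tr.leaf (nat_lit 0x1ff33d104357af491fca61483)))
 (Tr.node (Tr.leaf (nat_lit 0xf5e6d3f43fa332a68a2022335))
 (Tr.leaf (nat_lit 0xf9bb3d1ee85021001569fd7d2))))
 (Tr.node (Tr.node (Tr.leaf (nat_lit 0x91560aa624c995c6effecde8))
 (Tr.leaf (nat_lit 0xfe736d7b5200c748018175eee)))
 (Tr.node (Tr.leaf (nat_lit 0xf73793f6c7d26a3488a005535))
 (Tr.leaf (nat_lit 0xf9bb3d1ee85021001569fd7d2)))))
 (Tr.node (Tr.node (Tr.node (Tr.leaf (nat_lit 0x82c88e019dbfc483f516dba5e))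
 (Tr.leaf (nat_lit 0xdf53d3f34f158f14aa80411ad)))
 (Tr.node (Tr.leaf (nat_lit 0xbd979bbcc9d6a0170ea8a9505))
 (Tr.leaf (nat_lit 0xf9bb3d1ee85021001569fd7d2))))
 (Tr.node (Tr.node (Tr.leaf (nat_lit 0x91006daf7abf838cc7fce4209))
 (Tr.leaf (nat_lit 0xf9bb3d1ee85021001569fd7d2)))
 (Tr.node (Tr.leaf (nat_lit 0x7f8aef8f18b99639524892689))
 (Tr.leaf (nat_lit 0xf9bb3d1ee85021001569fd7d2))))))
 (Tr.node (Tr.node (Tr.node (Tr.node (Tr.leaf (nat_lit 0x1f9fe28a02dd9c3d6eca80d89))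
 (Tr.leaf (nat_lit 0x801e184cc9f46197a5f7bd15e)))
 (Tr.node (Tr.leaf (nat_lit 0xe2edf801b42a40e2f133dea76))
 (Tr.leaf (nat_lit 0xf9bb3d1ee85021001569fd7d2))))
 (Tr.node (Tr.node (Tr.leaf (nat_lit 0x29840facf9eeb05b5e7caa441))
 (Tr.leaf (nat_lit 0x57ded2c00fb53eb5ea420219d)))
 (Tr.node (Tr.leaf (nat_lit 0x224ac2431ca1d63ff91793afc))
 (Tr.leaf (nat_lit 0xf9bb3d1ee85021001569fd7d2)))))
 (Tr.node (Tr.node (Tr.node (Tr.leaf (nat_lit 0xbef0ddf19d8786c3099873805))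
 (Tr.leaf (nat_lit 0xfd4f5b6d6824211e8201af3ee)))
 (Tr.node (Tr.leaf (nat_lit 0x80751070e74669c6adb76d976))
 (Tr.leaf (nat_lit 0xf9bb3d1ee85021001569fd7d2))))
 (Tr.node (Tr.node (Tr.leaf (nat_lit 0x3c0513fde046287f0a8dafda6))
 (Tr.leaf (nat_lit 0xf9bb3d1ee85021001569fd7d2)))
 (Tr.node (Tr.leaf (nat_lit 0x8c86c09382d95cb775ffaaca))
 (Tr.leaf (nat_lit 0xf9bb3d1ee85021001569fd7d2))))))))
 (Tr.node (Tr.node (Tr.node (Tr.node (Tr.node (Tr.node (Tr.leaf (nat_lit 0xea73d973dd00c752b9b151065))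
 (Tr.leaf (nat_lit 0x1218d0c38c950eb5e9dfd799c)))
 (Tr.node (Tr.leaf (nat_lit 0x1124e0a6328b1aacceffe6f38))
 (Tr.leaf (nat_lit 0xf9bb3d1ee85021001569fd7d2))))
 (Tr.node (Tr.node (Tr.leaf (nat_lit 0xd62087f7979b4ea0808457f3e))
 (Tr.leaf (nat_lit 0xb1fdd820ac862086cd3befb54)))
 (Tr.node (Tr.leaf (nat_lit 0x8df5f0b0274f99c62eba68921))
 (Tr.leaf (nat_lit 0xf9bb3d1ee85021001569fd7d2)))))
 (Tr.node (Tr.node (Tr.node (Tr.leaf (nat_lit 0x744426fd72227aed42052eebe))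
 (Tr.leaf (nat_lit 0xa20293d7ddf3c237b9b491035)))
 (Tr.node (Tr.leaf (nat_lit 0xbbee1f44f9e7200b9d50a3053))
 (Tr.leaf (nat_lit 0xf9bb3d1ee85021001569fd7d2))))
 (Tr.node (Tr.node (Tr.leaf (nat_lit 0xa81151fbec44815629bdfd9e4))
 (Tr.leaf (nat_lit 0xf9bb3d1ee85021001569fd7d2)))
 (Tr.node (Tr.leaf (nat_lit 0xddee4f6c3bad358a86402234b))
 (Tr.leaf (nat_lit 0xf9bb3d1ee85021001569fd7d2))))))
 (Tr.node (Tr.node (Tr.node (Tr.node (Tr.leaf (nat_lit 0x2a8847cbbced947b795c928c1))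
 (Tr.leaf (nat_lit 0xfca5f9bdb00a00e202a9fef26)))
 (Tr.node (Tr.leaf (nat_lit 0xde10730274fbd4a1e0e6bfe2))
 (Tr.leaf (nat_lit 0xf9bb3d1ee85021001569fd7d2))))
 (Tr.node (Tr.node (Tr.leaf (nat_lit 0xc0c70cd206d19ff22dfbe9aa))
 (Tr.leaf (nat_lit 0xe819391855f8c733a8edbda6)))
 (Tr.node (Tr.leaf (nat_lit 0x629207dadff0f6717964104d5))
 (Tr.leaf (nat_lit 0xf9bb3d1ee85021001569fd7d2)))))
 (Tr.node (Tr.node (Tr.node (Tr.leaf (nat_lit 0x9cdbf81908158587278bf9b8e))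
 (Tr.leaf (nat_lit 0xc60ac35110bdfcb169f7be2a)))
 (Tr.node (Tr.leaf (nat_lit 0x16806d8912bf86e943cef6e8e))
 (Tr.leaf (nat_lit 0xf9bb3d1ee85021001569fd7d2))))
 (Tr.node (Tr.node (Tr.leaf (nat_lit 0xa69df88984fec0f761ba9c805))
 (Tr.leaf (nat_lit 0xf9bb3d1ee85021001569fd7d2)))
 (Tr.node (Tr.leaf (nat_lit 0x38aa075eb8c1342b1d4db3fd2))
 (Tr.leaf (nat_lit 0xf9bb3d1ee85021001569fd7d2)))))))
 (Tr.node (Tr.node (Tr.node (Tr.node (Tr.node (Tr.leaf (nat_lit 0xeeb7c3fa97c8d47228a010d65))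
 (Tr.leaf (nat_lit 0x1aedf801b00f0cebffdbc2803)))
 (Tr.node (Tr.leaf (nat_lit 0xad3fe82e00c8d11e04bbbdf68))
 (Tr.leaf (nat_lit 0xf9bb3d1ee85021001569fd7d2))))
 (Tr.node (Tr.node (Tr.leaf (nat_lit 0xff9e1fccc9f420110040bf5de))
 (Tr.leaf (nat_lit 0xfb6dae27f00a4808d411cfe7a)))
 (Tr.node (Tr.leaf (nat_lit 0x8a610773f74fcd4abd9441863))
 (Tr.leaf (nat_lit 0xf9bb3d1ee85021001569fd7d2)))))
 (Tr.node (Tr.node (Tr.node (Tr.leaf (nat_lit 0xf6dd36d9e67668e561000c897))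
 (Tr.leaf (nat_lit 0x49251d80ff5b7f72bee30185)))
 (Tr.node (Tr.leaf (nat_lit 0xedbb8f3e8dd8f512142819741))
 (Tr.leaf (nat_lit 0xf9bb3d1ee85021001569fd7d2))))
 (Tr.node (Tr.node (Tr.leaf (nat_lit 0x42331152c7506f70b9e7555f6))
 (Tr.leaf (nat_lit 0xf9bb3d1ee85021001569fd7d2)))
 (Tr.node (Tr.leaf (nat_lit 0x3f3ef0c600c11a3d08dbb7db8))
 (Tr.leaf (nat_lit 0xf9bb3d1ee85021001569fd7d2))))))
 (Tr.node (Tr.node (Tr.node (Tr.node (Tr.leaf (nat_lit 0x920c26cff2ff48ade5d48481b))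
 (Tr.leaf (nat_lit 0x84da06580ff5f587250639bde)))
 (Tr.node (Tr.leaf (nat_lit 0x6daf790c2068317a126bbe7e2))
 (Tr.leaf (nat_lit 0xf9bb3d1ee85021001569fd7d2))))
 (Tr.node (Tr.node (Tr.leaf (nat_lit 0x50212d3ff21a6fe8d7ed44603))
 (Tr.leaf (nat_lit 0xa8212d3ff04ac14a15bdfde62)))
 (Tr.node (Tr.leaf (nat_lit 0x3defb2142043382f1e0babfb2))
 (Tr.leaf (nat_lit 0xf9bb3d1ee85021001569fd7d2)))))
 (Tr.node (Tr.node (Tr.node (Tr.leaf (nat_lit 0x2403391d4072e37f13afbd6a6))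
 (Tr.leaf (nat_lit 0xebf275d27f6193403970700f1)))
 (Tr.node (Tr.leaf (nat_lit 0x7fd19fb1cd16ae515a084b485))
 (Tr.leaf (nat_lit 0xf9bb3d1ee85021001569fd7d2))))
 (Tr.node (Tr.node (Tr.leaf (nat_lit 0x8d9ef88c09fd919726fab8109))
 (Tr.leaf (nat_lit 0xf9bb3d1ee85021001569fd7d2)))
 (Tr.node (Tr.leaf (nat_lit 0x759ef88c08b032b5426bbe79c))
 (Tr.leaf (nat_lit 0xf9bb3d1ee85021001569fd7d2)))))))))
 (Tr.node (Tr.node (Tr.node (Tr.node (Tr.node (Tr.node (Tr.node (Tr.leaf (nat_lit 0xd7fd8e20879e6c80c4024ff5e))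
 (Tr.leaf (nat_lit 0xfe74bcf5d1024ac100917fc3e)))
 (Tr.node (Tr.leaf (nat_lit 0xf76ce6e736ab5aacc01006a39))
 (Tr.leaf (nat_lit 0xf9bb3d1ee85021001569fd7d2))))
 (Tr.node (Tr.node (Tr.leaf (nat_lit 0x15d086b00f97be854e0e6bf9c))
 (Tr.leaf (nat_lit 0x217124326642fb4c5d3f6def0)))
 (Tr.node (Tr.leaf (nat_lit 0x96cfea0912bfc4afe78280a0f))
 (Tr.leaf (nat_lit 0xf9bb3d1ee85021001569fd7d2)))))
 (Tr.node (Tr.node (Tr.node (Tr.leaf (nat_lit 0x6881c3bbbc0894727a2ddafe4))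
 (Tr.leaf (nat_lit 0x34f7e8381282f6ef4fab20e05)))
 (Tr.node (Tr.leaf (nat_lit 0xb93f596ee8c4211e8df9a5141))
 (Tr.leaf (nat_lit 0xf9bb3d1ee85021001569fd7d2))))
 (Tr.node (Tr.node (Tr.leaf (nat_lit 0x23901d80cdf6a251597eff4d4))
 (Tr.leaf (nat_lit 0xf9bb3d1ee85021001569fd7d2)))
 (Tr.node (Tr.leaf (nat_lit 0x67bcbc8485fa7af1507a1e411))
 (Tr.leaf (nat_lit 0xf9bb3d1ee85021001569fd7d2))))))
 (Tr.node (Tr.node (Tr.node (Tr.node (Tr.leaf (nat_lit 0x20c0f0913c2392e77b3ffaab4))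
 (Tr.leaf (nat_lit 0xd2bfe80a929844a0e5e3d4f5e)))
 (Tr.node (Tr.leaf (nat_lit 0xb04c0e6df8a6608fc515afa5e))
 (Tr.leaf (nat_lit 0xf9bb3d1ee85021001569fd7d2))))
 (Tr.node (Tr.node (Tr.leaf (nat_lit 0x2468345524637bef111f3fab2))
 (Tr.leaf (nat_lit 0xa3df9a00cdf6e017fd3289055)))
 (Tr.node (Tr.leaf (nat_lit 0xbf7175f366478b4c0998658a1))
 (Tr.leaf (nat_lit 0xf9bb3d1ee85021001569fd7d2)))))
 (Tr.node (Tr.node (Tr.node (Tr.leaf (nat_lit 0x2e2087f795cbde7b189c13c21))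
 (Tr.leaf (nat_lit 0xebc5dba1fd2e8052fa30ca065)))
 (Tr.node (Tr.leaf (nat_lit 0x2211b093c452ca7579bfddcb4))
 (Tr.leaf (nat_lit 0xf9bb3d1ee85021001569fd7d2))))
 (Tr.node (Tr.node (Tr.leaf (nat_lit 0x8be77900736f814abff2e0063))
 (Tr.leaf (nat_lit 0xf9bb3d1ee85021001569fd7d2)))
 (Tr.node (Tr.leaf (nat_lit 0xfccef2dd382110a72201babbe))
 (Tr.leaf (nat_lit 0xf9bb3d1ee85021001569fd7d2)))))))
 (Tr.node (Tr.node (Tr.node (Tr.node (Tr.node (Tr.leaf (nat_lit 0xdf3f0f6ec3dc6d1884c00554b))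
 (Tr.leaf (nat_lit 0x95af790c22ff21ae87eaa4303)))
 (Tr.node (Tr.leaf (nat_lit 0xef5ab6d74d71db153010190b9))
 (Tr.leaf (nat_lit 0xf9bb3d1ee85021001569fd7d2))))
 (Tr.node (Tr.node (Tr.leaf (nat_lit 0x6bbdf082a4481870787bdedf0))
 (Tr.leaf (nat_lit 0x20ac2c0cb0ea70eb557fbee52)))
 (Tr.node (Tr.leaf (nat_lit 0x4cbfb81c81587df336eb18503))
 (Tr.leaf (nat_lit 0xf9bb3d1ee85021001569fd7d2)))))
 (Tr.node (Tr.node (Tr.node (Tr.leaf (nat_lit 0xea2f794ff068417ab1f194063))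
 (Tr.leaf (nat_lit 0x7aff265af2407c697d4100cd3)))
 (Tr.node (Tr.leaf (nat_lit 0x361107fbc6d6ee7d498c05c85))
 (Tr.leaf (nat_lit 0xf9bb3d1ee85021001569fd7d2))))
 (Tr.node (Tr.node (Tr.leaf (nat_lit 0x51a087b6bf9b3ea0de6c42711))
 (Tr.leaf (nat_lit 0xf9bb3d1ee85021001569fd7d2)))
 (Tr.node (Tr.leaf (nat_lit 0x1123311662532b2c9fefe57b2))
 (Tr.leaf (nat_lit 0xf9bb3d1ee85021001569fd7d2))))))
 (Tr.node (Tr.node (Tr.node (Tr.node (Tr.leaf (nat_lit 0x9779ec23069fcf8cc59a45a09))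
 (Tr.leaf (nat_lit 0x7cb6d9fc998036f30ae932505)))
 (Tr.node (Tr.leaf (nat_lit 0xc3faec021fb9d780f57250259))
 (Tr.leaf (nat_lit 0xf9bb3d1ee85021001569fd7d2))))
 (Tr.node (Tr.node (Tr.leaf (nat_lit 0xc0aa075ebff975a2b56410353))
 (Tr.leaf (nat_lit 0x523833607dbff3e9eae01721)))
 (Tr.node (Tr.leaf (nat_lit 0x3bfaec02188196095d5bf3ed8))
 (Tr.leaf (nat_lit 0xf9bb3d1ee85021001569fd7d2)))))
 (Tr.node (Tr.node (Tr.node (Tr.leaf (nat_lit 0x8f4fba05417fc91fb6928902b))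
 (Tr.leaf (nat_lit 0x258543a826eeb07e4a2eaefe4)))
 (Tr.node (Tr.leaf (nat_lit 0x5142cac43fefbdd46fe2c409))
 (Tr.leaf (nat_lit 0xf9bb3d1ee85021001569fd7d2))))
 (Tr.node (Tr.node (Tr.leaf (nat_lit 0x44219935851a6ff292af5f726))
 (Tr.leaf (nat_lit 0xf9bb3d1ee85021001569fd7d2)))
 (Tr.node (Tr.leaf (nat_lit 0xb34047e37ea7820cc914e7afc))
 (Tr.leaf (nat_lit 0xf9bb3d1ee85021001569fd7d2))))))))
 (Tr.node (Tr.node (Tr.node (Tr.node (Tr.node (Tr.node (Tr.leaf (nat_lit 0x13c20f005bb7a609df46e36de))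
 (Tr.leaf (nat_lit 0x1228ac07909b4ea9d5dfd7e1a)))
 (Tr.node (Tr.leaf (nat_lit 0xbda7e3be32cb902e0ea8a0f21))
 (Tr.leaf (nat_lit 0xf9bb3d1ee85021001569fd7d2))))
 (Tr.node (Tr.node (Tr.leaf (nat_lit 0xc140a6b77f3bdb84f63448239))
 (Tr.leaf (nat_lit 0xfadbae1bd810c4017501d9ede)))
 (Tr.node (Tr.leaf (nat_lit 0x67bb6d0a06f8f778516a146c1))
 (Tr.leaf (nat_lit 0xf9bb3d1ee85021001569fd7d2)))))
 (Tr.node (Tr.node (Tr.node (Tr.leaf (nat_lit 0xf3045e207cd9f5808de77de8))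
 (Tr.leaf (nat_lit 0xde8edbcd99bd04b3a2c09210f)))
 (Tr.node (Tr.leaf (nat_lit 0xa0d406f8ffe6f0c76d3428855))
 (Tr.leaf (nat_lit 0xf9bb3d1ee85021001569fd7d2))))
 (Tr.node (Tr.node (Tr.leaf (nat_lit 0x81c313106f77a106bf26e93f6))
 (Tr.leaf (nat_lit 0xf9bb3d1ee85021001569fd7d2)))
 (Tr.node (Tr.leaf (nat_lit 0x693015f6ed403b50187d7f5f0))
 (Tr.leaf (nat_lit 0xf9bb3d1ee85021001569fd7d2))))))
 (Tr.node (Tr.node (Tr.node (Tr.node (Tr.leaf (nat_lit 0xb4bfb81c80d260a705abbdf16))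
 (Tr.leaf (nat_lit 0xf43bd97f8c9067b681a915305)))
 (Tr.node (Tr.leaf (nat_lit 0x596207767b013f089e45637fa))
 (Tr.leaf (nat_lit 0xf9bb3d1ee85021001569fd7d2))))
 (Tr.node (Tr.node (Tr.leaf (nat_lit 0xff9e1fccc9f420110040bf5de))
 (Tr.leaf (nat_lit 0x831582a2c7dec814ecb6cdd7c)))
 (Tr.node (Tr.leaf (nat_lit 0x170613c443f72a3d8ac6a75be))
 (Tr.leaf (nat_lit 0xf9bb3d1ee85021001569fd7d2)))))
 (Tr.node (Tr.node (Tr.node (Tr.leaf (nat_lit 0xf179bc37ec126b84d5394d211))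
 (Tr.leaf (nat_lit 0x2708a68704fbda3d501e9feb8)))
 (Tr.node (Tr.leaf (nat_lit 0x43851380e77e2870fa66ce5f6))
 (Tr.leaf (nat_lit 0xf9bb3d1ee85021001569fd7d2))))
 (Tr.node (Tr.node (Tr.leaf (nat_lit 0x1d1207fe4bd5bf1d0ecc21589))
 (Tr.leaf (nat_lit 0xf9bb3d1ee85021001569fd7d2)))
 (Tr.node (Tr.leaf (nat_lit 0xd54017f56f372b8482046f3be))
 (Tr.leaf (nat_lit 0xf9bb3d1ee85021001569fd7d2)))))))
 (Tr.node (Tr.node (Tr.node (Tr.node (Tr.node (Tr.leaf (nat_lit 0x40e58230b70a7ce2fe274af76))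
 (Tr.leaf (nat_lit 0xa4101dfdcdf6e3d701bc3d005)))
 (Tr.node (Tr.leaf (nat_lit 0xbdcceead38af908f4618aaa09))
 (Tr.leaf (nat_lit 0xf9bb3d1ee85021001569fd7d2))))
 (Tr.node (Tr.node (Tr.leaf (nat_lit 0xe8643c813ed947b2ac6b2dee))
 (Tr.leaf (nat_lit 0x710643ee7aa0323cca65a67fc)))
 (Tr.node (Tr.leaf (nat_lit 0x95f3d9300f97a7868faa61305))
 (Tr.leaf (nat_lit 0xf9bb3d1ee85021001569fd7d2)))))
 (Tr.node (Tr.node (Tr.node (Tr.leaf (nat_lit 0x180b135fe8552d3fbfcd81183))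
 (Tr.leaf (nat_lit 0x8ef9bc11855fcdc3359a59803)))
 (Tr.node (Tr.leaf (nat_lit 0x4203690b5238c778f3e7d46ee))
 (Tr.leaf (nat_lit 0xf9bb3d1ee85021001569fd7d2))))
 (Tr.node (Tr.node (Tr.leaf (nat_lit 0x9c808fbd999f8483068cfbf0e))
 (Tr.leaf (nat_lit 0xf9bb3d1ee85021001569fd7d2)))
 (Tr.node (Tr.leaf (nat_lit 0x3c02c3ff1881963f0a8db3fac))
 (Tr.leaf (nat_lit 0xf9bb3d1ee85021001569fd7d2))))))
 (Tr.node (Tr.node (Tr.node (Tr.node (Tr.leaf (nat_lit 0x5a0543ebf20c0c78eac5c6dee))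
 (Tr.leaf (nat_lit 0x4b77e8225308df58fef340469)))
 (Tr.node (Tr.leaf (nat_lit 0x2404e8ad10aad2ff42bfbee2c))
 (Tr.leaf (nat_lit 0xf9bb3d1ee85021001569fd7d2))))
 (Tr.node (Tr.node (Tr.leaf (nat_lit 0x185064fb7a059fcd6fdd60889))
 (Tr.leaf (nat_lit 0x209b821a8cd0f4377d2f99fd4)))
 (Tr.node (Tr.leaf (nat_lit 0x81c4c2a03faf9086ee36eab7c))
 (Tr.leaf (nat_lit 0xf9bb3d1ee85021001569fd7d2)))))
 (Tr.node (Tr.node (Tr.node (Tr.leaf (nat_lit 0x977e3c4443f76b8d85d22501b))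
 (Tr.leaf (nat_lit 0x35a06424ff5ff1dfd56010d9)))
 (Tr.node (Tr.leaf (nat_lit 0x38c10f39f806a44b5f0debec6))
 (Tr.leaf (nat_lit 0xf9bb3d1ee85021001569fd7d2))))
 (Tr.node (Tr.node (Tr.leaf (nat_lit 0xc5efb214277b79a6b62208333))
 (Tr.leaf (nat_lit 0xf9bb3d1ee85021001569fd7d2)))
 (Tr.node (Tr.leaf (nat_lit 0x6a0c26cff068587970559ecfa))
 (Tr.leaf (nat_lit 0xf9bb3d1ee85021001569fd7d2)))))))))))
 (Tr.node (Tr.node (Tr.node (Tr.node (Tr.node (Tr.node (Tr.node (Tr.node (Tr.node (Tr.leaf (nat_lit 0xa4259415925875bbbd7f30ee))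
 (Tr.leaf (nat_lit 0x275406e047e6fa5d48162fcfc)))
 (Tr.node (Tr.leaf (nat_lit 0xb60227df52f3c22d0184b5ebe))
 (Tr.leaf (nat_lit 0xf9bb3d1ee85021001569fd7d2))))
 (Tr.node (Tr.node (Tr.leaf (nat_lit 0x7f8d3f8de07e287952488e483))
 (Tr.leaf (nat_lit 0x604492f5fd227af7fa350a035)))
 (Tr.node (Tr.leaf (nat_lit 0x367dd86184866effc99b07805))
 (Tr.leaf (nat_lit 0xf9bb3d1ee85021001569fd7d2)))))
 (Tr.node (Tr.node (Tr.node (Tr.leaf (nat_lit 0x5a0293d7d9110e31bac5d35be))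
 (Tr.leaf (nat_lit 0x4e0227df5379df7932c4104ab)))
 (Tr.node (Tr.leaf (nat_lit 0xe2edf801b42a40e2f133dea76))
 (Tr.leaf (nat_lit 0xf9bb3d1ee85021001569fd7d2))))
 (Tr.node (Tr.node (Tr.leaf (nat_lit 0x799fb29ee85038357e6988591))
 (Tr.leaf (nat_lit 0xf9bb3d1ee85021001569fd7d2)))
 (Tr.node (Tr.leaf (nat_lit 0x4108f0872c391bb4f27fde3b8))
 (Tr.leaf (nat_lit 0xf9bb3d1ee85021001569fd7d2))))))
 (Tr.node (Tr.node (Tr.node (Tr.node (Tr.leaf (nat_lit 0x1243a2135213ce2dff87c1ebe))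
 (Tr.leaf (nat_lit 0x501151fbee142ff4ebed44185)))
 (Tr.node (Tr.leaf (nat_lit 0x408e8a0c99b874b3f6679a75e))
 (Tr.leaf (nat_lit 0xf9bb3d1ee85021001569fd7d2))))
 (Tr.node (Tr.node (Tr.leaf (nat_lit 0x410f220e6278793cf6678c7fa))
 (Tr.leaf (nat_lit 0x8198648a2efd9184657efcbd8)))
 (Tr.node (Tr.leaf (nat_lit 0xd8abf91fb81905a2b7e9d0303))
 (Tr.leaf (nat_lit 0xf9bb3d1ee85021001569fd7d2)))))
 (Tr.node (Tr.node (Tr.node (Tr.leaf (nat_lit 0x40b9241aa6587de0756f5cfd2))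
 (Tr.leaf (nat_lit 0x7b25f9a7f00a0a78daf9c6421)))
 (Tr.node (Tr.leaf (nat_lit 0x8a3611a3249956a3feff0fe2))
 (Tr.leaf (nat_lit 0xf9bb3d1ee85021001569fd7d2))))
 (Tr.node (Tr.node (Tr.leaf (nat_lit 0x7e57e2fb5200de7d6a8100cad))
 (Tr.leaf (nat_lit 0xf9bb3d1ee85021001569fd7d2)))
 (Tr.node (Tr.leaf (nat_lit 0x710193b7ec122a34da2dcf7b4))
 (Tr.leaf (nat_lit 0xf9bb3d1ee85021001569fd7d2)))))))
 (Tr.node (Tr.node (Tr.node (Tr.node (Tr.node (Tr.leaf (nat_lit 0x158c268c22ff38ad464eaef9a))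
 (Tr.leaf (nat_lit 0x30688677bc837eafdd1d03a11)))
 (Tr.node (Tr.leaf (nat_lit 0xf707ebaf52bac23cc2a08462d))
 (Tr.leaf (nat_lit 0xf9bb3d1ee85021001569fd7d2))))
 (Tr.node (Tr.node (Tr.leaf (nat_lit 0xef5d66eb666cd95c60100c8e9))
 (Tr.leaf (nat_lit 0x5dfd6c28220c3dc8464b6efca)))
 (Tr.node (Tr.leaf (nat_lit 0xeeeb675b3669d56a310010ae3))
 (Tr.leaf (nat_lit 0xf9bb3d1ee85021001569fd7d2)))))
 (Tr.node (Tr.node (Tr.node (Tr.leaf (nat_lit 0xc80459edf92c01d2a2f5fe16e))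
 (Tr.leaf (nat_lit 0xf76b375766736b2c9100052b3)))
 (Tr.node (Tr.leaf (nat_lit 0x10953098e25628e56fefecd96))
 (Tr.leaf (nat_lit 0xf9bb3d1ee85021001569fd7d2))))
 (Tr.node (Tr.node (Tr.leaf (nat_lit 0xf3c3f3937e338224fb20c02b5))
 (Tr.leaf (nat_lit 0xf9bb3d1ee85021001569fd7d2)))
 (Tr.node (Tr.leaf (nat_lit 0xb963f9377803830e9fb9e1221))
 (Tr.leaf (nat_lit 0xf9bb3d1ee85021001569fd7d2))))))
 (Tr.node (Tr.node (Tr.node (Tr.node (Tr.leaf (nat_lit 0x7cddd2f9ac043cf76a090a985))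
 (Tr.leaf (nat_lit 0x26890f0984fee47b510e9fec6)))
 (Tr.node (Tr.leaf (nat_lit 0x20f08c309d82f6c35d3f7be54))
 (Tr.leaf (nat_lit 0xf9bb3d1ee85021001569fd7d2))))
 (Tr.node (Tr.node (Tr.leaf (nat_lit 0x6eff925085407c7338031bdf6))
 (Tr.leaf (nat_lit 0x209c50c8ace430f7697fbe9d4)))
 (Tr.node (Tr.leaf (nat_lit 0x8a4b094b14b18e33efffad32))
 (Tr.leaf (nat_lit 0xf9bb3d1ee85021001569fd7d2)))))
 (Tr.node (Tr.node (Tr.node (Tr.leaf (nat_lit 0x280d9819dbf86f3fbfed2005))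
 (Tr.leaf (nat_lit 0xb66ef84510a342af8193b7a3e)))
 (Tr.node (Tr.leaf (nat_lit 0x43851380e77e2870fa66ce5f6))
 (Tr.leaf (nat_lit 0xf9bb3d1ee85021001569fd7d2))))
 (Tr.node (Tr.node (Tr.leaf (nat_lit 0xee87bb9dd17ac07332a098427))
 (Tr.leaf (nat_lit 0xf9bb3d1ee85021001569fd7d2)))
 (Tr.node (Tr.leaf (nat_lit 0x111498a4c9962a95ceffef51c))
 (Tr.leaf (nat_lit 0xf9bb3d1ee85021001569fd7d2))))))))
 (Tr.node (Tr.node (Tr.node (Tr.node (Tr.node (Tr.node (Tr.leaf (nat_lit 0xec3df0ffa44859f620b91c921))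
 (Tr.leaf (nat_lit 0x860c92c585ff48b7a0969f93e)))
 (Tr.node (Tr.leaf (nat_lit 0xfff2c7f21f819600080073ffc))
 (Tr.leaf (nat_lit 0xf9bb3d1ee85021001569fd7d2))))
 (Tr.node (Tr.node (Tr.leaf (nat_lit 0x80456829722ec1cee7b7eca6e))
 (Tr.leaf (nat_lit 0x9251924e14e295a9effef562)))
 (Tr.node (Tr.leaf (nat_lit 0xc755f8a1473ecbd4e2b24c02d))
 (Tr.leaf (nat_lit 0xf9bb3d1ee85021001569fd7d2)))))
 (Tr.node (Tr.node (Tr.node (Tr.leaf (nat_lit 0x744426fd72227aed42052eebe))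
 (Tr.leaf (nat_lit 0xd8abf91fb81905a2b7e9d0303)))
 (Tr.node (Tr.leaf (nat_lit 0xf75b4f6b4eb4e71cc100052cd))
 (Tr.leaf (nat_lit 0xf9bb3d1ee85021001569fd7d2))))
 (Tr.node (Tr.node (Tr.leaf (nat_lit 0x23901d80cdf6a251597eff4d4))
 (Tr.leaf (nat_lit 0xf9bb3d1ee85021001569fd7d2)))
 (Tr.node (Tr.leaf (nat_lit 0x4426496c13a877fa82e73676e))
 (Tr.leaf (nat_lit 0xf9bb3d1ee85021001569fd7d2))))))
 (Tr.node (Tr.node (Tr.node (Tr.node (Tr.leaf (nat_lit 0x2a8847cbbced947b795c928c1))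
 (Tr.leaf (nat_lit 0x801e184cc9f46197a5f7bd15e)))
 (Tr.node (Tr.leaf (nat_lit 0xde10730274fbd4a1e0e6bfe2))
 (Tr.leaf (nat_lit 0xf9bb3d1ee85021001569fd7d2))))
 (Tr.node (Tr.node (Tr.leaf (nat_lit 0x6eff925085407c7338031bdf6))
 (Tr.leaf (nat_lit 0x7fe637d473633a691a40224b3)))
 (Tr.node (Tr.leaf (nat_lit 0x61864cb06fddffd61de14889))
 (Tr.leaf (nat_lit 0xf9bb3d1ee85021001569fd7d2)))))
 (Tr.node (Tr.node (Tr.node (Tr.leaf (nat_lit 0x4827037ef3487d7abee500563))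
 (Tr.leaf (nat_lit 0xc60ac35110bdfcb169f7be2a)))
 (Tr.node (Tr.leaf (nat_lit 0x2211b093c452ca7579bfddcb4))
 (Tr.leaf (nat_lit 0xf9bb3d1ee85021001569fd7d2))))
 (Tr.node (Tr.node (Tr.leaf (nat_lit 0x565f784942346ffde3c30408f))
 (Tr.leaf (nat_lit 0xf9bb3d1ee85021001569fd7d2)))
 (Tr.node (Tr.leaf (nat_lit 0x1092e09a1a9196a56feff0f9c))
 (Tr.leaf (nat_lit 0xf9bb3d1ee85021001569fd7d2)))))))
 (Tr.node (Tr.node (Tr.node (Tr.node (Tr.node (Tr.leaf (nat_lit 0xf275f0f3f6024ae4e9b144835))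
 (Tr.leaf (nat_lit 0x2b0a49297dbdee17dfe50c11)))
 (Tr.node (Tr.leaf (nat_lit 0xe35bf8034c30c314f133dd2fc))
 (Tr.leaf (nat_lit 0xf9bb3d1ee85021001569fd7d2))))
 (Tr.node (Tr.node (Tr.leaf (nat_lit 0x9b2407e6f3cf08088cd4e7d7a))
 (Tr.leaf (nat_lit 0x243490f485c27af708bf3fd34)))
 (Tr.node (Tr.leaf (nat_lit 0xbe9bd3db8cd58437298891985))
 (Tr.leaf (nat_lit 0xf9bb3d1ee85021001569fd7d2)))))
 (Tr.node (Tr.node (Tr.node (Tr.leaf (nat_lit 0x18601d75f9072fcb9fdd63003))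
 (Tr.leaf (nat_lit 0xf3a8fd87bcbb02a0d178d6211)))
 (Tr.node (Tr.leaf (nat_lit 0xbef70f78d3c6e44b0d8021c47))
 (Tr.leaf (nat_lit 0xf9bb3d1ee85021001569fd7d2))))
 (Tr.node (Tr.node (Tr.leaf (nat_lit 0x42331152c7506f70b9e7555f6))
 (Tr.leaf (nat_lit 0xf9bb3d1ee85021001569fd7d2)))
 (Tr.node (Tr.leaf (nat_lit 0x7b4ef2c778211a3dfa51820b9))
 (Tr.leaf (nat_lit 0xf9bb3d1ee85021001569fd7d2))))))
 (Tr.node (Tr.node (Tr.node (Tr.node (Tr.leaf (nat_lit 0xa6f6f0d017e3d2e729b230835))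
 (Tr.leaf (nat_lit 0xccf7e8381308d5c226a378f6e)))
 (Tr.node (Tr.leaf (nat_lit 0xbbde66ca7ae5900d6d50a08d9))
 (Tr.leaf (nat_lit 0xf9bb3d1ee85021001569fd7d2))))
 (Tr.node (Tr.node (Tr.leaf (nat_lit 0x64313514777ef7fbb86010a7))
 (Tr.leaf (nat_lit 0xc402c3ff1fb9d7b6a2a41032d)))
 (Tr.node (Tr.leaf (nat_lit 0x4268644336295fe8f15756afa))
 (Tr.leaf (nat_lit 0xf9bb3d1ee85021001569fd7d2)))))
 (Tr.node (Tr.node (Tr.node (Tr.leaf (nat_lit 0xdb97cbaadb9c8410eee0c054d))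
 (Tr.leaf (nat_lit 0xe05064fb7e20d3c461357cafc)))
 (Tr.node (Tr.leaf (nat_lit 0x1cff705822453def2fcb20983))
 (Tr.leaf (nat_lit 0xf9bb3d1ee85021001569fd7d2))))
 (Tr.node (Tr.node (Tr.leaf (nat_lit 0x64dbf8190c30f7f7732b18285))
 (Tr.leaf (nat_lit 0xf9bb3d1ee85021001569fd7d2)))
 (Tr.node (Tr.leaf (nat_lit 0x41642c24732a7bc8d6776e67a))
 (Tr.leaf (nat_lit 0xf9bb3d1ee85021001569fd7d2)))))))))
 (Tr.node (Tr.node (Tr.node (Tr.node (Tr.node (Tr.node (Tr.node (Tr.leaf (nat_lit 0xd7fd8e20879e6c80c4024ff5e))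
 (Tr.leaf (nat_lit 0x70803d9df83222e1536dfe696)))
 (Tr.node (Tr.leaf (nat_lit 0xafded2c00de590172812bb9fc))
 (Tr.leaf (nat_lit 0xf9bb3d1ee85021001569fd7d2))))
 (Tr.node (Tr.node (Tr.leaf (nat_lit 0xce7dd861850c4dd2a0935f96e))
 (Tr.leaf (nat_lit 0x83492603667fc90cf516cdafa)))
 (Tr.node (Tr.leaf (nat_lit 0x3310d22c7deef58ddfe45441))
 (Tr.leaf (nat_lit 0xf9bb3d1ee85021001569fd7d2)))))
 (Tr.node (Tr.node (Tr.node (Tr.leaf (nat_lit 0xff99cfab8c9c84104008dffcc))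
 (Tr.leaf (nat_lit 0x52f7b810d3126ee1ffe340417)))
 (Tr.node (Tr.leaf (nat_lit 0xbdfb477a2ec5b50e0d0821bc1))
 (Tr.leaf (nat_lit 0xf9bb3d1ee85021001569fd7d2))))
 (Tr.node (Tr.node (Tr.leaf (nat_lit 0xaac017d1fd6780433914fb8f6))
 (Tr.leaf (nat_lit 0xf9bb3d1ee85021001569fd7d2)))
 (Tr.node (Tr.leaf (nat_lit 0xf75c9ee5cdb66a95c0100f01d))
 (Tr.leaf (nat_lit 0xf9bb3d1ee85021001569fd7d2))))))
 (Tr.node (Tr.node (Tr.node (Tr.node (Tr.leaf (nat_lit 0x8530a4b607dbdb8404be7df38))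
 (Tr.leaf (nat_lit 0xa7224525341df493dd771cfa)))
 (Tr.node (Tr.leaf (nat_lit 0x81a81d04adff2182957eff352))
 (Tr.leaf (nat_lit 0xf9bb3d1ee85021001569fd7d2))))
 (Tr.node (Tr.node (Tr.leaf (nat_lit 0xd28847cbbebd04a0e144d6bde))
 (Tr.leaf (nat_lit 0x8019c82b8c9cc596e5bfddb4c)))
 (Tr.node (Tr.leaf (nat_lit 0xf3c3f3937e338224fb20c02b5))
 (Tr.leaf (nat_lit 0xf9bb3d1ee85021001569fd7d2)))))
 (Tr.node (Tr.node (Tr.node (Tr.leaf (nat_lit 0x1b008fa7d99f8e19dedcc3409))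
 (Tr.leaf (nat_lit 0xcf977988437c815022e2fc5ee)))
 (Tr.node (Tr.leaf (nat_lit 0xbbd9b693ec5788057d18c9891))
 (Tr.leaf (nat_lit 0xf9bb3d1ee85021001569fd7d2))))
 (Tr.node (Tr.node (Tr.leaf (nat_lit 0xf0ffc27abe8074a6ed2100b55))
 (Tr.leaf (nat_lit 0xf9bb3d1ee85021001569fd7d2)))
 (Tr.node (Tr.leaf (nat_lit 0x444a92550d317fb7b2071b3be))
 (Tr.leaf (nat_lit 0xf9bb3d1ee85021001569fd7d2)))))))
 (Tr.node (Tr.node (Tr.node (Tr.node (Tr.node (Tr.leaf (nat_lit 0x7acf5b49f824247bfb41820c7))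
 (Tr.leaf (nat_lit 0xd8f75978fb0425c2afe160147)))
 (Tr.node (Tr.leaf (nat_lit 0x7e3cecef90885ef940d916c09))
 (Tr.leaf (nat_lit 0xf9bb3d1ee85021001569fd7d2))))
 (Tr.node (Tr.node (Tr.leaf (nat_lit 0xfe1fb2dfc050483520819ddbe))
 (Tr.leaf (nat_lit 0x894c8a8998c94d36efffad4c)))
 (Tr.node (Tr.leaf (nat_lit 0xded5aeb9d31eccc1668048c0f))
 (Tr.leaf (nat_lit 0xf9bb3d1ee85021001569fd7d2)))))
 (Tr.node (Tr.node (Tr.node (Tr.leaf (nat_lit 0xb010acbfd892c28545bdfde1c))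
 (Tr.leaf (nat_lit 0x7aff265af2407c697d4100cd3)))
 (Tr.node (Tr.leaf (nat_lit 0xe97f9276ed407916bc3109171))
 (Tr.leaf (nat_lit 0xf9bb3d1ee85021001569fd7d2))))
 (Tr.node (Tr.node (Tr.leaf (nat_lit 0x52c017d1ff372ee1fb4442097))
 (Tr.leaf (nat_lit 0xf9bb3d1ee85021001569fd7d2)))
 (Tr.node (Tr.leaf (nat_lit 0x143a245e02d17fad05cf35f9a))
 (Tr.leaf (nat_lit 0xf9bb3d1ee85021001569fd7d2))))))
 (Tr.node (Tr.node (Tr.node (Tr.node (Tr.leaf (nat_lit 0xf6b1edbb969ac6e041a854e05))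
 (Tr.leaf (nat_lit 0x865034d14777cbc521967d8be)))
 (Tr.node (Tr.leaf (nat_lit 0x117844622e853f8ccd5f67bd8))
 (Tr.leaf (nat_lit 0xf9bb3d1ee85021001569fd7d2))))
 (Tr.node (Tr.node (Tr.leaf (nat_lit 0xba6fb257f043482fbd9181833))
 (Tr.leaf (nat_lit 0xdf63af37531bcf0896804162b)))
 (Tr.node (Tr.leaf (nat_lit 0x69006daf78289358527dfe6e8))
 (Tr.leaf (nat_lit 0xf9bb3d1ee85021001569fd7d2)))))
 (Tr.node (Tr.node (Tr.node (Tr.leaf (nat_lit 0xdf38dde78d9d0f9080d857109))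
 (Tr.leaf (nat_lit 0x5befe20232091c28fe43c2ffa)))
 (Tr.node (Tr.leaf (nat_lit 0x5142cac43fefbdd46fe2c409))
 (Tr.leaf (nat_lit 0xf9bb3d1ee85021001569fd7d2))))
 (Tr.node (Tr.node (Tr.leaf (nat_lit 0x2ec0640b7ef7cebfd5602853))
 (Tr.leaf (nat_lit 0xf9bb3d1ee85021001569fd7d2)))
 (Tr.node (Tr.leaf (nat_lit 0x212a51462ce1333e997fb73f0))
 (Tr.leaf (nat_lit 0xf9bb3d1ee85021001569fd7d2))))))))
 (Tr.node (Tr.node (Tr.node (Tr.node (Tr.node (Tr.node (Tr.leaf (nat_lit 0x75f5f0b026023ae44a2b6efb4))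
 (Tr.leaf (nat_lit 0x7af8f4d3bc011ee1795952891)))
 (Tr.node (Tr.leaf (nat_lit 0x553fe82e02987fbcc6eb04709))
 (Tr.leaf (nat_lit 0xf9bb3d1ee85021001569fd7d2))))
 (Tr.node (Tr.node (Tr.leaf (nat_lit 0x4e6ef84511295ffbb2d31202b))
 (Tr.leaf (nat_lit 0xfadbae1bd810c4017501d9ede)))
 (Tr.node (Tr.leaf (nat_lit 0x2abfe80a90c8d47b7dfb90c41))
 (Tr.leaf (nat_lit 0xf9bb3d1ee85021001569fd7d2)))))
 (Tr.node (Tr.node (Tr.node (Tr.leaf (nat_lit 0x8072c0721f81d786adb771b7c))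
 (Tr.leaf (nat_lit 0x913015f6efd72b848dfc65111)))
 (Tr.node (Tr.leaf (nat_lit 0x501682fedb907eb5eee50051d))
 (Tr.leaf (nat_lit 0xf9bb3d1ee85021001569fd7d2))))
 (Tr.node (Tr.node (Tr.leaf (nat_lit 0x12740c60d3866ec9cdd767c5e))
 (Tr.leaf (nat_lit 0xf9bb3d1ee85021001569fd7d2)))
 (Tr.node (Tr.leaf (nat_lit 0xddee4f6c3bad358a86402234b))
 (Tr.leaf (nat_lit 0xf9bb3d1ee85021001569fd7d2))))))
 (Tr.node (Tr.node (Tr.node (Tr.node (Tr.leaf (nat_lit 0x28320d7ed9c0f75b1dfd31441))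
 (Tr.leaf (nat_lit 0xf43bd97f8c9067b681a915305)))
 (Tr.node (Tr.leaf (nat_lit 0x6f7e3c4441607b5910533f4fa))
 (Tr.leaf (nat_lit 0xf9bb3d1ee85021001569fd7d2))))
 (Tr.node (Tr.node (Tr.leaf (nat_lit 0x9b2407e6f3cf08088cd4e7d7a))
 (Tr.leaf (nat_lit 0x121f024ac2d46c3dedc785dde)))
 (Tr.node (Tr.leaf (nat_lit 0x46c0a691173bdee172065aebe))
 (Tr.leaf (nat_lit 0xf9bb3d1ee85021001569fd7d2)))))
 (Tr.node (Tr.node (Tr.node (Tr.leaf (nat_lit 0xec56f8fd5920d3d722b13802d))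
 (Tr.leaf (nat_lit 0xe00cc2efbca850b6e0359eb7c)))
 (Tr.node (Tr.leaf (nat_lit 0xfff517f0e746284008006fdf6))
 (Tr.leaf (nat_lit 0xf9bb3d1ee85021001569fd7d2))))
 (Tr.node (Tr.node (Tr.leaf (nat_lit 0xdf0f73cf627d093ca2c0841ab))
 (Tr.leaf (nat_lit 0xf9bb3d1ee85021001569fd7d2)))
 (Tr.node (Tr.leaf (nat_lit 0x5ef6f0d013011ee12ac372dbe))
 (Tr.leaf (nat_lit 0xf9bb3d1ee85021001569fd7d2)))))))
 (Tr.node (Tr.node (Tr.node (Tr.node (Tr.node (Tr.leaf (nat_lit 0x40e58230b70a7ce2fe274af76))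
 (Tr.leaf (nat_lit 0x88803d9df97f81c337fcf8003)))
 (Tr.node (Tr.leaf (nat_lit 0xae5f78494064c15f2193bd8ee))
 (Tr.leaf (nat_lit 0xf9bb3d1ee85021001569fd7d2))))
 (Tr.node (Tr.node (Tr.leaf (nat_lit 0x7fd64fe85ba4b6594a40224cd))
 (Tr.leaf (nat_lit 0xffae67ce32e910280040b6ffa)))
 (Tr.node (Tr.leaf (nat_lit 0x95f3d9300f97a7868faa61305))
 (Tr.leaf (nat_lit 0xf9bb3d1ee85021001569fd7d2)))))
 (Tr.node (Tr.node (Tr.node (Tr.leaf (nat_lit 0x6281d4585ff6ffb91de17003))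
 (Tr.leaf (nat_lit 0x519831cd16efd7ffbf49005)))
 (Tr.node (Tr.leaf (nat_lit 0xbef70f78d3c6e44b0d8021c47))
 (Tr.leaf (nat_lit 0xf9bb3d1ee85021001569fd7d2))))
 (Tr.node (Tr.node (Tr.leaf (nat_lit 0xdbfb1752ef552d00bd40411d3))
 (Tr.leaf (nat_lit 0xf9bb3d1ee85021001569fd7d2)))
 (Tr.node (Tr.leaf (nat_lit 0x73bbd9028c902630d96bd77d4))
 (Tr.leaf (nat_lit 0xf9bb3d1ee85021001569fd7d2))))))
 (Tr.node (Tr.node (Tr.node (Tr.node (Tr.leaf (nat_lit 0x5a0543ebf20c0c78eac5c6dee))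
 (Tr.leaf (nat_lit 0x14512c394216efcd478f6de8e)))
 (Tr.node (Tr.leaf (nat_lit 0x408e8a0c99b874b3f6679a75e))
 (Tr.leaf (nat_lit 0xf9bb3d1ee85021001569fd7d2))))
 (Tr.node (Tr.node (Tr.leaf (nat_lit 0xeedb1f59cd74e5533100190c7))
 (Tr.leaf (nat_lit 0x644c2e117afdeffea960282d)))
 (Tr.node (Tr.leaf (nat_lit 0xc9eef80439291182b673fa37a))
 (Tr.leaf (nat_lit 0xf9bb3d1ee85021001569fd7d2)))))
 (Tr.node (Tr.node (Tr.node (Tr.leaf (nat_lit 0xa42065ff36ebd3ee01bc34a21))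
 (Tr.leaf (nat_lit 0x35a06424ff5ff1dfd56010d9)))
 (Tr.node (Tr.leaf (nat_lit 0x38c10f39f806a44b5f0debec6))
 (Tr.leaf (nat_lit 0xf9bb3d1ee85021001569fd7d2))))
 (Tr.node (Tr.node (Tr.leaf (nat_lit 0xb60227df52f3c22d0184b5ebe))
 (Tr.leaf (nat_lit 0xf9bb3d1ee85021001569fd7d2)))
 (Tr.node (Tr.leaf (nat_lit 0x6a0c26cff068587970559ecfa))
 (Tr.leaf (nat_lit 0xf9bb3d1ee85021001569fd7d2))))))))))
 (Tr.node (Tr.node (Tr.node (Tr.node (Tr.node (Tr.node (Tr.node (Tr.node (Tr.leaf (nat_lit 0xd005a2bff21a48a4e6a5ccf3e))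
 (Tr.leaf (nat_lit 0xb9886828ddd9c117c5edbdd8)))
 (Tr.node (Tr.leaf (nat_lit 0xffa9b797a45b08201008dffb2))
 (Tr.leaf (nat_lit 0xf9bb3d1ee85021001569fd7d2))))
 (Tr.node (Tr.node (Tr.leaf (nat_lit 0x4fef5340276d3d7aba42021e3))
 (Tr.leaf (nat_lit 0x7fe1e7b3360b9e685a0842ea1)))
 (Tr.node (Tr.leaf (nat_lit 0xbbb56daaf2ce80484df8e4c41))
 (Tr.leaf (nat_lit 0xf9bb3d1ee85021001569fd7d2)))))
 (Tr.node (Tr.node (Tr.node (Tr.leaf (nat_lit 0xf3045e207cd9f5808de77de8))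
 (Tr.leaf (nat_lit 0x16b015d087d72ee109ce77d96)))
 (Tr.node (Tr.leaf (nat_lit 0x221660ca52e0d27d69f7b4cfc))
 (Tr.leaf (nat_lit 0xf9bb3d1ee85021001569fd7d2))))
 (Tr.node (Tr.node (Tr.leaf (nat_lit 0xed8bf39f2c7991363228983a1))
 (Tr.leaf (nat_lit 0xf9bb3d1ee85021001569fd7d2)))
 (Tr.node (Tr.leaf (nat_lit 0x1d7ed86409853f9f8edb23109))
 (Tr.leaf (nat_lit 0xf9bb3d1ee85021001569fd7d2))))))
 (Tr.node (Tr.node (Tr.node (Tr.node (Tr.leaf (nat_lit 0x6c420f7d5920f75b12053b6ee))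
 (Tr.leaf (nat_lit 0x79afcb2eb888343ade6982741)))
 (Tr.node (Tr.leaf (nat_lit 0x637f704266607b7cf973040f1))
 (Tr.leaf (nat_lit 0xf9bb3d1ee85021001569fd7d2))))
 (Tr.node (Tr.node (Tr.leaf (nat_lit 0x20c722187262f06f7f27a8ef6))
 (Tr.leaf (nat_lit 0xfadc7cc9f82400c16151fe8de)))
 (Tr.node (Tr.leaf (nat_lit 0xf467797d722263ee83a124227))
 (Tr.leaf (nat_lit 0xf9bb3d1ee85021001569fd7d2)))))
 (Tr.node (Tr.node (Tr.node (Tr.leaf (nat_lit 0x10a29914999326a39feff3716))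
 (Tr.leaf (nat_lit 0xa3df9a00cdf6e017fd3289055)))
 (Tr.node (Tr.leaf (nat_lit 0x3ee3f9111003866b1b8bf3ea6))
 (Tr.leaf (nat_lit 0xf9bb3d1ee85021001569fd7d2))))
 (Tr.node (Tr.node (Tr.leaf (nat_lit 0xf0ffc27abe8074a6ed2100b55))
 (Tr.leaf (nat_lit 0xf9bb3d1ee85021001569fd7d2)))
 (Tr.node (Tr.leaf (nat_lit 0xc982279e7b7991003664f87fa))
 (Tr.leaf (nat_lit 0xf9bb3d1ee85021001569fd7d2)))))))
 (Tr.node (Tr.node (Tr.node (Tr.node (Tr.node (Tr.leaf (nat_lit 0x7fbd47eaa6cc3c78484806dc1))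
 (Tr.leaf (nat_lit 0xf58ddbadacbe20b6c2288e305)))
 (Tr.node (Tr.leaf (nat_lit 0xfd13f9bf4810831402a9fd7ac))
 (Tr.leaf (nat_lit 0xf9bb3d1ee85021001569fd7d2))))
 (Tr.node (Tr.node (Tr.leaf (nat_lit 0xe4ff7058266071e621233cbf6))
 (Tr.leaf (nat_lit 0x6ecfea091028d47b72039aeee)))
 (Tr.node (Tr.leaf (nat_lit 0x49582b887defcf76eae08d05))
 (Tr.leaf (nat_lit 0xf9bb3d1ee85021001569fd7d2)))))
 (Tr.node (Tr.node (Tr.node (Tr.leaf (nat_lit 0x8072c0721f81d786adb771b7c))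
 (Tr.leaf (nat_lit 0xdf53d3f34f158f14aa80411ad)))
 (Tr.node (Tr.leaf (nat_lit 0xa777596047e6e35e89b225065))
 (Tr.leaf (nat_lit 0xf9bb3d1ee85021001569fd7d2))))
 (Tr.node (Tr.node (Tr.leaf (nat_lit 0xdf0f73cf627d093ca2c0841ab))
 (Tr.leaf (nat_lit 0xf9bb3d1ee85021001569fd7d2)))
 (Tr.node (Tr.leaf (nat_lit 0xbc7aec7f1881d78f059931a09))
 (Tr.leaf (nat_lit 0xf9bb3d1ee85021001569fd7d2))))))
 (Tr.node (Tr.node (Tr.node (Tr.node (Tr.leaf (nat_lit 0x7b795d63ec042f58d959470c1))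
 (Tr.leaf (nat_lit 0x9fbb6d0a02dd850805caf5fca)))
 (Tr.node (Tr.leaf (nat_lit 0xa84a265f7861d10f3515b9afa))
 (Tr.leaf (nat_lit 0xf9bb3d1ee85021001569fd7d2))))
 (Tr.node (Tr.node (Tr.leaf (nat_lit 0x3a104debd884865949ddf7ccc))
 (Tr.leaf (nat_lit 0x5c101dfdc9142fd102cd7f58e)))
 (Tr.node (Tr.leaf (nat_lit 0x3bfaec02188196095d5bf3ed8))
 (Tr.leaf (nat_lit 0xf9bb3d1ee85021001569fd7d2)))))
 (Tr.node (Tr.node (Tr.node (Tr.leaf (nat_lit 0xbef0ddf19d8786c3099873805))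
 (Tr.leaf (nat_lit 0xe51207fe4ff0f31400243d7fc)))
 (Tr.node (Tr.leaf (nat_lit 0xebc5dba1fd2e8052fa30ca065))
 (Tr.leaf (nat_lit 0xf9bb3d1ee85021001569fd7d2))))
 (Tr.node (Tr.node (Tr.leaf (nat_lit 0x3c0513fde046287f0a8dafda6))
 (Tr.leaf (nat_lit 0xf9bb3d1ee85021001569fd7d2)))
 (Tr.node (Tr.leaf (nat_lit 0xfb6a7d47782103089151f72fa))
 (Tr.leaf (nat_lit 0xf9bb3d1ee85021001569fd7d2))))))))
 (Tr.node (Tr.node (Tr.node (Tr.node (Tr.node (Tr.node (Tr.leaf (nat_lit 0x280271df7861937f3bfdb00a1))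
 (Tr.leaf (nat_lit 0xf39f53caeef42034e960841d5)))
 (Tr.node (Tr.leaf (nat_lit 0xe7af9b0485fa603290229f776))
 (Tr.leaf (nat_lit 0xf9bb3d1ee85021001569fd7d2))))
 (Tr.node (Tr.node (Tr.leaf (nat_lit 0xf9d7e2ba7a0090046e21e8ffc))
 (Tr.leaf (nat_lit 0xfe2fcb6f9088443a808197f6e)))
 (Tr.node (Tr.leaf (nat_lit 0x9afed84099850483add3f395e))
 (Tr.leaf (nat_lit 0xf9bb3d1ee85021001569fd7d2)))))
 (Tr.node (Tr.node (Tr.node (Tr.leaf (nat_lit 0x82c88e019dbfc483f516dba5e))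
 (Tr.leaf (nat_lit 0xe8fe3c5cf96071c3357138053)))
 (Tr.node (Tr.leaf (nat_lit 0xddb53dbce35e29c006e86c503))
 (Tr.leaf (nat_lit 0xf9bb3d1ee85021001569fd7d2))))
 (Tr.node (Tr.node (Tr.leaf (nat_lit 0x82a451c0b7ef00e2a9f6f6976))
 (Tr.leaf (nat_lit 0xf9bb3d1ee85021001569fd7d2)))
 (Tr.node (Tr.leaf (nat_lit 0x9fe7cb20138f840a8e82e3f6e))
 (Tr.leaf (nat_lit 0xf9bb3d1ee85021001569fd7d2))))))
 (Tr.node (Tr.node (Tr.node (Tr.node (Tr.leaf (nat_lit 0xa5fd6c2826eef1ce453a2ca41))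
 (Tr.leaf (nat_lit 0x831251c24ff58314a9f6f51fc)))
 (Tr.node (Tr.leaf (nat_lit 0x212d8226a4ca783edc3f8ff70))
 (Tr.leaf (nat_lit 0xf9bb3d1ee85021001569fd7d2))))
 (Tr.node (Tr.node (Tr.leaf (nat_lit 0x91560aa624c995c6effecde8))
 (Tr.leaf (nat_lit 0x7cea7d5d382137eb134932283)))
 (Tr.node (Tr.leaf (nat_lit 0x925086f3df97ce85ed944181d))
 (Tr.leaf (nat_lit 0xf9bb3d1ee85021001569fd7d2)))))
 (Tr.node (Tr.node (Tr.node (Tr.leaf (nat_lit 0x64dbf8190c30f7f7732b18285))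
 (Tr.leaf (nat_lit 0x4fd8fc810d3d9fd1725a5a089)))
 (Tr.node (Tr.leaf (nat_lit 0x96cfea0912bfc4afe78280a0f))
 (Tr.leaf (nat_lit 0xf9bb3d1ee85021001569fd7d2))))
 (Tr.node (Tr.node (Tr.leaf (nat_lit 0x565f784942346ffde3c30408f))
 (Tr.leaf (nat_lit 0xf9bb3d1ee85021001569fd7d2)))
 (Tr.node (Tr.leaf (nat_lit 0x720a0f4fd8b06639d145976de))
 (Tr.leaf (nat_lit 0xf9bb3d1ee85021001569fd7d2)))))))
 (Tr.node (Tr.node (Tr.node (Tr.node (Tr.node (Tr.leaf (nat_lit 0x2805a2bff04ad87f7ebd88c21))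
 (Tr.leaf (nat_lit 0xedd753f86f64b1562a20281e5)))
 (Tr.node (Tr.leaf (nat_lit 0xae5f78494064c15f2193bd8ee))
 (Tr.leaf (nat_lit 0xf9bb3d1ee85021001569fd7d2))))
 (Tr.node (Tr.node (Tr.leaf (nat_lit 0x13a90702a6df2c28dd4ec7fd2))
 (Tr.leaf (nat_lit 0xfd78f4f72c011b8400197fbb8)))
 (Tr.node (Tr.leaf (nat_lit 0xef366dee53e8d35800f034469))
 (Tr.leaf (nat_lit 0xf9bb3d1ee85021001569fd7d2)))))
 (Tr.node (Tr.node (Tr.node (Tr.leaf (nat_lit 0x7fba97d68dd13e31184813591))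
 (Tr.leaf (nat_lit 0x2870b08d3fee47bffe680447)))
 (Tr.node (Tr.leaf (nat_lit 0xa777596047e6e35e89b225065))
 (Tr.leaf (nat_lit 0xf9bb3d1ee85021001569fd7d2))))
 (Tr.node (Tr.node (Tr.leaf (nat_lit 0x3017183667f8b7cfbfec40a1))
 (Tr.leaf (nat_lit 0xf9bb3d1ee85021001569fd7d2)))
 (Tr.node (Tr.leaf (nat_lit 0xe3008fa7ddbac210d034df67c))
 (Tr.leaf (nat_lit 0xf9bb3d1ee85021001569fd7d2))))))
 (Tr.node (Tr.node (Tr.node (Tr.node (Tr.leaf (nat_lit 0xedbc5decadec31d200783e141))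
 (Tr.leaf (nat_lit 0x14512c394216efcd478f6de8e)))
 (Tr.node (Tr.leaf (nat_lit 0xc3c0c6c81cc7ddb04df3fd4a))
 (Tr.leaf (nat_lit 0xf9bb3d1ee85021001569fd7d2))))
 (Tr.node (Tr.node (Tr.leaf (nat_lit 0x5648685ba4f7dfeff72004d))
 (Tr.leaf (nat_lit 0xa3efe20236ebd02efd3280a71)))
 (Tr.node (Tr.leaf (nat_lit 0xb7ef534026e7202e8902a7bf6))
 (Tr.leaf (nat_lit 0xf9bb3d1ee85021001569fd7d2)))))
 (Tr.node (Tr.node (Tr.node (Tr.leaf (nat_lit 0x91006daf7abf838cc7fce4209))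
 (Tr.leaf (nat_lit 0x4b77e8225308df58fef340469)))
 (Tr.node (Tr.leaf (nat_lit 0x8c4426fd736fd9cf26942882b))
 (Tr.leaf (nat_lit 0xf9bb3d1ee85021001569fd7d2))))
 (Tr.node (Tr.node (Tr.leaf (nat_lit 0x2d77b8344142fb5f1ebb29421))
 (Tr.leaf (nat_lit 0xf9bb3d1ee85021001569fd7d2)))
 (Tr.node (Tr.leaf (nat_lit 0x10c99211ac172ca7ff0fcbb96))
 (Tr.leaf (nat_lit 0xf9bb3d1ee85021001569fd7d2)))))))))
 (Tr.node (Tr.node (Tr.node (Tr.node (Tr.node (Tr.node (Tr.node (Tr.leaf (nat_lit 0xbf1daeafc0dec81d44988dc09))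
 (Tr.leaf (nat_lit 0x2221c923948ac67ad9bfd7e64)))
 (Tr.node (Tr.leaf (nat_lit 0x41388c268d987f90d47f5f758))
 (Tr.leaf (nat_lit 0xf9bb3d1ee85021001569fd7d2))))
 (Tr.node (Tr.node (Tr.leaf (nat_lit 0xe79fe28a06f8d03460229cffc))
 (Tr.leaf (nat_lit 0xebaed3c6bde91032b87092171)))
 (Tr.node (Tr.leaf (nat_lit 0xdba7b396f35b0820bee0c0533))
 (Tr.leaf (nat_lit 0xf9bb3d1ee85021001569fd7d2)))))
 (Tr.node (Tr.node (Tr.node (Tr.leaf (nat_lit 0xc80459edf92c01d2a2f5fe16e))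
 (Tr.leaf (nat_lit 0x300459edf8a622ffcbfda6005)))
 (Tr.node (Tr.leaf (nat_lit 0x60284d6fbca877fad17d16241))
 (Tr.leaf (nat_lit 0xf9bb3d1ee85021001569fd7d2))))
 (Tr.node (Tr.node (Tr.leaf (nat_lit 0x42581c41cd346fd1f1575f0de))
 (Tr.leaf (nat_lit 0xf9bb3d1ee85021001569fd7d2)))
 (Tr.node (Tr.leaf (nat_lit 0xc11c06eeeffc7994e4740c159))
 (Tr.leaf (nat_lit 0xf9bb3d1ee85021001569fd7d2))))))
 (Tr.node (Tr.node (Tr.node (Tr.node (Tr.leaf (nat_lit 0xd8a0f0c09fdb51b164ebb7ca))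
 (Tr.leaf (nat_lit 0xa7224525341df493dd771cfa)))
 (Tr.node (Tr.leaf (nat_lit 0xf5d6aebc5bb2f28546202861d))
 (Tr.leaf (nat_lit 0xf9bb3d1ee85021001569fd7d2))))
 (Tr.node (Tr.node (Tr.leaf (nat_lit 0x2468345524637bef111f3fab2))
 (Tr.leaf (nat_lit 0xf17e6c6e7aa0738cc57124259)))
 (Tr.node (Tr.leaf (nat_lit 0xdbfb1752ef552d00bd40411d3))
 (Tr.leaf (nat_lit 0xf9bb3d1ee85021001569fd7d2)))))
 (Tr.node (Tr.node (Tr.node (Tr.leaf (nat_lit 0x1e04d203fafb7cadf7e62241))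
 (Tr.leaf (nat_lit 0x18b430a2efdb53eff6e803c1)))
 (Tr.node (Tr.leaf (nat_lit 0x601834dfec707bf5717d1c091))
 (Tr.leaf (nat_lit 0xf9bb3d1ee85021001569fd7d2))))
 (Tr.node (Tr.node (Tr.leaf (nat_lit 0x9081c3bbbe9f84a6efacc0b05))
 (Tr.leaf (nat_lit 0xf9bb3d1ee85021001569fd7d2)))
 (Tr.node (Tr.leaf (nat_lit 0x693015f6ed403b50187d7f5f0))
 (Tr.leaf (nat_lit 0xf9bb3d1ee85021001569fd7d2)))))))
 (Tr.node (Tr.node (Tr.node (Tr.node (Tr.node (Tr.leaf (nat_lit 0x2e7bf0530441df7f399b118a1))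
 (Tr.leaf (nat_lit 0xf5d17db96e36a3c443286c285)))
 (Tr.node (Tr.leaf (nat_lit 0xafb5d9a085ce805208baffd64))
 (Tr.leaf (nat_lit 0xf9bb3d1ee85021001569fd7d2))))
 (Tr.node (Tr.node (Tr.leaf (nat_lit 0xb7d8fc810cb78285411affa9c))
 (Tr.leaf (nat_lit 0x20ac2c0cb0ea70eb557fbee52)))
 (Tr.node (Tr.leaf (nat_lit 0xdeb975dba65d0de021c854983))
 (Tr.leaf (nat_lit 0xf9bb3d1ee85021001569fd7d2)))))
 (Tr.node (Tr.node (Tr.node (Tr.leaf (nat_lit 0x3182279e7af3b22d5f6ca0691))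
 (Tr.leaf (nat_lit 0xb020d1f7bc8302a689bdf7b34)))
 (Tr.node (Tr.leaf (nat_lit 0x7e3b3d5fc0506f7911c915483))
 (Tr.leaf (nat_lit 0xf9bb3d1ee85021001569fd7d2))))
 (Tr.node (Tr.node (Tr.leaf (nat_lit 0x52c017d1ff372ee1fb4442097))
 (Tr.leaf (nat_lit 0xf9bb3d1ee85021001569fd7d2)))
 (Tr.node (Tr.leaf (nat_lit 0xfaebd353bc010422b901d3bf6))
 (Tr.leaf (nat_lit 0xf9bb3d1ee85021001569fd7d2))))))
 (Tr.node (Tr.node (Tr.node (Tr.node (Tr.leaf (nat_lit 0xf5ba75de2ef133a4016834391))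
 (Tr.leaf (nat_lit 0xde8edbcd99bd04b3a2c09210f)))
 (Tr.node (Tr.leaf (nat_lit 0xc3faec021fb9d780f57250259))
 (Tr.leaf (nat_lit 0xf9bb3d1ee85021001569fd7d2))))
 (Tr.node (Tr.node (Tr.leaf (nat_lit 0xf3f38f32df92e600dd2041655))
 (Tr.leaf (nat_lit 0x79f4bcb4f9023ac15e796a411)))
 (Tr.node (Tr.leaf (nat_lit 0x69006daf78289358527dfe6e8))
 (Tr.leaf (nat_lit 0xf9bb3d1ee85021001569fd7d2)))))
 (Tr.node (Tr.node (Tr.node (Tr.leaf (nat_lit 0x2d77b8344142fb5f1ebb29421))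
 (Tr.leaf (nat_lit 0x6f79ec230408df58501b5fee8)))
 (Tr.node (Tr.leaf (nat_lit 0x84b10d3887dee5c205ae7df46))
 (Tr.leaf (nat_lit 0xf9bb3d1ee85021001569fd7d2))))
 (Tr.node (Tr.node (Tr.leaf (nat_lit 0xdde99f35ad1f2d8296084b303))
 (Tr.leaf (nat_lit 0xf9bb3d1ee85021001569fd7d2)))
 (Tr.node (Tr.leaf (nat_lit 0x21468a2459a2f21fde37ab67c))
 (Tr.leaf (nat_lit 0xf9bb3d1ee85021001569fd7d2))))))))
 (Tr.node (Tr.node (Tr.node (Tr.node (Tr.node (Tr.node (Tr.leaf (nat_lit 0x158c268c22ff38ad464eaef9a))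
 (Tr.leaf (nat_lit 0x30688677bc837eafdd1d03a11)))
 (Tr.node (Tr.leaf (nat_lit 0xf707ebaf52bac23cc2a08462d))
 (Tr.leaf (nat_lit 0xf9bb3d1ee85021001569fd7d2))))
 (Tr.node (Tr.node (Tr.leaf (nat_lit 0xbf46dbe559a7821f8a90a302d))
 (Tr.leaf (nat_lit 0xcb0817c7ed7d0910b054df1fa)))
 (Tr.node (Tr.leaf (nat_lit 0xbbe9cf23bc8f840add18c3a41))
 (Tr.leaf (nat_lit 0xf9bb3d1ee85021001569fd7d2)))))
 (Tr.node (Tr.node (Tr.node (Tr.leaf (nat_lit 0x5bdf9a00c9142c11fe43cb5de))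
 (Tr.leaf (nat_lit 0x523833607dbff3e9eae01721)))
 (Tr.node (Tr.leaf (nat_lit 0x501682fedb907eb5eee50051d))
 (Tr.leaf (nat_lit 0xf9bb3d1ee85021001569fd7d2))))
 (Tr.node (Tr.node (Tr.leaf (nat_lit 0x10a54928b28e24eacfefe6f46))
 (Tr.leaf (nat_lit 0xf9bb3d1ee85021001569fd7d2)))
 (Tr.node (Tr.leaf (nat_lit 0xae80f18b9d7bff7ff90209))
 (Tr.leaf (nat_lit 0xf9bb3d1ee85021001569fd7d2))))))
 (Tr.node (Tr.node (Tr.node (Tr.node (Tr.leaf (nat_lit 0xf6ed4f69b6ae64eac10006a47))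
 (Tr.leaf (nat_lit 0x9fbb6d0a02dd850805caf5fca)))
 (Tr.node (Tr.leaf (nat_lit 0x472a074607f97f389046177fa))
 (Tr.leaf (nat_lit 0xf9bb3d1ee85021001569fd7d2))))
 (Tr.node (Tr.node (Tr.leaf (nat_lit 0x20c722187262f06f7f27a8ef6))
 (Tr.leaf (nat_lit 0x209c50c8ace430f7697fbe9d4)))
 (Tr.node (Tr.leaf (nat_lit 0x8a4b094b14b18e33efffad32))
 (Tr.leaf (nat_lit 0xf9bb3d1ee85021001569fd7d2)))))
 (Tr.node (Tr.node (Tr.node (Tr.leaf (nat_lit 0x8029b017a45b49a6b5bfddb32))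
 (Tr.leaf (nat_lit 0xa2e824691c95c3bbcd793d7a)))
 (Tr.node (Tr.leaf (nat_lit 0x469c06c887fc7cf160461edde))
 (Tr.leaf (nat_lit 0xf9bb3d1ee85021001569fd7d2))))
 (Tr.node (Tr.node (Tr.leaf (nat_lit 0x57b5d9a0879e2ef0caea46505))
 (Tr.leaf (nat_lit 0xf9bb3d1ee85021001569fd7d2)))
 (Tr.node (Tr.leaf (nat_lit 0x984492f5f9070887ae95eb93e))
 (Tr.leaf (nat_lit 0xf9bb3d1ee85021001569fd7d2)))))))
 (Tr.node (Tr.node (Tr.node (Tr.node (Tr.node (Tr.leaf (nat_lit 0xcfcbdb010d3d8512b202db3ee))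
 (Tr.leaf (nat_lit 0xda7abc57d9114f81b5d15101b)))
 (Tr.node (Tr.leaf (nat_lit 0xbdcceead38af908f4618aaa09))
 (Tr.leaf (nat_lit 0xf9bb3d1ee85021001569fd7d2))))
 (Tr.node (Tr.node (Tr.leaf (nat_lit 0xfd7f267e6240790c04012dffa))
 (Tr.leaf (nat_lit 0xe57ed8640da0739680333f37c)))
 (Tr.node (Tr.leaf (nat_lit 0x3797798842f6a27d4beaa4485))
 (Tr.leaf (nat_lit 0xf9bb3d1ee85021001569fd7d2)))))
 (Tr.node (Tr.node (Tr.node (Tr.leaf (nat_lit 0xb19107baeed6a0044d2cedfd4))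
 (Tr.leaf (nat_lit 0x1a81279bf25f8c697fccc0c83)))
 (Tr.node (Tr.leaf (nat_lit 0xe281279bf67ac0607124dcef6))
 (Tr.leaf (nat_lit 0xf9bb3d1ee85021001569fd7d2))))
 (Tr.node (Tr.node (Tr.leaf (nat_lit 0x64808fbd9dbaf6f3522c1a605))
 (Tr.leaf (nat_lit 0xf9bb3d1ee85021001569fd7d2)))
 (Tr.node (Tr.leaf (nat_lit 0xc73ef0c607f95bb4a0f214139))
 (Tr.leaf (nat_lit 0xf9bb3d1ee85021001569fd7d2))))))
 (Tr.node (Tr.node (Tr.node (Tr.node (Tr.leaf (nat_lit 0x6bd6f880592092517a73fa4fc))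
 (Tr.leaf (nat_lit 0x7b25f9a7f00a0a78daf9c6421)))
 (Tr.node (Tr.leaf (nat_lit 0x9b7f70426245090cadd3e59fa))
 (Tr.leaf (nat_lit 0xf9bb3d1ee85021001569fd7d2))))
 (Tr.node (Tr.node (Tr.leaf (nat_lit 0x7d5bae3f4810ff1d560909689))
 (Tr.leaf (nat_lit 0xf9bb3d1ee85021001569fd7d2)))
 (Tr.node (Tr.leaf (nat_lit 0x774fba0540326a3dd2038f6be))
 (Tr.leaf (nat_lit 0xf9bb3d1ee85021001569fd7d2)))))
 (Tr.node (Tr.node (Tr.node (Tr.leaf (nat_lit 0x37fba61206d3fe2d5d0a01e91))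
 (Tr.leaf (nat_lit 0xbc42680736f98497e56eacfa)))
 (Tr.node (Tr.leaf (nat_lit 0x8efe6c4813edd5cb25d23084b))
 (Tr.leaf (nat_lit 0xf9bb3d1ee85021001569fd7d2))))
 (Tr.node (Tr.node (Tr.leaf (nat_lit 0xccc047f93f2d95c222047abee))
 (Tr.leaf (nat_lit 0xf9bb3d1ee85021001569fd7d2)))
 (Tr.node (Tr.leaf (nat_lit 0xc8688677bd095d82b4155bb7a))
 (Tr.leaf (nat_lit 0xf9bb3d1ee85021001569fd7d2))))))))))))
 (Tr.node (Tr.node (Tr.node (Tr.node (Tr.node (Tr.node (Tr.node (Tr.node (Tr.node (Tr.node (Tr.leaf (nat_lit 0xa4259415925875bbbd7f30ee))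
 (Tr.leaf (nat_lit 0xbf76a6f653c3da0d0c9021c39)))
 (Tr.node (Tr.leaf (nat_lit 0xd67bf05306114fa4a18355bbe))
 (Tr.leaf (nat_lit 0xf9bb3d1ee85021001569fd7d2))))
 (Tr.node (Tr.node (Tr.leaf (nat_lit 0xf5ba75de2ef133a4016834391))
 (Tr.leaf (nat_lit 0x1466827413837eaf8e8723f3e)))
 (Tr.node (Tr.leaf (nat_lit 0x890193b7ed5f8916bebcc9121))
 (Tr.leaf (nat_lit 0xf9bb3d1ee85021001569fd7d2)))))
 (Tr.node (Tr.node (Tr.node (Tr.leaf (nat_lit 0x6bd6f880592092517a73fa4fc))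
 (Tr.leaf (nat_lit 0xd976f0f67b011b84aef160139)))
 (Tr.node (Tr.leaf (nat_lit 0xf9e79b34f90220029e21eb776))
 (Tr.leaf (nat_lit 0xf9bb3d1ee85021001569fd7d2))))
 (Tr.node (Tr.node (Tr.leaf (nat_lit 0xd380de07e69fff7ff8c003))
 (Tr.leaf (nat_lit 0xf9bb3d1ee85021001569fd7d2)))
 (Tr.node (Tr.leaf (nat_lit 0xb7ef534026e7202e8902a7bf6))
 (Tr.leaf (nat_lit 0xf9bb3d1ee85021001569fd7d2))))))
 (Tr.node (Tr.node (Tr.node (Tr.node (Tr.leaf (nat_lit 0x20c0f0913c2392e77b3ffaab4))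
 (Tr.leaf (nat_lit 0x908613dcfbf720a7afe4a0117)))
 (Tr.node (Tr.leaf (nat_lit 0xfcfe8e7c9980748304013bf5e))
 (Tr.leaf (nat_lit 0xf9bb3d1ee85021001569fd7d2))))
 (Tr.node (Tr.node (Tr.leaf (nat_lit 0x856c066427ef798e84162fb7a))
 (Tr.leaf (nat_lit 0x860b434b06fdc53ea18695bee)))
 (Tr.node (Tr.leaf (nat_lit 0x40895909ac3c25f2f36fde3c6))
 (Tr.leaf (nat_lit 0xf9bb3d1ee85021001569fd7d2)))))
 (Tr.node (Tr.node (Tr.node (Tr.leaf (nat_lit 0xb19107baeed6a0044d2cedfd4))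
 (Tr.leaf (nat_lit 0x306a28653fbda3dfef680439)))
 (Tr.node (Tr.leaf (nat_lit 0xe281279bf67ac0607124dcef6))
 (Tr.leaf (nat_lit 0xf9bb3d1ee85021001569fd7d2))))
 (Tr.node (Tr.node (Tr.leaf (nat_lit 0x7e57e2fb5200de7d6a8100cad))
 (Tr.leaf (nat_lit 0xf9bb3d1ee85021001569fd7d2)))
 (Tr.node (Tr.leaf (nat_lit 0x31eef80438a332afdf7ba2211))
 (Tr.leaf (nat_lit 0xf9bb3d1ee85021001569fd7d2)))))))
 (Tr.node (Tr.node (Tr.node (Tr.node (Tr.node (Tr.leaf (nat_lit 0xd7fa5d400fb527808142773de))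
 (Tr.leaf (nat_lit 0x6043437b7e20f77efb25002e5)))
 (Tr.node (Tr.leaf (nat_lit 0xdc6fe27f32095daea68100b2b))
 (Tr.leaf (nat_lit 0xf9bb3d1ee85021001569fd7d2))))
 (Tr.node (Tr.node (Tr.leaf (nat_lit 0x3f55f8a140068a5d4a9befcac))
 (Tr.leaf (nat_lit 0x5dfd6c28220c3dc8464b6efca)))
 (Tr.node (Tr.leaf (nat_lit 0xbbe9cf23bc8f840add18c3a41))
 (Tr.leaf (nat_lit 0xf9bb3d1ee85021001569fd7d2)))))
 (Tr.node (Tr.node (Tr.node (Tr.leaf (nat_lit 0xe0601d75fd2263c291357f276))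
 (Tr.leaf (nat_lit 0x180cc2efb88d1cbfeedd82909)))
 (Tr.node (Tr.leaf (nat_lit 0x10953098e25628e56fefecd96))
 (Tr.leaf (nat_lit 0xf9bb3d1ee85021001569fd7d2))))
 (Tr.node (Tr.node (Tr.leaf (nat_lit 0x10a54928b28e24eacfefe6f46))
 (Tr.leaf (nat_lit 0xf9bb3d1ee85021001569fd7d2)))
 (Tr.node (Tr.leaf (nat_lit 0xb963f9377803830e9fb9e1221))
 (Tr.leaf (nat_lit 0xf9bb3d1ee85021001569fd7d2))))))
 (Tr.node (Tr.node (Tr.node (Tr.node (Tr.leaf (nat_lit 0x66305473637befbff720033))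
 (Tr.leaf (nat_lit 0xbeabaf1f90dbc42b158891e03)))
 (Tr.node (Tr.leaf (nat_lit 0xd0320d7edb90678085e57575e))
 (Tr.leaf (nat_lit 0xf9bb3d1ee85021001569fd7d2))))
 (Tr.node (Tr.node (Tr.leaf (nat_lit 0x4234c0e297885ef0e8f756d7c))
 (Tr.leaf (nat_lit 0xfab771daf240006029e1f4df6)))
 (Tr.node (Tr.leaf (nat_lit 0x4411e0bb0618dff462af5cfac))
 (Tr.leaf (nat_lit 0xf9bb3d1ee85021001569fd7d2)))))
 (Tr.node (Tr.node (Tr.node (Tr.leaf (nat_lit 0xba5fca6bd884c41fed918184d))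
 (Tr.leaf (nat_lit 0x6a5086f3dd00de5178155bcfc)))
 (Tr.node (Tr.leaf (nat_lit 0x82942c88d3fec0c165f6fcc5e))
 (Tr.leaf (nat_lit 0xf9bb3d1ee85021001569fd7d2))))
 (Tr.node (Tr.node (Tr.leaf (nat_lit 0xdee5d3f1b70f0ce2aa8042927))
 (Tr.leaf (nat_lit 0xf9bb3d1ee85021001569fd7d2)))
 (Tr.node (Tr.leaf (nat_lit 0x9d0127bf625f890c068cedfaa))
 (Tr.leaf (nat_lit 0xf9bb3d1ee85021001569fd7d2))))))))
 (Tr.node (Tr.node (Tr.node (Tr.node (Tr.node (Tr.node (Tr.leaf (nat_lit 0x2805a2bff04ad87f7ebd88c21))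
 (Tr.leaf (nat_lit 0x275406e047e6fa5d48162fcfc)))
 (Tr.node (Tr.leaf (nat_lit 0x4382c3821fb99630fa66d27fc))
 (Tr.leaf (nat_lit 0xf9bb3d1ee85021001569fd7d2))))
 (Tr.node (Tr.node (Tr.leaf (nat_lit 0xf9d7e2ba7a0090046e21e8ffc))
 (Tr.leaf (nat_lit 0x7b7e8e66d9807e19dc5103459)))
 (Tr.node (Tr.leaf (nat_lit 0xef6d1f65e56e695a90100f063))
 (Tr.leaf (nat_lit 0xf9bb3d1ee85021001569fd7d2)))))
 (Tr.node (Tr.node (Tr.node (Tr.leaf (nat_lit 0x94e12446965391fbe57ab1fa))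
 (Tr.leaf (nat_lit 0x4fdf2e08437cfd597642084cb)))
 (Tr.node (Tr.leaf (nat_lit 0xbbee1f44f9e7200b9d50a3053))
 (Tr.leaf (nat_lit 0xf9bb3d1ee85021001569fd7d2))))
 (Tr.node (Tr.node (Tr.leaf (nat_lit 0xa192c0bc05ccd5975dfddcca))
 (Tr.leaf (nat_lit 0xf9bb3d1ee85021001569fd7d2)))
 (Tr.node (Tr.leaf (nat_lit 0xeeecb6d5b56b58e330101a833))
 (Tr.leaf (nat_lit 0xf9bb3d1ee85021001569fd7d2))))))
 (Tr.node (Tr.node (Tr.node (Tr.node (Tr.leaf (nat_lit 0xa5fabc140df3f387153a39211))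
 (Tr.leaf (nat_lit 0xb48817ddacf720a7010cbfb96)))
 (Tr.node (Tr.leaf (nat_lit 0x47410f21473eef58d2064f6ee))
 (Tr.leaf (nat_lit 0xf9bb3d1ee85021001569fd7d2))))
 (Tr.node (Tr.node (Tr.leaf (nat_lit 0x4234c0e297885ef0e8f756d7c))
 (Tr.leaf (nat_lit 0x18c9284adff38b7fe7e8a111)))
 (Tr.node (Tr.leaf (nat_lit 0x4fb3f19207599f703aea505a1))
 (Tr.leaf (nat_lit 0xf9bb3d1ee85021001569fd7d2)))))
 (Tr.node (Tr.node (Tr.node (Tr.leaf (nat_lit 0x1e04d203fafb7cadf7e62241))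
 (Tr.leaf (nat_lit 0x67d7b2904772fa757a22084b5)))
 (Tr.node (Tr.leaf (nat_lit 0x1113492a4a94a71ccfefe57cc))
 (Tr.leaf (nat_lit 0xf9bb3d1ee85021001569fd7d2))))
 (Tr.node (Tr.node (Tr.leaf (nat_lit 0x9081c3bbbe9f84a6efacc0b05))
 (Tr.leaf (nat_lit 0xf9bb3d1ee85021001569fd7d2)))
 (Tr.node (Tr.leaf (nat_lit 0x2221c923948ac67ad9bfd7e64))
 (Tr.leaf (nat_lit 0xf9bb3d1ee85021001569fd7d2)))))))
 (Tr.node (Tr.node (Tr.node (Tr.node (Tr.node (Tr.leaf (nat_lit 0x93bdf082a6df08a4edfac4911))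
 (Tr.leaf (nat_lit 0x499107baef5cbd507e6c485c1)))
 (Tr.node (Tr.leaf (nat_lit 0x82a3831297dbc422bda6d1f76))
 (Tr.leaf (nat_lit 0xf9bb3d1ee85021001569fd7d2))))
 (Tr.node (Tr.node (Tr.leaf (nat_lit 0x10ce42483aa534afef47a2bde))
 (Tr.leaf (nat_lit 0x8500d9a50dbf839682beff32c)))
 (Tr.node (Tr.leaf (nat_lit 0xdeb975dba65d0de021c854983))
 (Tr.leaf (nat_lit 0xf9bb3d1ee85021001569fd7d2)))))
 (Tr.node (Tr.node (Tr.node (Tr.leaf (nat_lit 0xa088a69fbcfbd0a7753c98a11))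
 (Tr.leaf (nat_lit 0xdbcb6f0b7a3d8508f740c02cb)))
 (Tr.node (Tr.leaf (nat_lit 0x7e3b3d5fc0506f7911c915483))
 (Tr.leaf (nat_lit 0xf9bb3d1ee85021001569fd7d2))))
 (Tr.node (Tr.node (Tr.leaf (nat_lit 0xdc5f9a7dc9146d97a6810910f))
 (Tr.leaf (nat_lit 0xf9bb3d1ee85021001569fd7d2)))
 (Tr.node (Tr.leaf (nat_lit 0xfb5dd2e3ec040814e811cf9fc))
 (Tr.leaf (nat_lit 0xf9bb3d1ee85021001569fd7d2))))))
 (Tr.node (Tr.node (Tr.node (Tr.node (Tr.leaf (nat_lit 0x7f8d3f8de07e287952488e483))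
 (Tr.leaf (nat_lit 0xe7f33d104772e34011227d6f6)))
 (Tr.node (Tr.leaf (nat_lit 0xfd13f9bf4810831402a9fd7ac))
 (Tr.leaf (nat_lit 0xf9bb3d1ee85021001569fd7d2))))
 (Tr.node (Tr.node (Tr.leaf (nat_lit 0xf3af2f0ef2fa6028d56084653))
 (Tr.leaf (nat_lit 0xc402c3ff1fb9d7b6a2a41032d)))
 (Tr.node (Tr.leaf (nat_lit 0xef6acf671da9d71a901013269))
 (Tr.leaf (nat_lit 0xf9bb3d1ee85021001569fd7d2)))))
 (Tr.node (Tr.node (Tr.node (Tr.leaf (nat_lit 0xc6e3f911173bc7e2b3a250227))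
 (Tr.leaf (nat_lit 0xe51207fe4ff0f31400243d7fc)))
 (Tr.node (Tr.leaf (nat_lit 0x8c4426fd736fd9cf26942882b))
 (Tr.leaf (nat_lit 0xf9bb3d1ee85021001569fd7d2))))
 (Tr.node (Tr.node (Tr.leaf (nat_lit 0xef31bdb7c55acb5010b85d421))
 (Tr.leaf (nat_lit 0xf9bb3d1ee85021001569fd7d2)))
 (Tr.node (Tr.leaf (nat_lit 0x21468a2459a2f21fde37ab67c))
 (Tr.leaf (nat_lit 0xf9bb3d1ee85021001569fd7d2)))))))))
 (Tr.node (Tr.node (Tr.node (Tr.node (Tr.node (Tr.node (Tr.node (Tr.leaf (nat_lit 0x2ffa5d400de5b75b195a330c1))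
 (Tr.leaf (nat_lit 0xb7b3f19206d3822409aaf5fb4)))
 (Tr.node (Tr.leaf (nat_lit 0xffa9b797a45b08201008dffb2))
 (Tr.leaf (nat_lit 0xf9bb3d1ee85021001569fd7d2))))
 (Tr.node (Tr.node (Tr.leaf (nat_lit 0x5f77596043042f588ac3675ee))
 (Tr.leaf (nat_lit 0xdbccbe85f93f0881f650ca01b)))
 (Tr.node (Tr.leaf (nat_lit 0x441630dc43707bf522e73c5be))
 (Tr.leaf (nat_lit 0xf9bb3d1ee85021001569fd7d2)))))
 (Tr.node (Tr.node (Tr.node (Tr.leaf (nat_lit 0xff99cfab8c9c84104008dffcc))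
 (Tr.leaf (nat_lit 0x52451e427ef3bfe8afe26121)))
 (Tr.node (Tr.leaf (nat_lit 0xb93f596ee8c4211e8df9a5141))
 (Tr.leaf (nat_lit 0xf9bb3d1ee85021001569fd7d2))))
 (Tr.node (Tr.node (Tr.leaf (nat_lit 0x799fb29ee85038357e6988591))
 (Tr.leaf (nat_lit 0xf9bb3d1ee85021001569fd7d2)))
 (Tr.node (Tr.leaf (nat_lit 0x1d7ed86409853f9f8edb23109))
 (Tr.leaf (nat_lit 0xf9bb3d1ee85021001569fd7d2))))))
 (Tr.node (Tr.node (Tr.node (Tr.node (Tr.leaf (nat_lit 0x11483c0568372b8dd75fef29a))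
 (Tr.leaf (nat_lit 0x7cedae3db00a7ceb56090ae03)))
 (Tr.node (Tr.leaf (nat_lit 0xc0ba21f0059dd3f368f99faa))
 (Tr.leaf (nat_lit 0xf9bb3d1ee85021001569fd7d2))))
 (Tr.node (Tr.node (Tr.leaf (nat_lit 0x73e7790072222268db63e66f6))
 (Tr.leaf (nat_lit 0x224d1241e466687ff9178f8f6)))
 (Tr.node (Tr.leaf (nat_lit 0x67d7b2904772fa757a22084b5))
 (Tr.leaf (nat_lit 0xf9bb3d1ee85021001569fd7d2)))))
 (Tr.node (Tr.node (Tr.node (Tr.leaf (nat_lit 0x1b008fa7d99f8e19dedcc3409))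
 (Tr.leaf (nat_lit 0xcf977988437c815022e2fc5ee)))
 (Tr.node (Tr.leaf (nat_lit 0x1113492a4a94a71ccfefe57cc))
 (Tr.leaf (nat_lit 0xf9bb3d1ee85021001569fd7d2))))
 (Tr.node (Tr.node (Tr.leaf (nat_lit 0xf21ef8cfd8b042b5e1f19401d))
 (Tr.leaf (nat_lit 0xf9bb3d1ee85021001569fd7d2)))
 (Tr.node (Tr.leaf (nat_lit 0xfe74bcf5d1024ac100917fc3e))
 (Tr.leaf (nat_lit 0xf9bb3d1ee85021001569fd7d2)))))))
 (Tr.node (Tr.node (Tr.node (Tr.node (Tr.node (Tr.leaf (nat_lit 0x303424fef2c27aed4dfd24c11))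
 (Tr.leaf (nat_lit 0xd8f75978fb0425c2afe160147)))
 (Tr.node (Tr.leaf (nat_lit 0xef5ab6d74d71db153010190b9))
 (Tr.leaf (nat_lit 0xf9bb3d1ee85021001569fd7d2))))
 (Tr.node (Tr.node (Tr.leaf (nat_lit 0x6bbdf082a4481870787bdedf0))
 (Tr.leaf (nat_lit 0x894c8a8998c94d36efffad4c)))
 (Tr.node (Tr.leaf (nat_lit 0xdba7b396f35b0820bee0c0533))
 (Tr.leaf (nat_lit 0xf9bb3d1ee85021001569fd7d2)))))
 (Tr.node (Tr.node (Tr.node (Tr.leaf (nat_lit 0x51fbf0122e113fa4ff6b40391))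
 (Tr.leaf (nat_lit 0x3a2035d7f0430a6919ddf7cb2)))
 (Tr.node (Tr.leaf (nat_lit 0x2fcdf281246f987f7a1a8a8a1))
 (Tr.leaf (nat_lit 0xf9bb3d1ee85021001569fd7d2))))
 (Tr.node (Tr.node (Tr.leaf (nat_lit 0x1ca407fcb3cf3ceb0ecc22d03))
 (Tr.leaf (nat_lit 0xf9bb3d1ee85021001569fd7d2)))
 (Tr.node (Tr.leaf (nat_lit 0x7d6bd3772c013f3e9a09033a1))
 (Tr.leaf (nat_lit 0xf9bb3d1ee85021001569fd7d2))))))
 (Tr.node (Tr.node (Tr.node (Tr.node (Tr.leaf (nat_lit 0x8bbbd9028ddd8512bdfad1141))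
 (Tr.leaf (nat_lit 0x2433417a06c0f77e09af35fe4)))
 (Tr.node (Tr.leaf (nat_lit 0x211a2c0e48f0f31d557fbd6d8))
 (Tr.leaf (nat_lit 0xf9bb3d1ee85021001569fd7d2))))
 (Tr.node (Tr.node (Tr.leaf (nat_lit 0x333fb806c0d26a3dddfb85411))
 (Tr.leaf (nat_lit 0x5488e250dbfff9fd61e0b209)))
 (Tr.node (Tr.leaf (nat_lit 0xafe97d01246f814a111affae2))
 (Tr.leaf (nat_lit 0xf9bb3d1ee85021001569fd7d2)))))
 (Tr.node (Tr.node (Tr.node (Tr.leaf (nat_lit 0x4820d1f7bd091ff2bafd52121))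
 (Tr.leaf (nat_lit 0x777fc26206807e3cc80307ffc)))
 (Tr.node (Tr.leaf (nat_lit 0x8f7fc26207cddd1eac9201969))
 (Tr.leaf (nat_lit 0xf9bb3d1ee85021001569fd7d2))))
 (Tr.node (Tr.node (Tr.leaf (nat_lit 0x2e2087f795cbde7b189c13c21))
 (Tr.leaf (nat_lit 0xf9bb3d1ee85021001569fd7d2)))
 (Tr.node (Tr.leaf (nat_lit 0x24584c690ca4f7df411f3facc))
 (Tr.leaf (nat_lit 0xf9bb3d1ee85021001569fd7d2))))))))
 (Tr.node (Tr.node (Tr.node (Tr.node (Tr.node (Tr.node (Tr.leaf (nat_lit 0x40e251503f2137e2bb67723f6))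
 (Tr.leaf (nat_lit 0xf39f53caeef42034e960841d5)))
 (Tr.node (Tr.leaf (nat_lit 0x553fe82e02987fbcc6eb04709))
 (Tr.leaf (nat_lit 0xf9bb3d1ee85021001569fd7d2))))
 (Tr.node (Tr.node (Tr.leaf (nat_lit 0xd62087f7979b4ea0808457f3e))
 (Tr.leaf (nat_lit 0xad0847ef2ced911e001cbfbe8)))
 (Tr.node (Tr.leaf (nat_lit 0x67bb6d0a06f8f778516a146c1))
 (Tr.leaf (nat_lit 0xf9bb3d1ee85021001569fd7d2)))))
 (Tr.node (Tr.node (Tr.node (Tr.leaf (nat_lit 0x6c29077fa4487d7a100d1ffe2))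
 (Tr.leaf (nat_lit 0xc5702784344fd5f2e8729dee)))
 (Tr.node (Tr.leaf (nat_lit 0xdebea6de93d95ca124c010d1b))
 (Tr.leaf (nat_lit 0xf9bb3d1ee85021001569fd7d2))))
 (Tr.node (Tr.node (Tr.leaf (nat_lit 0x12740c60d3866ec9cdd767c5e))
 (Tr.leaf (nat_lit 0xf9bb3d1ee85021001569fd7d2)))
 (Tr.node (Tr.leaf (nat_lit 0xeeecb6d5b56b58e330101a833))
 (Tr.leaf (nat_lit 0xf9bb3d1ee85021001569fd7d2))))))
 (Tr.node (Tr.node (Tr.node (Tr.node (Tr.leaf (nat_lit 0xa5fd6c2826eef1ce453a2ca41))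
 (Tr.leaf (nat_lit 0xaaf7b810d142c0433db3f9c76)))
 (Tr.node (Tr.leaf (nat_lit 0x212d8226a4ca783edc3f8ff70))
 (Tr.leaf (nat_lit 0xf9bb3d1ee85021001569fd7d2))))
 (Tr.node (Tr.node (Tr.leaf (nat_lit 0x10ce42483aa534afef47a2bde))
 (Tr.leaf (nat_lit 0xc83424fef34859c024f57cd7a)))
 (Tr.node (Tr.leaf (nat_lit 0x170613c443f72a3d8ac6a75be))
 (Tr.leaf (nat_lit 0xf9bb3d1ee85021001569fd7d2)))))
 (Tr.node (Tr.node (Tr.node (Tr.leaf (nat_lit 0xec56f8fd5920d3d722b13802d))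
 (Tr.leaf (nat_lit 0x9fbcbc8481df088104daffd1a)))
 (Tr.node (Tr.leaf (nat_lit 0xf467797d722263ee83a124227))
 (Tr.leaf (nat_lit 0xf9bb3d1ee85021001569fd7d2))))
 (Tr.node (Tr.node (Tr.leaf (nat_lit 0x2fcdf281246f987f7a1a8a8a1))
 (Tr.leaf (nat_lit 0xf9bb3d1ee85021001569fd7d2)))
 (Tr.node (Tr.leaf (nat_lit 0x9d0127bf625f890c068cedfaa))
 (Tr.leaf (nat_lit 0xf9bb3d1ee85021001569fd7d2)))))))
 (Tr.node (Tr.node (Tr.node (Tr.node (Tr.node (Tr.leaf (nat_lit 0x8042b8155933c387b7b7f923e))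
 (Tr.leaf (nat_lit 0x8f7fc26207cddd1eac9201969)))
 (Tr.node (Tr.leaf (nat_lit 0xa9fbf0122c4191063d3bf9bf0))
 (Tr.leaf (nat_lit 0xf9bb3d1ee85021001569fd7d2))))
 (Tr.node (Tr.node (Tr.leaf (nat_lit 0x7fd64fe85ba4b6594a40224cd))
 (Tr.leaf (nat_lit 0xffae67ce32e910280040b6ffa)))
 (Tr.node (Tr.leaf (nat_lit 0x4c8817ddad7d3df3324c1a183))
 (Tr.leaf (nat_lit 0xf9bb3d1ee85021001569fd7d2)))))
 (Tr.node (Tr.node (Tr.node (Tr.leaf (nat_lit 0xf6dd36d9e67668e561000c897))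
 (Tr.leaf (nat_lit 0x4c92619267ffdef770e08a83)))
 (Tr.node (Tr.leaf (nat_lit 0xe97f9276ed407916bc3109171))
 (Tr.leaf (nat_lit 0xf9bb3d1ee85021001569fd7d2))))
 (Tr.node (Tr.node (Tr.leaf (nat_lit 0xbbb2bd96d9d382011df8f1411))
 (Tr.leaf (nat_lit 0xf9bb3d1ee85021001569fd7d2)))
 (Tr.node (Tr.leaf (nat_lit 0x3f3ef0c600c11a3d08dbb7db8))
 (Tr.leaf (nat_lit 0xf9bb3d1ee85021001569fd7d2))))))
 (Tr.node (Tr.node (Tr.node (Tr.node (Tr.leaf (nat_lit 0xeeb7c3fa97c8d47228a010d65))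
 (Tr.leaf (nat_lit 0x85070b2c43fee11e86a6ad76e)))
 (Tr.node (Tr.leaf (nat_lit 0x82a3831297dbc422bda6d1f76))
 (Tr.leaf (nat_lit 0xf9bb3d1ee85021001569fd7d2))))
 (Tr.node (Tr.node (Tr.leaf (nat_lit 0x8931918c954a5533feff95c6))
 (Tr.leaf (nat_lit 0xede0fdb53d2b93c212387a221)))
 (Tr.node (Tr.leaf (nat_lit 0x81c4c2a03faf9086ee36eab7c))
 (Tr.leaf (nat_lit 0xf9bb3d1ee85021001569fd7d2)))))
 (Tr.node (Tr.node (Tr.node (Tr.leaf (nat_lit 0xf6ed4f69b6ae64eac10006a47))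
 (Tr.leaf (nat_lit 0x7fe1e7b3360b9e685a0842ea1)))
 (Tr.node (Tr.leaf (nat_lit 0xc3fd3c00e77e69c0f5724c053))
 (Tr.leaf (nat_lit 0xf9bb3d1ee85021001569fd7d2))))
 (Tr.node (Tr.node (Tr.leaf (nat_lit 0xd67bf05306114fa4a18355bbe))
 (Tr.leaf (nat_lit 0xf9bb3d1ee85021001569fd7d2)))
 (Tr.node (Tr.leaf (nat_lit 0xb377e8225282c20ccdb3e5e7c))
 (Tr.leaf (nat_lit 0xf9bb3d1ee85021001569fd7d2))))))))))
 (Tr.node (Tr.node (Tr.node (Tr.node (Tr.node (Tr.node (Tr.node (Tr.node (Tr.leaf (nat_lit 0xd005a2bff21a48a4e6a5ccf3e))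
 (Tr.leaf (nat_lit 0x860c92c585ff48b7a0969f93e)))
 (Tr.node (Tr.leaf (nat_lit 0xf9bcecaeb88810804479fef58))
 (Tr.leaf (nat_lit 0xf9bb3d1ee85021001569fd7d2))))
 (Tr.node (Tr.node (Tr.leaf (nat_lit 0xae040fedd1eec05b0094bfc6e))
 (Tr.leaf (nat_lit 0xdbccbe85f93f0881f650ca01b)))
 (Tr.node (Tr.leaf (nat_lit 0x18b430a2efdb53eff6e803c1))
 (Tr.leaf (nat_lit 0xf9bb3d1ee85021001569fd7d2)))))
 (Tr.node (Tr.node (Tr.node (Tr.leaf (nat_lit 0x4b4047e37f2d9f58fa54420e9))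
 (Tr.leaf (nat_lit 0x1d034906f77bbc57f7e68091)))
 (Tr.node (Tr.leaf (nat_lit 0x6daf790c2068317a126bbe7e2))
 (Tr.leaf (nat_lit 0xf9bb3d1ee85021001569fd7d2))))
 (Tr.node (Tr.node (Tr.leaf (nat_lit 0x185064fb7a059fcd6fdd60889))
 (Tr.leaf (nat_lit 0xf9bb3d1ee85021001569fd7d2)))
 (Tr.node (Tr.leaf (nat_lit 0xebf5a6b2f74ad8407c3048c71))
 (Tr.leaf (nat_lit 0xf9bb3d1ee85021001569fd7d2))))))
 (Tr.node (Tr.node (Tr.node (Tr.node (Tr.leaf (nat_lit 0x6c420f7d5920f75b12053b6ee))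
 (Tr.leaf (nat_lit 0xedd753f86f64b1562a20281e5)))
 (Tr.node (Tr.leaf (nat_lit 0x637f704266607b7cf973040f1))
 (Tr.leaf (nat_lit 0xf9bb3d1ee85021001569fd7d2))))
 (Tr.node (Tr.node (Tr.leaf (nat_lit 0xb7df2e0842f6e00d4502adede))
 (Tr.leaf (nat_lit 0xfe736d7b5200c748018175eee)))
 (Tr.node (Tr.leaf (nat_lit 0x79f36d3a7a00b7485f69606c1))
 (Tr.leaf (nat_lit 0xf9bb3d1ee85021001569fd7d2)))))
 (Tr.node (Tr.node (Tr.node (Tr.leaf (nat_lit 0xc0aa075ebff975a2b56410353))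
 (Tr.leaf (nat_lit 0x367dd86184866effc99b07805)))
 (Tr.node (Tr.leaf (nat_lit 0xd059067bee146d84e5054dbde))
 (Tr.leaf (nat_lit 0xf9bb3d1ee85021001569fd7d2))))
 (Tr.node (Tr.node (Tr.leaf (nat_lit 0xa295143a44d0d7ab9dfd79e2))
 (Tr.leaf (nat_lit 0xf9bb3d1ee85021001569fd7d2)))
 (Tr.node (Tr.leaf (nat_lit 0x76fe6c4812a076e9414336ede))
 (Tr.leaf (nat_lit 0xf9bb3d1ee85021001569fd7d2)))))))
 (Tr.node (Tr.node (Tr.node (Tr.node (Tr.node (Tr.leaf (nat_lit 0xbf1a7dcf48f5831d01d8b5089))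
 (Tr.leaf (nat_lit 0x1ff33d104357af491fca61483)))
 (Tr.node (Tr.leaf (nat_lit 0xc0ba21f0059dd3f368f99faa))
 (Tr.leaf (nat_lit 0xf9bb3d1ee85021001569fd7d2))))
 (Tr.node (Tr.node (Tr.leaf (nat_lit 0xe4ff7058266071e621233cbf6))
 (Tr.leaf (nat_lit 0x6ecfea091028d47b72039aeee)))
 (Tr.node (Tr.leaf (nat_lit 0x49582b887defcf76eae08d05))
 (Tr.leaf (nat_lit 0xf9bb3d1ee85021001569fd7d2)))))
 (Tr.node (Tr.node (Tr.node (Tr.leaf (nat_lit 0xa458a21d10ecc5bfe97cbc6e))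
 (Tr.leaf (nat_lit 0x1ff4eca0138f9ec94eda62c09)))
 (Tr.node (Tr.leaf (nat_lit 0xc2104debdfbcc7d0e1f45404d))
 (Tr.leaf (nat_lit 0xf9bb3d1ee85021001569fd7d2))))
 (Tr.node (Tr.node (Tr.leaf (nat_lit 0xedbb8f3e8dd8f512142819741))
 (Tr.leaf (nat_lit 0xf9bb3d1ee85021001569fd7d2)))
 (Tr.node (Tr.leaf (nat_lit 0x7d6bd3772c013f3e9a09033a1))
 (Tr.leaf (nat_lit 0xf9bb3d1ee85021001569fd7d2))))))
 (Tr.node (Tr.node (Tr.node (Tr.node (Tr.leaf (nat_lit 0x37fba61206d3fe2d5d0a01e91))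
 (Tr.leaf (nat_lit 0xaaf7b810d142c0433db3f9c76)))
 (Tr.node (Tr.leaf (nat_lit 0xa84a265f7861d10f3515b9afa))
 (Tr.leaf (nat_lit 0xf9bb3d1ee85021001569fd7d2))))
 (Tr.node (Tr.node (Tr.leaf (nat_lit 0x49fdd820ad0c3dd2fe7b4a141))
 (Tr.leaf (nat_lit 0x57ded2c00fb53eb5ea420219d)))
 (Tr.node (Tr.leaf (nat_lit 0x224ac2431ca1d63ff91793afc))
 (Tr.leaf (nat_lit 0xf9bb3d1ee85021001569fd7d2)))))
 (Tr.node (Tr.node (Tr.node (Tr.leaf (nat_lit 0x7a93f99bd81086717be9d0485))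
 (Tr.leaf (nat_lit 0xfd4f5b6d6824211e8201af3ee)))
 (Tr.node (Tr.leaf (nat_lit 0x82942c88d3fec0c165f6fcc5e))
 (Tr.leaf (nat_lit 0xf9bb3d1ee85021001569fd7d2))))
 (Tr.node (Tr.node (Tr.leaf (nat_lit 0x9a9207dadbd584012dc4f1dde))
 (Tr.leaf (nat_lit 0xf9bb3d1ee85021001569fd7d2)))
 (Tr.node (Tr.leaf (nat_lit 0xfb6a7d47782103089151f72fa))
 (Tr.leaf (nat_lit 0xf9bb3d1ee85021001569fd7d2))))))))
 (Tr.node (Tr.node (Tr.node (Tr.node (Tr.node (Tr.node (Tr.leaf (nat_lit 0xd91df8afe81c0994e6f9cc109))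
 (Tr.leaf (nat_lit 0x1218d0c38c950eb5e9dfd799c)))
 (Tr.node (Tr.leaf (nat_lit 0x41388c268d987f90d47f5f758))
 (Tr.leaf (nat_lit 0xf9bb3d1ee85021001569fd7d2))))
 (Tr.node (Tr.node (Tr.leaf (nat_lit 0x922c9261989971a9efff3768))
 (Tr.leaf (nat_lit 0xfe2fcb6f9088443a808197f6e)))
 (Tr.node (Tr.leaf (nat_lit 0x9afed84099850483add3f395e))
 (Tr.leaf (nat_lit 0xf9bb3d1ee85021001569fd7d2)))))
 (Tr.node (Tr.node (Tr.node (Tr.leaf (nat_lit 0x688613dcf96030733a65ba5f6))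
 (Tr.leaf (nat_lit 0xa20293d7ddf3c237b9b491035)))
 (Tr.node (Tr.leaf (nat_lit 0xddb53dbce35e29c006e86c503))
 (Tr.leaf (nat_lit 0xf9bb3d1ee85021001569fd7d2))))
 (Tr.node (Tr.node (Tr.leaf (nat_lit 0xa192c0bc05ccd5975dfddcca))
 (Tr.leaf (nat_lit 0xf9bb3d1ee85021001569fd7d2)))
 (Tr.node (Tr.leaf (nat_lit 0x9fe7cb20138f840a8e82e3f6e))
 (Tr.leaf (nat_lit 0xf9bb3d1ee85021001569fd7d2))))))
 (Tr.node (Tr.node (Tr.node (Tr.node (Tr.leaf (nat_lit 0x9429077fa6df6dae858c05b03))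
 (Tr.leaf (nat_lit 0x76f9bc1184126ee1510b5fe96)))
 (Tr.node (Tr.leaf (nat_lit 0x741886ff8c907eb5400d1ff9c))
 (Tr.leaf (nat_lit 0xf9bb3d1ee85021001569fd7d2))))
 (Tr.node (Tr.node (Tr.leaf (nat_lit 0x3f55f8a140068a5d4a9befcac))
 (Tr.leaf (nat_lit 0x7fe637d473633a691a40224b3)))
 (Tr.node (Tr.leaf (nat_lit 0x3a90568dd17fb7bdff11111))
 (Tr.leaf (nat_lit 0xf9bb3d1ee85021001569fd7d2)))))
 (Tr.node (Tr.node (Tr.node (Tr.leaf (nat_lit 0xef31bdb7c55acb5010b85d421))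
 (Tr.leaf (nat_lit 0xd7a6f98413bb02a082e2f673e)))
 (Tr.node (Tr.leaf (nat_lit 0x16806d8912bf86e943cef6e8e))
 (Tr.leaf (nat_lit 0xf9bb3d1ee85021001569fd7d2))))
 (Tr.node (Tr.node (Tr.leaf (nat_lit 0xb8d5f8b9f80680c76fb9e8805))
 (Tr.leaf (nat_lit 0xf9bb3d1ee85021001569fd7d2)))
 (Tr.node (Tr.leaf (nat_lit 0x38aa075eb8c1342b1d4db3fd2))
 (Tr.leaf (nat_lit 0xf9bb3d1ee85021001569fd7d2)))))))
 (Tr.node (Tr.node (Tr.node (Tr.node (Tr.node (Tr.leaf (nat_lit 0x8a0a0f4fd9fdc51bb5d49104b))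
 (Tr.leaf (nat_lit 0x1faf9b0481df2c3b9eca83503)))
 (Tr.node (Tr.leaf (nat_lit 0xa9fbf0122c4191063d3bf9bf0))
 (Tr.leaf (nat_lit 0xf9bb3d1ee85021001569fd7d2))))
 (Tr.node (Tr.node (Tr.leaf (nat_lit 0x13a90702a6df2c28dd4ec7fd2))
 (Tr.leaf (nat_lit 0xfd78f4f72c011b8400197fbb8)))
 (Tr.node (Tr.leaf (nat_lit 0xc6bf594887fc65f2a1e214147))
 (Tr.leaf (nat_lit 0xf9bb3d1ee85021001569fd7d2)))))
 (Tr.node (Tr.node (Tr.node (Tr.leaf (nat_lit 0x6281d4585ff6ffb91de17003))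
 (Tr.leaf (nat_lit 0x2870b08d3fee47bffe680447)))
 (Tr.node (Tr.leaf (nat_lit 0xc2104debdfbcc7d0e1f45404d))
 (Tr.leaf (nat_lit 0xf9bb3d1ee85021001569fd7d2))))
 (Tr.node (Tr.node (Tr.leaf (nat_lit 0x5e9df889801c0cf162cbded8e))
 (Tr.leaf (nat_lit 0xf9bb3d1ee85021001569fd7d2)))
 (Tr.node (Tr.leaf (nat_lit 0x73bbd9028c902630d96bd77d4))
 (Tr.leaf (nat_lit 0xf9bb3d1ee85021001569fd7d2))))))
 (Tr.node (Tr.node (Tr.node (Tr.node (Tr.leaf (nat_lit 0xdf3f0f6ec3dc6d1884c00554b))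
 (Tr.leaf (nat_lit 0x85070b2c43fee11e86a6ad76e)))
 (Tr.node (Tr.leaf (nat_lit 0x221660ca52e0d27d69f7b4cfc))
 (Tr.leaf (nat_lit 0xf9bb3d1ee85021001569fd7d2))))
 (Tr.node (Tr.node (Tr.leaf (nat_lit 0x64313514777ef7fbb86010a7))
 (Tr.leaf (nat_lit 0xe8fe3c5cf96071c3357138053)))
 (Tr.node (Tr.leaf (nat_lit 0x5888a69fb8191ca1764ddaf9a))
 (Tr.leaf (nat_lit 0xf9bb3d1ee85021001569fd7d2)))))
 (Tr.node (Tr.node (Tr.node (Tr.leaf (nat_lit 0xbdcb3f1d6877a10f1708a9283))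
 (Tr.leaf (nat_lit 0x2d4017f56d67bb5f1a1c2b0a1)))
 (Tr.node (Tr.leaf (nat_lit 0xc0c10f39ff3ee5c2f72448247))
 (Tr.leaf (nat_lit 0xf9bb3d1ee85021001569fd7d2))))
 (Tr.node (Tr.node (Tr.leaf (nat_lit 0x8c1886ff8ddddd97249c19909))
 (Tr.leaf (nat_lit 0xf9bb3d1ee85021001569fd7d2)))
 (Tr.node (Tr.leaf (nat_lit 0x3940a6b778039a0d5e1debeb8))
 (Tr.leaf (nat_lit 0xf9bb3d1ee85021001569fd7d2)))))))))
 (Tr.node (Tr.node (Tr.node (Tr.node (Tr.node (Tr.node (Tr.node (Tr.leaf (nat_lit 0xe4a407fcb7ea70e200243ef76))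
 (Tr.leaf (nat_lit 0xcffc74c0276d19c020527e9fa)))
 (Tr.node (Tr.leaf (nat_lit 0x1124e0a6328b1aacceffe6f38))
 (Tr.leaf (nat_lit 0xf9bb3d1ee85021001569fd7d2))))
 (Tr.node (Tr.node (Tr.leaf (nat_lit 0x5f77596043042f588ac3675ee))
 (Tr.leaf (nat_lit 0x8198648a2efd9184657efcbd8)))
 (Tr.node (Tr.leaf (nat_lit 0x8a610773f74fcd4abd9441863))
 (Tr.leaf (nat_lit 0xf9bb3d1ee85021001569fd7d2)))))
 (Tr.node (Tr.node (Tr.node (Tr.leaf (nat_lit 0xe0601d75fd2263c291357f276))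
 (Tr.leaf (nat_lit 0x34f7e8381282f6ef4fab20e05)))
 (Tr.node (Tr.leaf (nat_lit 0xf75b4f6b4eb4e71cc100052cd))
 (Tr.leaf (nat_lit 0xf9bb3d1ee85021001569fd7d2))))
 (Tr.node (Tr.node (Tr.leaf (nat_lit 0x42581c41cd346fd1f1575f0de))
 (Tr.leaf (nat_lit 0xf9bb3d1ee85021001569fd7d2)))
 (Tr.node (Tr.leaf (nat_lit 0x2fa6f98411eb927b1afab2421))
 (Tr.leaf (nat_lit 0xf9bb3d1ee85021001569fd7d2))))))
 (Tr.node (Tr.node (Tr.node (Tr.node (Tr.leaf (nat_lit 0x1243a2135213ce2dff87c1ebe))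
 (Tr.leaf (nat_lit 0xb48817ddacf720a7010cbfb96)))
 (Tr.node (Tr.leaf (nat_lit 0xf5d6aebc5bb2f28546202861d))
 (Tr.leaf (nat_lit 0xf9bb3d1ee85021001569fd7d2))))
 (Tr.node (Tr.node (Tr.leaf (nat_lit 0x391c06eee8c4381d4c5dafdd8))
 (Tr.leaf (nat_lit 0xf17e6c6e7aa0738cc57124259)))
 (Tr.node (Tr.leaf (nat_lit 0xbbb2bd96d9d382011df8f1411))
 (Tr.leaf (nat_lit 0xf9bb3d1ee85021001569fd7d2)))))
 (Tr.node (Tr.node (Tr.node (Tr.leaf (nat_lit 0x94420f7d5bb7e78f87842120f))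
 (Tr.leaf (nat_lit 0x484c0e6df92c7ddbf6550a04b)))
 (Tr.node (Tr.leaf (nat_lit 0x601834dfec707bf5717d1c091))
 (Tr.leaf (nat_lit 0xf9bb3d1ee85021001569fd7d2))))
 (Tr.node (Tr.node (Tr.leaf (nat_lit 0xded27dd95b3587c123c07008f))
 (Tr.leaf (nat_lit 0xf9bb3d1ee85021001569fd7d2)))
 (Tr.node (Tr.leaf (nat_lit 0xfccef2dd382110a72201babbe))
 (Tr.leaf (nat_lit 0xf9bb3d1ee85021001569fd7d2)))))))
 (Tr.node (Tr.node (Tr.node (Tr.node (Tr.node (Tr.leaf (nat_lit 0xedbc5decadec31d200783e141))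
 (Tr.leaf (nat_lit 0xede72f3c736af14a162028663)))
 (Tr.node (Tr.leaf (nat_lit 0xc3c0c6c81cc7ddb04df3fd4a))
 (Tr.leaf (nat_lit 0xf9bb3d1ee85021001569fd7d2))))
 (Tr.node (Tr.node (Tr.leaf (nat_lit 0xfe1fb2dfc050483520819ddbe))
 (Tr.leaf (nat_lit 0xe00b135fec706136b1259d3f6)))
 (Tr.node (Tr.leaf (nat_lit 0x4cbfb81c81587df336eb18503))
 (Tr.leaf (nat_lit 0xf9bb3d1ee85021001569fd7d2)))))
 (Tr.node (Tr.node (Tr.node (Tr.leaf (nat_lit 0xa088a69fbcfbd0a7753c98a11))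
 (Tr.leaf (nat_lit 0x330817c7ecf72a3dd95c87091)))
 (Tr.node (Tr.leaf (nat_lit 0x3d406aa6cc7dfeedff04941))
 (Tr.leaf (nat_lit 0xf9bb3d1ee85021001569fd7d2))))
 (Tr.node (Tr.node (Tr.leaf (nat_lit 0xdc5f9a7dc9146d97a6810910f))
 (Tr.leaf (nat_lit 0xf9bb3d1ee85021001569fd7d2)))
 (Tr.node (Tr.leaf (nat_lit 0x70803d9df83222e1536dfe696))
 (Tr.leaf (nat_lit 0xf9bb3d1ee85021001569fd7d2))))))
 (Tr.node (Tr.node (Tr.node (Tr.node (Tr.leaf (nat_lit 0x7d3771fe62403b7c0ae9245a1))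
 (Tr.leaf (nat_lit 0x7cb6d9fc998036f30ae932505)))
 (Tr.node (Tr.leaf (nat_lit 0x656df825242a7bfed23b0e221))
 (Tr.leaf (nat_lit 0xf9bb3d1ee85021001569fd7d2))))
 (Tr.node (Tr.node (Tr.leaf (nat_lit 0x29840facf9eeb05b5e7caa441))
 (Tr.leaf (nat_lit 0xddb2edbe1b99978006e870709)))
 (Tr.node (Tr.leaf (nat_lit 0xafe97d01246f814a111affae2))
 (Tr.leaf (nat_lit 0xf9bb3d1ee85021001569fd7d2)))))
 (Tr.node (Tr.node (Tr.node (Tr.leaf (nat_lit 0x8c1886ff8ddddd97249c19909))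
 (Tr.leaf (nat_lit 0x5befe20232091c28fe43c2ffa)))
 (Tr.node (Tr.leaf (nat_lit 0x4a22d1c13fbf7eb17ee30603))
 (Tr.leaf (nat_lit 0xf9bb3d1ee85021001569fd7d2))))
 (Tr.node (Tr.node (Tr.leaf (nat_lit 0x925086f3df97ce85ed944181d))
 (Tr.leaf (nat_lit 0xf9bb3d1ee85021001569fd7d2)))
 (Tr.node (Tr.leaf (nat_lit 0xb34047e37ea7820cc914e7afc))
 (Tr.leaf (nat_lit 0xf9bb3d1ee85021001569fd7d2))))))))
 (Tr.node (Tr.node (Tr.node (Tr.node (Tr.node (Tr.node (Tr.leaf (nat_lit 0x13c20f005bb7a609df46e36de))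
 (Tr.leaf (nat_lit 0x1228ac07909b4ea9d5dfd7e1a)))
 (Tr.node (Tr.leaf (nat_lit 0xbda7e3be32cb902e0ea8a0f21))
 (Tr.leaf (nat_lit 0xf9bb3d1ee85021001569fd7d2))))
 (Tr.node (Tr.node (Tr.leaf (nat_lit 0x4e6ef84511295ffbb2d31202b))
 (Tr.leaf (nat_lit 0xcb0817c7ed7d0910b054df1fa)))
 (Tr.node (Tr.leaf (nat_lit 0x2abfe80a90c8d47b7dfb90c41))
 (Tr.leaf (nat_lit 0xf9bb3d1ee85021001569fd7d2)))))
 (Tr.node (Tr.node (Tr.node (Tr.leaf (nat_lit 0x912b09649519b153efff95b8))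
 (Tr.leaf (nat_lit 0xc5dfca280fbcf596e6220834d)))
 (Tr.node (Tr.leaf (nat_lit 0xc40513fde77e69f6a2a40c127))
 (Tr.leaf (nat_lit 0xf9bb3d1ee85021001569fd7d2))))
 (Tr.node (Tr.node (Tr.leaf (nat_lit 0x40d22c185b30f7c17767786de))
 (Tr.leaf (nat_lit 0xf9bb3d1ee85021001569fd7d2)))
 (Tr.node (Tr.leaf (nat_lit 0xb9886828ddd9c117c5edbdd8))
 (Tr.leaf (nat_lit 0xf9bb3d1ee85021001569fd7d2))))))
 (Tr.node (Tr.node (Tr.node (Tr.node (Tr.leaf (nat_lit 0xf0cfba1df83260a7f72188217))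
 (Tr.leaf (nat_lit 0xeb997d8bec7c81507178dc0c1)))
 (Tr.node (Tr.leaf (nat_lit 0x596207767b013f089e45637fa))
 (Tr.leaf (nat_lit 0xf9bb3d1ee85021001569fd7d2))))
 (Tr.node (Tr.node (Tr.leaf (nat_lit 0x72610773f6026e68d90547ef6))
 (Tr.leaf (nat_lit 0xfab771daf240006029e1f4df6)))
 (Tr.node (Tr.leaf (nat_lit 0x46c0a691173bdee172065aebe))
 (Tr.leaf (nat_lit 0xf9bb3d1ee85021001569fd7d2)))))
 (Tr.node (Tr.node (Tr.node (Tr.leaf (nat_lit 0x8029b017a45b49a6b5bfddb32))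
 (Tr.leaf (nat_lit 0x2708a68704fbda3d501e9feb8)))
 (Tr.node (Tr.leaf (nat_lit 0x469c06c887fc7cf160461edde))
 (Tr.leaf (nat_lit 0xf9bb3d1ee85021001569fd7d2))))
 (Tr.node (Tr.node (Tr.leaf (nat_lit 0x57b5d9a0879e2ef0caea46505))
 (Tr.leaf (nat_lit 0xf9bb3d1ee85021001569fd7d2)))
 (Tr.node (Tr.leaf (nat_lit 0x5ef6f0d013011ee12ac372dbe))
 (Tr.leaf (nat_lit 0xf9bb3d1ee85021001569fd7d2)))))))
 (Tr.node (Tr.node (Tr.node (Tr.node (Tr.node (Tr.leaf (nat_lit 0xcfcbdb010d3d8512b202db3ee))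
 (Tr.leaf (nat_lit 0xda7abc57d9114f81b5d15101b)))
 (Tr.node (Tr.leaf (nat_lit 0xa16207767fe3f30e9d3421271))
 (Tr.leaf (nat_lit 0xf9bb3d1ee85021001569fd7d2))))
 (Tr.node (Tr.node (Tr.leaf (nat_lit 0x45a03594277b3be0126e7e7b2))
 (Tr.leaf (nat_lit 0xe57ed8640da0739680333f37c)))
 (Tr.node (Tr.leaf (nat_lit 0x3797798842f6a27d4beaa4485))
 (Tr.leaf (nat_lit 0xf9bb3d1ee85021001569fd7d2)))))
 (Tr.node (Tr.node (Tr.node (Tr.leaf (nat_lit 0x29df78086864b15f7f7ba80c1))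
 (Tr.leaf (nat_lit 0x8ef9bc11855fcdc3359a59803)))
 (Tr.node (Tr.leaf (nat_lit 0x140a594d08b527bf83cfb738e))
 (Tr.leaf (nat_lit 0xf9bb3d1ee85021001569fd7d2))))
 (Tr.node (Tr.node (Tr.leaf (nat_lit 0xc22035d7f77b4be0b1f454033))
 (Tr.leaf (nat_lit 0xf9bb3d1ee85021001569fd7d2)))
 (Tr.node (Tr.leaf (nat_lit 0x3c02c3ff1881963f0a8db3fac))
 (Tr.leaf (nat_lit 0xf9bb3d1ee85021001569fd7d2))))))
 (Tr.node (Tr.node (Tr.node (Tr.node (Tr.leaf (nat_lit 0xd577b83443126b8486a36d73e))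
 (Tr.leaf (nat_lit 0x890643ee7bed911eaef4a0169)))
 (Tr.node (Tr.leaf (nat_lit 0x3ddfca280884b41f4e0babfcc))
 (Tr.leaf (nat_lit 0xf9bb3d1ee85021001569fd7d2))))
 (Tr.node (Tr.node (Tr.leaf (nat_lit 0xed8bf39f2c7991363228983a1))
 (Tr.leaf (nat_lit 0x209b821a8cd0f4377d2f99fd4)))
 (Tr.node (Tr.leaf (nat_lit 0x4108f0872c391bb4f27fde3b8))
 (Tr.leaf (nat_lit 0xf9bb3d1ee85021001569fd7d2)))))
 (Tr.node (Tr.node (Tr.node (Tr.leaf (nat_lit 0x1f9fe28a02dd9c3d6eca80d89))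
 (Tr.leaf (nat_lit 0x550847ef2ebd3fbcc24c06389)))
 (Tr.node (Tr.leaf (nat_lit 0xce1107fbc75ccd5020845ddee))
 (Tr.leaf (nat_lit 0xf9bb3d1ee85021001569fd7d2))))
 (Tr.node (Tr.node (Tr.leaf (nat_lit 0xccc047f93f2d95c222047abee))
 (Tr.leaf (nat_lit 0xf9bb3d1ee85021001569fd7d2)))
 (Tr.node (Tr.leaf (nat_lit 0xc8688677bd095d82b4155bb7a))
 (Tr.leaf (nat_lit 0xf9bb3d1ee85021001569fd7d2)))))))))))
 (Tr.node (Tr.node (Tr.node (Tr.node (Tr.node (Tr.node (Tr.node (Tr.node (Tr.node (Tr.leaf (nat_lit 0x2ffa5d400de5b75b195a330c1))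
 (Tr.leaf (nat_lit 0x258293940df3b2371a2ebb7b4)))
 (Tr.node (Tr.leaf (nat_lit 0x45904da80fbcb7d0426e7e7cc))
 (Tr.leaf (nat_lit 0xf9bb3d1ee85021001569fd7d2))))
 (Tr.node (Tr.node (Tr.leaf (nat_lit 0xa6f6f0d017e3d2e729b230835))
 (Tr.leaf (nat_lit 0x415450e06f243bd4ea776e1fc)))
 (Tr.node (Tr.leaf (nat_lit 0xa20543ebf6eec07ee9b484865))
 (Tr.leaf (nat_lit 0xf9bb3d1ee85021001569fd7d2)))))
 (Tr.node (Tr.node (Tr.node (Tr.leaf (nat_lit 0xd7cdf281263f08a4e202cebbe))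
 (Tr.leaf (nat_lit 0x4e0227df5379df7932c4104ab)))
 (Tr.node (Tr.leaf (nat_lit 0x9d6df825200f098e869befb2a))
 (Tr.leaf (nat_lit 0xf9bb3d1ee85021001569fd7d2))))
 (Tr.node (Tr.node (Tr.leaf (nat_lit 0xeedb1f59cd74e5533100190c7))
 (Tr.leaf (nat_lit 0xf9bb3d1ee85021001569fd7d2)))
 (Tr.node (Tr.leaf (nat_lit 0x774fba0540326a3dd2038f6be))
 (Tr.leaf (nat_lit 0xf9bb3d1ee85021001569fd7d2))))))
 (Tr.node (Tr.node (Tr.node (Tr.node (Tr.leaf (nat_lit 0xd1840facfbbe2080c664ee75e))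
 (Tr.leaf (nat_lit 0x1aedf801b00f0cebffdbc2803)))
 (Tr.node (Tr.leaf (nat_lit 0x444d4269262c7dfee2070ebee))
 (Tr.leaf (nat_lit 0xf9bb3d1ee85021001569fd7d2))))
 (Tr.node (Tr.node (Tr.leaf (nat_lit 0x856c066427ef798e84162fb7a))
 (Tr.leaf (nat_lit 0x224d1241e466687ff9178f8f6)))
 (Tr.node (Tr.leaf (nat_lit 0xda7d6c6bf20c4dc8e5d14484b))
 (Tr.leaf (nat_lit 0xf9bb3d1ee85021001569fd7d2)))))
 (Tr.node (Tr.node (Tr.node (Tr.leaf (nat_lit 0x3ebf594880c4247b09cbb7dc6))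
 (Tr.leaf (nat_lit 0xf6dae6db1eb1d6a5610010a9d)))
 (Tr.node (Tr.leaf (nat_lit 0x3ee3f9111003866b1b8bf3ea6))
 (Tr.leaf (nat_lit 0xf9bb3d1ee85021001569fd7d2))))
 (Tr.node (Tr.node (Tr.leaf (nat_lit 0x4fb3f19207599f703aea505a1))
 (Tr.leaf (nat_lit 0xf9bb3d1ee85021001569fd7d2)))
 (Tr.node (Tr.leaf (nat_lit 0x76fe6c4812a076e9414336ede))
 (Tr.leaf (nat_lit 0xf9bb3d1ee85021001569fd7d2)))))))
 (Tr.node (Tr.node (Tr.node (Tr.node (Tr.node (Tr.leaf (nat_lit 0x26e2075017e3f66b190633ef6))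
 (Tr.leaf (nat_lit 0x6043437b7e20f77efb25002e5)))
 (Tr.node (Tr.leaf (nat_lit 0x57eeae0413bb7ea9d6420261b))
 (Tr.leaf (nat_lit 0xf9bb3d1ee85021001569fd7d2))))
 (Tr.node (Tr.node (Tr.leaf (nat_lit 0xef5d66eb666cd95c60100c8e9))
 (Tr.leaf (nat_lit 0x1701c3a3069f8e3cca8ec7fac)))
 (Tr.node (Tr.leaf (nat_lit 0xf73793f6c7d26a3488a005535))
 (Tr.leaf (nat_lit 0xf9bb3d1ee85021001569fd7d2)))))
 (Tr.node (Tr.node (Tr.node (Tr.leaf (nat_lit 0x688613dcf96030733a65ba5f6))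
 (Tr.leaf (nat_lit 0x1ff4eca0138f9ec94eda62c09)))
 (Tr.node (Tr.leaf (nat_lit 0xbd979bbcc9d6a0170ea8a9505))
 (Tr.leaf (nat_lit 0xf9bb3d1ee85021001569fd7d2))))
 (Tr.node (Tr.node (Tr.leaf (nat_lit 0x504a265f7a317fadf7450029b))
 (Tr.leaf (nat_lit 0xf9bb3d1ee85021001569fd7d2)))
 (Tr.node (Tr.leaf (nat_lit 0xa72bf90704fbc33e91ba95221))
 (Tr.leaf (nat_lit 0xf9bb3d1ee85021001569fd7d2))))))
 (Tr.node (Tr.node (Tr.node (Tr.node (Tr.leaf (nat_lit 0x977e3c4443f76b8d85d22501b))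
 (Tr.leaf (nat_lit 0x2433417a06c0f77e09af35fe4)))
 (Tr.node (Tr.leaf (nat_lit 0xf9e79b34f90220029e21eb776))
 (Tr.leaf (nat_lit 0xf9bb3d1ee85021001569fd7d2))))
 (Tr.node (Tr.node (Tr.leaf (nat_lit 0xa81682fed9c0d0172cb5b9d7c))
 (Tr.leaf (nat_lit 0x3bfd3c00e04628495d5befcd2)))
 (Tr.node (Tr.leaf (nat_lit 0x4411e0bb0618dff462af5cfac))
 (Tr.leaf (nat_lit 0xf9bb3d1ee85021001569fd7d2)))))
 (Tr.node (Tr.node (Tr.node (Tr.leaf (nat_lit 0x280d9819dbf86f3fbfed2005))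
 (Tr.leaf (nat_lit 0xb66ef84510a342af8193b7a3e)))
 (Tr.node (Tr.leaf (nat_lit 0x58d406f8fb043cc16e456adde))
 (Tr.leaf (nat_lit 0xf9bb3d1ee85021001569fd7d2))))
 (Tr.node (Tr.node (Tr.leaf (nat_lit 0x9a9207dadbd584012dc4f1dde))
 (Tr.leaf (nat_lit 0xf9bb3d1ee85021001569fd7d2)))
 (Tr.node (Tr.leaf (nat_lit 0x8c86c09382d95cb775ffaaca))
 (Tr.leaf (nat_lit 0xf9bb3d1ee85021001569fd7d2))))))))
 (Tr.node (Tr.node (Tr.node (Tr.node (Tr.node (Tr.node (Tr.leaf (nat_lit 0xec3df0ffa44859f620b91c921))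
 (Tr.leaf (nat_lit 0x98284d6fb88d058a85ddf7b4a)))
 (Tr.node (Tr.leaf (nat_lit 0x86604d6117afc7ca819677a6e))
 (Tr.leaf (nat_lit 0xf9bb3d1ee85021001569fd7d2))))
 (Tr.node (Tr.node (Tr.leaf (nat_lit 0xe7f4eca017aad2c040327ee7c))
 (Tr.leaf (nat_lit 0xb1fdd820ac862086cd3befb54)))
 (Tr.node (Tr.leaf (nat_lit 0xc755f8a1473ecbd4e2b24c02d))
 (Tr.leaf (nat_lit 0xf9bb3d1ee85021001569fd7d2)))))
 (Tr.node (Tr.node (Tr.node (Tr.leaf (nat_lit 0x94e12446965391fbe57ab1fa))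
 (Tr.leaf (nat_lit 0xbeac7dcdb0ef00eb01d8b6803)))
 (Tr.node (Tr.leaf (nat_lit 0x60284d6fbca877fad17d16241))
 (Tr.leaf (nat_lit 0xf9bb3d1ee85021001569fd7d2))))
 (Tr.node (Tr.node (Tr.leaf (nat_lit 0x8f81450ad453dc33d5f7b9d2))
 (Tr.leaf (nat_lit 0xf9bb3d1ee85021001569fd7d2)))
 (Tr.node (Tr.leaf (nat_lit 0x4426496c13a877fa82e73676e))
 (Tr.leaf (nat_lit 0xf9bb3d1ee85021001569fd7d2))))))
 (Tr.node (Tr.node (Tr.node (Tr.node (Tr.leaf (nat_lit 0xa5fabc140df3f387153a39211))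
 (Tr.leaf (nat_lit 0x831251c24ff58314a9f6f51fc)))
 (Tr.node (Tr.leaf (nat_lit 0xf003d85417f8b5912deff4aa))
 (Tr.leaf (nat_lit 0xf9bb3d1ee85021001569fd7d2))))
 (Tr.node (Tr.node (Tr.leaf (nat_lit 0xa81682fed9c0d0172cb5b9d7c))
 (Tr.leaf (nat_lit 0xe819391855f8c733a8edbda6)))
 (Tr.node (Tr.leaf (nat_lit 0x1d1207fe4bd5bf1d0ecc21589))
 (Tr.leaf (nat_lit 0xf9bb3d1ee85021001569fd7d2)))))
 (Tr.node (Tr.node (Tr.node (Tr.leaf (nat_lit 0x9cdbf81908158587278bf9b8e))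
 (Tr.leaf (nat_lit 0xd7a6f98413bb02a082e2f673e)))
 (Tr.node (Tr.leaf (nat_lit 0x981834dfe855098525ddfd99a))
 (Tr.leaf (nat_lit 0xf9bb3d1ee85021001569fd7d2))))
 (Tr.node (Tr.node (Tr.leaf (nat_lit 0xa69df88984fec0f761ba9c805))
 (Tr.leaf (nat_lit 0xf9bb3d1ee85021001569fd7d2)))
 (Tr.node (Tr.leaf (nat_lit 0x1092e09a1a9196a56feff0f9c))
 (Tr.leaf (nat_lit 0xf9bb3d1ee85021001569fd7d2)))))))
 (Tr.node (Tr.node (Tr.node (Tr.node (Tr.node (Tr.leaf (nat_lit 0x2ffd8e2085cefc5b5c1a0bc41))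
 (Tr.leaf (nat_lit 0x2b0a49297dbdee17dfe50c11)))
 (Tr.node (Tr.leaf (nat_lit 0xe35bf8034c30c314f133dd2fc))
 (Tr.leaf (nat_lit 0xf9bb3d1ee85021001569fd7d2))))
 (Tr.node (Tr.node (Tr.leaf (nat_lit 0xcb3fb806c1584910b4f3dd57a))
 (Tr.leaf (nat_lit 0xfb6dae27f00a4808d411cfe7a)))
 (Tr.node (Tr.leaf (nat_lit 0xc6bf594887fc65f2a1e214147))
 (Tr.leaf (nat_lit 0xf9bb3d1ee85021001569fd7d2)))))
 (Tr.node (Tr.node (Tr.node (Tr.leaf (nat_lit 0x18601d75f9072fcb9fdd63003))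
 (Tr.leaf (nat_lit 0x49251d80ff5b7f72bee30185)))
 (Tr.node (Tr.leaf (nat_lit 0x88b045fabfcd95c22dfc70941))
 (Tr.leaf (nat_lit 0xf9bb3d1ee85021001569fd7d2))))
 (Tr.node (Tr.node (Tr.leaf (nat_lit 0x5e9df889801c0cf162cbded8e))
 (Tr.leaf (nat_lit 0xf9bb3d1ee85021001569fd7d2)))
 (Tr.node (Tr.leaf (nat_lit 0x7b4ef2c778211a3dfa51820b9))
 (Tr.leaf (nat_lit 0xf9bb3d1ee85021001569fd7d2))))))
 (Tr.node (Tr.node (Tr.node (Tr.node (Tr.leaf (nat_lit 0x7acf5b49f824247bfb41820c7))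
 (Tr.leaf (nat_lit 0x84da06580ff5f587250639bde)))
 (Tr.node (Tr.leaf (nat_lit 0xbbde66ca7ae5900d6d50a08d9))
 (Tr.leaf (nat_lit 0xf9bb3d1ee85021001569fd7d2))))
 (Tr.node (Tr.node (Tr.leaf (nat_lit 0x5648685ba4f7dfeff72004d))
 (Tr.leaf (nat_lit 0xa8212d3ff04ac14a15bdfde62)))
 (Tr.node (Tr.leaf (nat_lit 0x4268644336295fe8f15756afa))
 (Tr.leaf (nat_lit 0xf9bb3d1ee85021001569fd7d2)))))
 (Tr.node (Tr.node (Tr.node (Tr.leaf (nat_lit 0x2403391d4072e37f13afbd6a6))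
 (Tr.leaf (nat_lit 0xafeeae0411ebd00b1412bbe7a)))
 (Tr.node (Tr.leaf (nat_lit 0x1cff705822453def2fcb20983))
 (Tr.leaf (nat_lit 0xf9bb3d1ee85021001569fd7d2))))
 (Tr.node (Tr.node (Tr.leaf (nat_lit 0x34c047f93ea7b6ef4b0c22a85))
 (Tr.leaf (nat_lit 0xf9bb3d1ee85021001569fd7d2)))
 (Tr.node (Tr.leaf (nat_lit 0x3940a6b778039a0d5e1debeb8))
 (Tr.leaf (nat_lit 0xf9bb3d1ee85021001569fd7d2)))))))))
 (Tr.node (Tr.node (Tr.node (Tr.node (Tr.node (Tr.node (Tr.node (Tr.leaf (nat_lit 0xe4a407fcb7ea70e200243ef76))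
 (Tr.leaf (nat_lit 0xc982279e7b7991003664f87fa)))
 (Tr.node (Tr.leaf (nat_lit 0xf76ce6e736ab5aacc01006a39))
 (Tr.leaf (nat_lit 0xf9bb3d1ee85021001569fd7d2))))
 (Tr.node (Tr.node (Tr.leaf (nat_lit 0xae040fedd1eec05b0094bfc6e))
 (Tr.leaf (nat_lit 0x83492603667fc90cf516cdafa)))
 (Tr.node (Tr.leaf (nat_lit 0x3310d22c7deef58ddfe45441))
 (Tr.leaf (nat_lit 0xf9bb3d1ee85021001569fd7d2)))))
 (Tr.node (Tr.node (Tr.node (Tr.leaf (nat_lit 0x83222d0653fbc30895f6f567a))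
 (Tr.leaf (nat_lit 0x52451e427ef3bfe8afe26121)))
 (Tr.node (Tr.leaf (nat_lit 0xe8f9ec3bbc08d5c2753958a41))
 (Tr.leaf (nat_lit 0xf9bb3d1ee85021001569fd7d2))))
 (Tr.node (Tr.node (Tr.leaf (nat_lit 0xaac017d1fd6780433914fb8f6))
 (Tr.leaf (nat_lit 0xf9bb3d1ee85021001569fd7d2)))
 (Tr.node (Tr.leaf (nat_lit 0xc11c06eeeffc7994e4740c159))
 (Tr.leaf (nat_lit 0xf9bb3d1ee85021001569fd7d2))))))
 (Tr.node (Tr.node (Tr.node (Tr.node (Tr.leaf (nat_lit 0x6df3d9300d00b7521a2b7b7e4))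
 (Tr.leaf (nat_lit 0x140d8a2d809e6cbfc68f8ff0e)))
 (Tr.node (Tr.leaf (nat_lit 0x81a81d04adff2182957eff352))
 (Tr.leaf (nat_lit 0xf9bb3d1ee85021001569fd7d2))))
 (Tr.node (Tr.node (Tr.leaf (nat_lit 0x391c06eee8c4381d4c5dafdd8))
 (Tr.leaf (nat_lit 0x8019c82b8c9cc596e5bfddb4c)))
 (Tr.node (Tr.leaf (nat_lit 0x504a265f7a317fadf7450029b))
 (Tr.leaf (nat_lit 0xf9bb3d1ee85021001569fd7d2)))))
 (Tr.node (Tr.node (Tr.node (Tr.leaf (nat_lit 0x37fc74c026e73aed495a26891))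
 (Tr.leaf (nat_lit 0xddb2edbe1b99978006e870709)))
 (Tr.node (Tr.leaf (nat_lit 0xbbd9b693ec5788057d18c9891))
 (Tr.leaf (nat_lit 0xf9bb3d1ee85021001569fd7d2))))
 (Tr.node (Tr.node (Tr.leaf (nat_lit 0xf21ef8cfd8b042b5e1f19401d))
 (Tr.leaf (nat_lit 0xf9bb3d1ee85021001569fd7d2)))
 (Tr.node (Tr.leaf (nat_lit 0xcffc74c0276d19c020527e9fa))
 (Tr.leaf (nat_lit 0xf9bb3d1ee85021001569fd7d2)))))))
 (Tr.node (Tr.node (Tr.node (Tr.node (Tr.node (Tr.leaf (nat_lit 0x920c26cff2ff48ade5d48481b))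
 (Tr.leaf (nat_lit 0xf5d17db96e36a3c443286c285)))
 (Tr.node (Tr.leaf (nat_lit 0xbf2dd3e7a4cf083e889887921))
 (Tr.leaf (nat_lit 0xf9bb3d1ee85021001569fd7d2))))
 (Tr.node (Tr.node (Tr.leaf (nat_lit 0xb7d8fc810cb78285411affa9c))
 (Tr.leaf (nat_lit 0xe00b135fec706136b1259d3f6)))
 (Tr.node (Tr.leaf (nat_lit 0xf6b63ddcd3f262e101e034417))
 (Tr.leaf (nat_lit 0xf9bb3d1ee85021001569fd7d2)))))
 (Tr.node (Tr.node (Tr.node (Tr.leaf (nat_lit 0xb010acbfd892c28545bdfde1c))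
 (Tr.leaf (nat_lit 0x330817c7ecf72a3dd95c87091)))
 (Tr.node (Tr.leaf (nat_lit 0x7d5c7ced68243bdd42592e089))
 (Tr.leaf (nat_lit 0xf9bb3d1ee85021001569fd7d2))))
 (Tr.node (Tr.node (Tr.leaf (nat_lit 0x56040fedd3be6ef9c2c40640f))
 (Tr.leaf (nat_lit 0xf9bb3d1ee85021001569fd7d2)))
 (Tr.node (Tr.leaf (nat_lit 0xb7b3f19206d3822409aaf5fb4))
 (Tr.leaf (nat_lit 0xf9bb3d1ee85021001569fd7d2))))))
 (Tr.node (Tr.node (Tr.node (Tr.node (Tr.leaf (nat_lit 0x8bbbd9028ddd8512bdfad1141))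
 (Tr.leaf (nat_lit 0x865034d14777cbc521967d8be)))
 (Tr.node (Tr.leaf (nat_lit 0x656df825242a7bfed23b0e221))
 (Tr.leaf (nat_lit 0xf9bb3d1ee85021001569fd7d2))))
 (Tr.node (Tr.node (Tr.leaf (nat_lit 0xf3af2f0ef2fa6028d56084653))
 (Tr.leaf (nat_lit 0xdf63af37531bcf0896804162b)))
 (Tr.node (Tr.leaf (nat_lit 0x5f2bf90700190f3892cbd77aa))
 (Tr.leaf (nat_lit 0xf9bb3d1ee85021001569fd7d2)))))
 (Tr.node (Tr.node (Tr.node (Tr.leaf (nat_lit 0x8f4fba05417fc91fb6928902b))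
 (Tr.leaf (nat_lit 0x258543a826eeb07e4a2eaefe4)))
 (Tr.node (Tr.leaf (nat_lit 0x4a22d1c13fbf7eb17ee30603))
 (Tr.leaf (nat_lit 0xf9bb3d1ee85021001569fd7d2))))
 (Tr.node (Tr.node (Tr.leaf (nat_lit 0x44219935851a6ff292af5f726))
 (Tr.leaf (nat_lit 0xf9bb3d1ee85021001569fd7d2)))
 (Tr.node (Tr.leaf (nat_lit 0x949c2232c0d9d1efe1fcbbe8))
 (Tr.leaf (nat_lit 0xf9bb3d1ee85021001569fd7d2))))))))
 (Tr.node (Tr.node (Tr.node (Tr.node (Tr.node (Tr.node (Tr.leaf (nat_lit 0xd7fa5d400fb527808142773de))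
 (Tr.leaf (nat_lit 0x2859067bec44fd5f7d1d098c1)))
 (Tr.node (Tr.leaf (nat_lit 0xdc6fe27f32095daea68100b2b))
 (Tr.leaf (nat_lit 0xf9bb3d1ee85021001569fd7d2))))
 (Tr.node (Tr.node (Tr.leaf (nat_lit 0xbf46dbe559a7821f8a90a302d))
 (Tr.leaf (nat_lit 0xad0847ef2ced911e001cbfbe8)))
 (Tr.node (Tr.leaf (nat_lit 0xa1090f2fecfee11ed53c8d241))
 (Tr.leaf (nat_lit 0xf9bb3d1ee85021001569fd7d2)))))
 (Tr.node (Tr.node (Tr.node (Tr.leaf (nat_lit 0x59090f2fe81c2d18d64dcf7ca))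
 (Tr.leaf (nat_lit 0x913015f6efd72b848dfc65111)))
 (Tr.node (Tr.leaf (nat_lit 0x96ff925087d76ca7ad8201917))
 (Tr.leaf (nat_lit 0xf9bb3d1ee85021001569fd7d2))))
 (Tr.node (Tr.node (Tr.leaf (nat_lit 0x2ec0640b7ef7cebfd5602853))
 (Tr.leaf (nat_lit 0xf9bb3d1ee85021001569fd7d2)))
 (Tr.node (Tr.leaf (nat_lit 0x67e7cb2017aaf67ada2202665))
 (Tr.leaf (nat_lit 0xf9bb3d1ee85021001569fd7d2))))))
 (Tr.node (Tr.node (Tr.node (Tr.node (Tr.leaf (nat_lit 0xb4bfb81c80d260a705abbdf16))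
 (Tr.leaf (nat_lit 0xeb997d8bec7c81507178dc0c1)))
 (Tr.node (Tr.leaf (nat_lit 0xa9a087b6bdcb90021c3cfbf70))
 (Tr.leaf (nat_lit 0xf9bb3d1ee85021001569fd7d2))))
 (Tr.node (Tr.node (Tr.leaf (nat_lit 0xcb3fb806c1584910b4f3dd57a))
 (Tr.leaf (nat_lit 0x831582a2c7dec814ecb6cdd7c)))
 (Tr.node (Tr.leaf (nat_lit 0x4204b885d13a4af1f2f7de43e))
 (Tr.leaf (nat_lit 0xf9bb3d1ee85021001569fd7d2)))))
 (Tr.node (Tr.node (Tr.node (Tr.leaf (nat_lit 0x8d9ef88c09fd919726fab8109))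
 (Tr.leaf (nat_lit 0xe00cc2efbca850b6e0359eb7c)))
 (Tr.node (Tr.leaf (nat_lit 0xfff517f0e746284008006fdf6))
 (Tr.leaf (nat_lit 0xf9bb3d1ee85021001569fd7d2))))
 (Tr.node (Tr.node (Tr.leaf (nat_lit 0x61864cb06fddffd61de14889))
 (Tr.leaf (nat_lit 0xf9bb3d1ee85021001569fd7d2)))
 (Tr.node (Tr.leaf (nat_lit 0x984492f5f9070887ae95eb93e))
 (Tr.leaf (nat_lit 0xf9bb3d1ee85021001569fd7d2)))))))
 (Tr.node (Tr.node (Tr.node (Tr.node (Tr.node (Tr.leaf (nat_lit 0x8042b8155933c387b7b7f923e))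
 (Tr.leaf (nat_lit 0x88803d9df97f81c337fcf8003)))
 (Tr.node (Tr.leaf (nat_lit 0x23a0658236eb9268597ef6ef0))
 (Tr.leaf (nat_lit 0xf9bb3d1ee85021001569fd7d2))))
 (Tr.node (Tr.node (Tr.leaf (nat_lit 0x45a03594277b3be0126e7e7b2))
 (Tr.leaf (nat_lit 0x710643ee7aa0323cca65a67fc)))
 (Tr.node (Tr.leaf (nat_lit 0x8df5f0b0274f99c62eba68921))
 (Tr.leaf (nat_lit 0xf9bb3d1ee85021001569fd7d2)))))
 (Tr.node (Tr.node (Tr.node (Tr.leaf (nat_lit 0x7fba97d68dd13e31184813591))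
 (Tr.leaf (nat_lit 0x519831cd16efd7ffbf49005)))
 (Tr.node (Tr.leaf (nat_lit 0x88b045fabfcd95c22dfc70941))
 (Tr.leaf (nat_lit 0xf9bb3d1ee85021001569fd7d2))))
 (Tr.node (Tr.node (Tr.leaf (nat_lit 0x9c808fbd999f8483068cfbf0e))
 (Tr.leaf (nat_lit 0xf9bb3d1ee85021001569fd7d2)))
 (Tr.node (Tr.leaf (nat_lit 0x802e604e32e951aea5f7b4b7a))
 (Tr.leaf (nat_lit 0xf9bb3d1ee85021001569fd7d2))))))
 (Tr.node (Tr.node (Tr.node (Tr.node (Tr.leaf (nat_lit 0xd577b83443126b8486a36d73e))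
 (Tr.leaf (nat_lit 0x84817199267f81e623aefcba6)))
 (Tr.node (Tr.leaf (nat_lit 0x444d4269262c7dfee2070ebee))
 (Tr.leaf (nat_lit 0xf9bb3d1ee85021001569fd7d2))))
 (Tr.node (Tr.node (Tr.leaf (nat_lit 0xbec773d97267806f2b80a08a7))
 (Tr.leaf (nat_lit 0x644c2e117afdeffea960282d)))
 (Tr.node (Tr.leaf (nat_lit 0xffc2bf95593382011200fb6be))
 (Tr.leaf (nat_lit 0xf9bb3d1ee85021001569fd7d2)))))
 (Tr.node (Tr.node (Tr.node (Tr.leaf (nat_lit 0x7cddd2f9ac043cf76a090a985))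
 (Tr.leaf (nat_lit 0x890643ee7bed911eaef4a0169)))
 (Tr.node (Tr.leaf (nat_lit 0xce1107fbc75ccd5020845ddee))
 (Tr.leaf (nat_lit 0xf9bb3d1ee85021001569fd7d2))))
 (Tr.node (Tr.node (Tr.leaf (nat_lit 0xc5efb214277b79a6b62208333))
 (Tr.leaf (nat_lit 0xf9bb3d1ee85021001569fd7d2)))
 (Tr.node (Tr.leaf (nat_lit 0x720a0f4fd8b06639d145976de))
 (Tr.leaf (nat_lit 0xf9bb3d1ee85021001569fd7d2))))))))))
 (Tr.node (Tr.node (Tr.node (Tr.node (Tr.node (Tr.node (Tr.node (Tr.node (Tr.leaf (nat_lit 0x280271df7861937f3bfdb00a1))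
 (Tr.leaf (nat_lit 0x98284d6fb88d058a85ddf7b4a)))
 (Tr.node (Tr.leaf (nat_lit 0xafded2c00de590172812bb9fc))
 (Tr.leaf (nat_lit 0xf9bb3d1ee85021001569fd7d2))))
 (Tr.node (Tr.node (Tr.leaf (nat_lit 0x4fef5340276d3d7aba42021e3))
 (Tr.leaf (nat_lit 0x550847ef2ebd3fbcc24c06389)))
 (Tr.node (Tr.leaf (nat_lit 0x30038b3fd892e63fdfad81605))
 (Tr.leaf (nat_lit 0xf9bb3d1ee85021001569fd7d2)))))
 (Tr.node (Tr.node (Tr.node (Tr.leaf (nat_lit 0x912b09649519b153efff95b8))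
 (Tr.leaf (nat_lit 0x16b015d087d72ee109ce77d96)))
 (Tr.node (Tr.leaf (nat_lit 0xbdfb477a2ec5b50e0d0821bc1))
 (Tr.leaf (nat_lit 0xf9bb3d1ee85021001569fd7d2))))
 (Tr.node (Tr.node (Tr.leaf (nat_lit 0x7d5bae3f4810ff1d560909689))
 (Tr.leaf (nat_lit 0xf9bb3d1ee85021001569fd7d2)))
 (Tr.node (Tr.leaf (nat_lit 0xbdfc96f4adc738870c182b911))
 (Tr.leaf (nat_lit 0xf9bb3d1ee85021001569fd7d2))))))
 (Tr.node (Tr.node (Tr.node (Tr.node (Tr.leaf (nat_lit 0xd8a0f0c09fdb51b164ebb7ca))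
 (Tr.leaf (nat_lit 0x501151fbee142ff4ebed44185)))
 (Tr.node (Tr.leaf (nat_lit 0x3ddfca280884b41f4e0babfcc))
 (Tr.leaf (nat_lit 0xf9bb3d1ee85021001569fd7d2))))
 (Tr.node (Tr.node (Tr.leaf (nat_lit 0x70b045fabe8036e0496d76fd4))
 (Tr.leaf (nat_lit 0x5c2065ff32091fe802cd76faa)))
 (Tr.node (Tr.leaf (nat_lit 0x9fd7b290435788052e82e9dbe))
 (Tr.leaf (nat_lit 0xf9bb3d1ee85021001569fd7d2)))))
 (Tr.node (Tr.node (Tr.node (Tr.leaf (nat_lit 0x10a29914999326a39feff3716))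
 (Tr.leaf (nat_lit 0x79f4bcb4f9023ac15e796a411)))
 (Tr.node (Tr.leaf (nat_lit 0x9843437b7a05850eaf85e1bee))
 (Tr.leaf (nat_lit 0xf9bb3d1ee85021001569fd7d2))))
 (Tr.node (Tr.node (Tr.leaf (nat_lit 0xb8bef0deb8c110a72df9b0911))
 (Tr.leaf (nat_lit 0xf9bb3d1ee85021001569fd7d2)))
 (Tr.node (Tr.leaf (nat_lit 0x5dfabc1409113f81164b7b79a))
 (Tr.leaf (nat_lit 0xf9bb3d1ee85021001569fd7d2)))))))
 (Tr.node (Tr.node (Tr.node (Tr.node (Tr.node (Tr.leaf (nat_lit 0xbf1a7dcf48f5831d01d8b5089))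
 (Tr.leaf (nat_lit 0xf58ddbadacbe20b6c2288e305)))
 (Tr.node (Tr.leaf (nat_lit 0x7e3cecef90885ef940d916c09))
 (Tr.leaf (nat_lit 0xf9bb3d1ee85021001569fd7d2))))
 (Tr.node (Tr.node (Tr.leaf (nat_lit 0xc8038b3fd918c512b6a5d976e))
 (Tr.leaf (nat_lit 0x217124326642fb4c5d3f6def0)))
 (Tr.node (Tr.leaf (nat_lit 0xded5aeb9d31eccc1668048c0f))
 (Tr.leaf (nat_lit 0xf9bb3d1ee85021001569fd7d2)))))
 (Tr.node (Tr.node (Tr.node (Tr.leaf (nat_lit 0x59090f2fe81c2d18d64dcf7ca))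
 (Tr.leaf (nat_lit 0xdbcb6f0b7a3d8508f740c02cb)))
 (Tr.node (Tr.leaf (nat_lit 0x4810acbfd918dfd176fd58409))
 (Tr.leaf (nat_lit 0xf9bb3d1ee85021001569fd7d2))))
 (Tr.node (Tr.node (Tr.leaf (nat_lit 0x7d5c7ced68243bdd42592e089))
 (Tr.leaf (nat_lit 0xf9bb3d1ee85021001569fd7d2)))
 (Tr.node (Tr.leaf (nat_lit 0xa72bf90704fbc33e91ba95221))
 (Tr.leaf (nat_lit 0xf9bb3d1ee85021001569fd7d2))))))
 (Tr.node (Tr.node (Tr.node (Tr.node (Tr.leaf (nat_lit 0x7b795d63ec042f58d959470c1))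
 (Tr.leaf (nat_lit 0xfcf95d79ac0425c201097fbc6)))
 (Tr.node (Tr.leaf (nat_lit 0x211a2c0e48f0f31d557fbd6d8))
 (Tr.leaf (nat_lit 0xf9bb3d1ee85021001569fd7d2))))
 (Tr.node (Tr.node (Tr.leaf (nat_lit 0x3a104debd884865949ddf7ccc))
 (Tr.leaf (nat_lit 0x5c101dfdc9142fd102cd7f58e)))
 (Tr.node (Tr.leaf (nat_lit 0x214159216c26a35edb3fef2e4))
 (Tr.leaf (nat_lit 0xf9bb3d1ee85021001569fd7d2)))))
 (Tr.node (Tr.node (Tr.node (Tr.leaf (nat_lit 0x7a93f99bd81086717be9d0485))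
 (Tr.leaf (nat_lit 0xe05064fb7e20d3c461357cafc)))
 (Tr.node (Tr.leaf (nat_lit 0x484c0e6df92c7ddbf6550a04b))
 (Tr.leaf (nat_lit 0xf9bb3d1ee85021001569fd7d2))))
 (Tr.node (Tr.node (Tr.leaf (nat_lit 0x629207dadff0f6717964104d5))
 (Tr.leaf (nat_lit 0xf9bb3d1ee85021001569fd7d2)))
 (Tr.node (Tr.leaf (nat_lit 0x212a51462ce1333e997fb73f0))
 (Tr.leaf (nat_lit 0xf9bb3d1ee85021001569fd7d2))))))))
 (Tr.node (Tr.node (Tr.node (Tr.node (Tr.node (Tr.node (Tr.leaf (nat_lit 0x1b5bf80348158f1dffdbc1089))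
 (Tr.leaf (nat_lit 0x7af8f4d3bc011ee1795952891)))
 (Tr.node (Tr.leaf (nat_lit 0xfff2c7f21f819600080073ffc))
 (Tr.leaf (nat_lit 0xf9bb3d1ee85021001569fd7d2))))
 (Tr.node (Tr.node (Tr.leaf (nat_lit 0x80456829722ec1cee7b7eca6e))
 (Tr.leaf (nat_lit 0xe94fea2f7828d11ef63188269)))
 (Tr.node (Tr.leaf (nat_lit 0x62fed8409da076f3f97312055))
 (Tr.leaf (nat_lit 0xf9bb3d1ee85021001569fd7d2)))))
 (Tr.node (Tr.node (Tr.node (Tr.leaf (nat_lit 0xa458a21d10ecc5bfe97cbc6e))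
 (Tr.leaf (nat_lit 0x18c9284adff38b7fe7e8a111)))
 (Tr.node (Tr.leaf (nat_lit 0xc40513fde77e69f6a2a40c127))
 (Tr.leaf (nat_lit 0xf9bb3d1ee85021001569fd7d2))))
 (Tr.node (Tr.node (Tr.leaf (nat_lit 0x82a451c0b7ef00e2a9f6f6976))
 (Tr.leaf (nat_lit 0xf9bb3d1ee85021001569fd7d2)))
 (Tr.node (Tr.leaf (nat_lit 0x67e7cb2017aaf67ada2202665))
 (Tr.leaf (nat_lit 0xf9bb3d1ee85021001569fd7d2))))))
 (Tr.node (Tr.node (Tr.node (Tr.node (Tr.leaf (nat_lit 0x28320d7ed9c0f75b1dfd31441))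
 (Tr.leaf (nat_lit 0xfca5f9bdb00a00e202a9fef26)))
 (Tr.node (Tr.leaf (nat_lit 0x6f7e3c4441607b5910533f4fa))
 (Tr.leaf (nat_lit 0xf9bb3d1ee85021001569fd7d2))))
 (Tr.node (Tr.node (Tr.leaf (nat_lit 0xc8038b3fd918c512b6a5d976e))
 (Tr.leaf (nat_lit 0x7cea7d5d382137eb134932283)))
 (Tr.node (Tr.leaf (nat_lit 0xdde99f35ad1f2d8296084b303))
 (Tr.leaf (nat_lit 0xf9bb3d1ee85021001569fd7d2)))))
 (Tr.node (Tr.node (Tr.node (Tr.leaf (nat_lit 0x34c047f93ea7b6ef4b0c22a85))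
 (Tr.leaf (nat_lit 0x4fd8fc810d3d9fd1725a5a089)))
 (Tr.node (Tr.leaf (nat_lit 0x1461517126072fee8b8f67ba6))
 (Tr.leaf (nat_lit 0xf9bb3d1ee85021001569fd7d2))))
 (Tr.node (Tr.node (Tr.leaf (nat_lit 0xb8d5f8b9f80680c76fb9e8805))
 (Tr.leaf (nat_lit 0xf9bb3d1ee85021001569fd7d2)))
 (Tr.node (Tr.leaf (nat_lit 0x650127bf667afb7c522c0c6a1))
 (Tr.leaf (nat_lit 0xf9bb3d1ee85021001569fd7d2)))))))
 (Tr.node (Tr.node (Tr.node (Tr.node (Tr.node (Tr.leaf (nat_lit 0xea73d973dd00c752b9b151065))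
 (Tr.leaf (nat_lit 0x79afcb2eb888343ade6982741)))
 (Tr.node (Tr.leaf (nat_lit 0x23a0658236eb9268597ef6ef0))
 (Tr.leaf (nat_lit 0xf9bb3d1ee85021001569fd7d2))))
 (Tr.node (Tr.node (Tr.leaf (nat_lit 0x72610773f6026e68d90547ef6))
 (Tr.leaf (nat_lit 0xfb36d9e6d980021088f1f757c)))
 (Tr.node (Tr.leaf (nat_lit 0xeedccee99dacd4d360101a84d))
 (Tr.leaf (nat_lit 0xf9bb3d1ee85021001569fd7d2)))))
 (Tr.node (Tr.node (Tr.node (Tr.leaf (nat_lit 0x180b135fe8552d3fbfcd81183))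
 (Tr.leaf (nat_lit 0x4c92619267ffdef770e08a83)))
 (Tr.node (Tr.leaf (nat_lit 0x4810acbfd918dfd176fd58409))
 (Tr.leaf (nat_lit 0xf9bb3d1ee85021001569fd7d2))))
 (Tr.node (Tr.node (Tr.leaf (nat_lit 0x3017183667f8b7cfbfec40a1))
 (Tr.leaf (nat_lit 0xf9bb3d1ee85021001569fd7d2)))
 (Tr.node (Tr.leaf (nat_lit 0xe3008fa7ddbac210d034df67c))
 (Tr.leaf (nat_lit 0xf9bb3d1ee85021001569fd7d2))))))
 (Tr.node (Tr.node (Tr.node (Tr.node (Tr.leaf (nat_lit 0xf275f0f3f6024ae4e9b144835))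
 (Tr.leaf (nat_lit 0x84817199267f81e623aefcba6)))
 (Tr.node (Tr.leaf (nat_lit 0xafb5d9a085ce805208baffd64))
 (Tr.leaf (nat_lit 0xf9bb3d1ee85021001569fd7d2))))
 (Tr.node (Tr.node (Tr.leaf (nat_lit 0x50212d3ff21a6fe8d7ed44603))
 (Tr.leaf (nat_lit 0xa3efe20236ebd02efd3280a71)))
 (Tr.node (Tr.leaf (nat_lit 0xc9eef80439291182b673fa37a))
 (Tr.leaf (nat_lit 0xf9bb3d1ee85021001569fd7d2)))))
 (Tr.node (Tr.node (Tr.node (Tr.leaf (nat_lit 0x57e97d01263f2fe8d34a46283))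
 (Tr.leaf (nat_lit 0xebf275d27f6193403970700f1)))
 (Tr.node (Tr.leaf (nat_lit 0x7fd19fb1cd16ae515a084b485))
 (Tr.leaf (nat_lit 0xf9bb3d1ee85021001569fd7d2))))
 (Tr.node (Tr.node (Tr.leaf (nat_lit 0xbdcb3f1d6877a10f1708a9283))
 (Tr.leaf (nat_lit 0xf9bb3d1ee85021001569fd7d2)))
 (Tr.node (Tr.leaf (nat_lit 0x1123311662532b2c9fefe57b2))
 (Tr.leaf (nat_lit 0xf9bb3d1ee85021001569fd7d2)))))))))
 (Tr.node (Tr.node (Tr.node (Tr.node (Tr.node (Tr.node (Tr.node (Tr.leaf (nat_lit 0xbf1daeafc0dec81d44988dc09))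
 (Tr.leaf (nat_lit 0x10c99211ac172ca7ff0fcbb96)))
 (Tr.node (Tr.leaf (nat_lit 0xe7af9b0485fa603290229f776))
 (Tr.leaf (nat_lit 0xf9bb3d1ee85021001569fd7d2))))
 (Tr.node (Tr.node (Tr.leaf (nat_lit 0xe79fe28a06f8d03460229cffc))
 (Tr.leaf (nat_lit 0x7b7e8e66d9807e19dc5103459)))
 (Tr.node (Tr.leaf (nat_lit 0xddde36dc6b75398526402819b))
 (Tr.leaf (nat_lit 0xf9bb3d1ee85021001569fd7d2)))))
 (Tr.node (Tr.node (Tr.node (Tr.leaf (nat_lit 0x8486a29c13fbd0a726a6b8f3e))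
 (Tr.leaf (nat_lit 0x4fdf2e08437cfd597642084cb)))
 (Tr.node (Tr.leaf (nat_lit 0x22261944d1e2627b99f7b7476))
 (Tr.leaf (nat_lit 0xf9bb3d1ee85021001569fd7d2))))
 (Tr.node (Tr.node (Tr.leaf (nat_lit 0x8f81450ad453dc33d5f7b9d2))
 (Tr.leaf (nat_lit 0xf9bb3d1ee85021001569fd7d2)))
 (Tr.node (Tr.leaf (nat_lit 0x67bcbc8485fa7af1507a1e411))
 (Tr.leaf (nat_lit 0xf9bb3d1ee85021001569fd7d2))))))
 (Tr.node (Tr.node (Tr.node (Tr.node (Tr.leaf (nat_lit 0xd00271df7a3103a4a3e5f43be))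
 (Tr.leaf (nat_lit 0x140d8a2d809e6cbfc68f8ff0e)))
 (Tr.node (Tr.leaf (nat_lit 0xf003d85417f8b5912deff4aa))
 (Tr.leaf (nat_lit 0xf9bb3d1ee85021001569fd7d2))))
 (Tr.node (Tr.node (Tr.leaf (nat_lit 0xdbfcc6e2bf8d1c80ec5042959))
 (Tr.leaf (nat_lit 0x37cbdb010cb7a63fdb0a83285)))
 (Tr.node (Tr.leaf (nat_lit 0xc22035d7f77b4be0b1f454033))
 (Tr.leaf (nat_lit 0xf9bb3d1ee85021001569fd7d2)))))
 (Tr.node (Tr.node (Tr.node (Tr.leaf (nat_lit 0x4827037ef3487d7abee500563))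
 (Tr.leaf (nat_lit 0xddde36dc6b75398526402819b)))
 (Tr.node (Tr.leaf (nat_lit 0x981834dfe855098525ddfd99a))
 (Tr.leaf (nat_lit 0xf9bb3d1ee85021001569fd7d2))))
 (Tr.node (Tr.node (Tr.leaf (nat_lit 0x8be77900736f814abff2e0063))
 (Tr.leaf (nat_lit 0xf9bb3d1ee85021001569fd7d2)))
 (Tr.node (Tr.leaf (nat_lit 0x759ef88c08b032b5426bbe79c))
 (Tr.leaf (nat_lit 0xf9bb3d1ee85021001569fd7d2)))))))
 (Tr.node (Tr.node (Tr.node (Tr.node (Tr.node (Tr.leaf (nat_lit 0x2e7bf0530441df7f399b118a1))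
 (Tr.leaf (nat_lit 0x95af790c22ff21ae87eaa4303)))
 (Tr.node (Tr.leaf (nat_lit 0x124470c172270aedebd7e68be))
 (Tr.leaf (nat_lit 0xf9bb3d1ee85021001569fd7d2))))
 (Tr.node (Tr.node (Tr.leaf (nat_lit 0x632407e6f7ea7a78d87406471))
 (Tr.leaf (nat_lit 0x243490f485c27af708bf3fd34)))
 (Tr.node (Tr.leaf (nat_lit 0xbe9bd3db8cd58437298891985))
 (Tr.leaf (nat_lit 0xf9bb3d1ee85021001569fd7d2)))))
 (Tr.node (Tr.node (Tr.node (Tr.leaf (nat_lit 0x51fbf0122e113fa4ff6b40391))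
 (Tr.leaf (nat_lit 0xb020d1f7bc8302a689bdf7b34)))
 (Tr.node (Tr.leaf (nat_lit 0x361107fbc6d6ee7d498c05c85))
 (Tr.leaf (nat_lit 0xf9bb3d1ee85021001569fd7d2))))
 (Tr.node (Tr.node (Tr.leaf (nat_lit 0x56040fedd3be6ef9c2c40640f))
 (Tr.leaf (nat_lit 0xf9bb3d1ee85021001569fd7d2)))
 (Tr.node (Tr.leaf (nat_lit 0xfb5dd2e3ec040814e811cf9fc))
 (Tr.leaf (nat_lit 0xf9bb3d1ee85021001569fd7d2))))))
 (Tr.node (Tr.node (Tr.node (Tr.node (Tr.leaf (nat_lit 0x93d6f8805bb78285eff2e001d))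
 (Tr.leaf (nat_lit 0x7e679b75d1026e7b9a8103427)))
 (Tr.node (Tr.leaf (nat_lit 0x9d6df825200f098e869befb2a))
 (Tr.leaf (nat_lit 0xf9bb3d1ee85021001569fd7d2))))
 (Tr.node (Tr.node (Tr.leaf (nat_lit 0x49fdd820ad0c3dd2fe7b4a141))
 (Tr.leaf (nat_lit 0xdf647de5732f0bc882d06602b)))
 (Tr.node (Tr.leaf (nat_lit 0x5f2bf90700190f3892cbd77aa))
 (Tr.leaf (nat_lit 0xf9bb3d1ee85021001569fd7d2)))))
 (Tr.node (Tr.node (Tr.node (Tr.leaf (nat_lit 0xc6e3f911173bc7e2b3a250227))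
 (Tr.leaf (nat_lit 0x6f79ec230408df58501b5fee8)))
 (Tr.node (Tr.leaf (nat_lit 0x84b10d3887dee5c205ae7df46))
 (Tr.leaf (nat_lit 0xf9bb3d1ee85021001569fd7d2))))
 (Tr.node (Tr.node (Tr.leaf (nat_lit 0xf6ea9f559db366a3910013217))
 (Tr.leaf (nat_lit 0xf9bb3d1ee85021001569fd7d2)))
 (Tr.node (Tr.leaf (nat_lit 0x41642c24732a7bc8d6776e67a))
 (Tr.leaf (nat_lit 0xf9bb3d1ee85021001569fd7d2))))))))
 (Tr.node (Tr.node (Tr.node (Tr.node (Tr.node (Tr.node (Tr.leaf (nat_lit 0x26e2075017e3f66b190633ef6))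
 (Tr.leaf (nat_lit 0xb027037ef2c2602e8da5a5f76)))
 (Tr.node (Tr.leaf (nat_lit 0x57eeae0413bb7ea9d6420261b))
 (Tr.leaf (nat_lit 0xf9bb3d1ee85021001569fd7d2))))
 (Tr.node (Tr.node (Tr.leaf (nat_lit 0xc140a6b77f3bdb84f63448239))
 (Tr.leaf (nat_lit 0xcffba6120759dd00340259ffa)))
 (Tr.node (Tr.leaf (nat_lit 0xeeeb675b3669d56a310010ae3))
 (Tr.leaf (nat_lit 0xf9bb3d1ee85021001569fd7d2)))))
 (Tr.node (Tr.node (Tr.node (Tr.leaf (nat_lit 0x83222d0653fbc30895f6f567a))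
 (Tr.leaf (nat_lit 0x180cc2efb88d1cbfeedd82909)))
 (Tr.node (Tr.leaf (nat_lit 0x96ff925087d76ca7ad8201917))
 (Tr.leaf (nat_lit 0xf9bb3d1ee85021001569fd7d2))))
 (Tr.node (Tr.node (Tr.leaf (nat_lit 0x81c313106f77a106bf26e93f6))
 (Tr.leaf (nat_lit 0xf9bb3d1ee85021001569fd7d2)))
 (Tr.node (Tr.leaf (nat_lit 0xae80f18b9d7bff7ff90209))
 (Tr.leaf (nat_lit 0xf9bb3d1ee85021001569fd7d2))))))
 (Tr.node (Tr.node (Tr.node (Tr.node (Tr.leaf (nat_lit 0xa42065ff36ebd3ee01bc34a21))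
 (Tr.leaf (nat_lit 0xfcf95d79ac0425c201097fbc6)))
 (Tr.node (Tr.leaf (nat_lit 0xa9a087b6bdcb90021c3cfbf70))
 (Tr.leaf (nat_lit 0xf9bb3d1ee85021001569fd7d2))))
 (Tr.node (Tr.node (Tr.leaf (nat_lit 0x73e7790072222268db63e66f6))
 (Tr.leaf (nat_lit 0x3bfd3c00e04628495d5befcd2)))
 (Tr.node (Tr.leaf (nat_lit 0xddd9e6bb2e1d9d84660848b89))
 (Tr.leaf (nat_lit 0xf9bb3d1ee85021001569fd7d2)))))
 (Tr.node (Tr.node (Tr.node (Tr.leaf (nat_lit 0xba5fca6bd884c41fed918184d))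
 (Tr.leaf (nat_lit 0x6a5086f3dd00de5178155bcfc)))
 (Tr.node (Tr.leaf (nat_lit 0x58d406f8fb043cc16e456adde))
 (Tr.leaf (nat_lit 0xf9bb3d1ee85021001569fd7d2))))
 (Tr.node (Tr.node (Tr.leaf (nat_lit 0xdee5d3f1b70f0ce2aa8042927))
 (Tr.leaf (nat_lit 0xf9bb3d1ee85021001569fd7d2)))
 (Tr.node (Tr.leaf (nat_lit 0xd54017f56f372b8482046f3be))
 (Tr.leaf (nat_lit 0xf9bb3d1ee85021001569fd7d2)))))))
 (Tr.node (Tr.node (Tr.node (Tr.node (Tr.node (Tr.leaf (nat_lit 0x8530a4b607dbdb8404be7df38))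
 (Tr.leaf (nat_lit 0xa4101dfdcdf6e3d701bc3d005)))
 (Tr.node (Tr.leaf (nat_lit 0xa16207767fe3f30e9d3421271))
 (Tr.leaf (nat_lit 0xf9bb3d1ee85021001569fd7d2))))
 (Tr.node (Tr.node (Tr.leaf (nat_lit 0xfd7f267e6240790c04012dffa))
 (Tr.leaf (nat_lit 0x9251924e14e295a9effef562)))
 (Tr.node (Tr.leaf (nat_lit 0x4c8817ddad7d3df3324c1a183))
 (Tr.leaf (nat_lit 0xf9bb3d1ee85021001569fd7d2)))))
 (Tr.node (Tr.node (Tr.node (Tr.leaf (nat_lit 0x40b9241aa6587de0756f5cfd2))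
 (Tr.leaf (nat_lit 0x1a81279bf25f8c697fccc0c83)))
 (Tr.node (Tr.leaf (nat_lit 0x4203690b5238c778f3e7d46ee))
 (Tr.leaf (nat_lit 0xf9bb3d1ee85021001569fd7d2))))
 (Tr.node (Tr.node (Tr.leaf (nat_lit 0xdf38dde78d9d0f9080d857109))
 (Tr.leaf (nat_lit 0xf9bb3d1ee85021001569fd7d2)))
 (Tr.node (Tr.leaf (nat_lit 0x31eef80438a332afdf7ba2211))
 (Tr.leaf (nat_lit 0xf9bb3d1ee85021001569fd7d2))))))
 (Tr.node (Tr.node (Tr.node (Tr.node (Tr.leaf (nat_lit 0x5a0293d7d9110e31bac5d35be))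
 (Tr.leaf (nat_lit 0xf6dae6db1eb1d6a5610010a9d)))
 (Tr.node (Tr.leaf (nat_lit 0xb04c0e6df8a6608fc515afa5e))
 (Tr.leaf (nat_lit 0xf9bb3d1ee85021001569fd7d2))))
 (Tr.node (Tr.node (Tr.leaf (nat_lit 0xbc7d3c7de04669cf05992d803))
 (Tr.leaf (nat_lit 0xf9bb3d1ee85021001569fd7d2)))
 (Tr.node (Tr.leaf (nat_lit 0x3defb2142043382f1e0babfb2))
 (Tr.leaf (nat_lit 0xf9bb3d1ee85021001569fd7d2)))))
 (Tr.node (Tr.node (Tr.node (Tr.leaf (nat_lit 0x9779ec23069fcf8cc59a45a09))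
 (Tr.leaf (nat_lit 0x1466827413837eaf8e8723f3e)))
 (Tr.node (Tr.leaf (nat_lit 0x890193b7ed5f8916bebcc9121))
 (Tr.leaf (nat_lit 0xf9bb3d1ee85021001569fd7d2))))
 (Tr.node (Tr.node (Tr.leaf (nat_lit 0x45904da80fbcb7d0426e7e7cc))
 (Tr.leaf (nat_lit 0xf9bb3d1ee85021001569fd7d2)))
 (Tr.node (Tr.leaf (nat_lit 0xb377e8225282c20ccdb3e5e7c))
 (Tr.leaf (nat_lit 0xf9bb3d1ee85021001569fd7d2)))))))))))))

/-- The mask of a letter. -/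
noncomputable def maskF : Nat → Nat := maskT.get

theorem hT : ((List.range 5).all fun c => Nat.blt (invL c) 5 && (List.range 100).all fun i =>
    Nat.blt (P100.T c i) 100 && Nat.beq (P100.T (invL c) (P100.T c i)) i) = true := by decide +kernel

/-- Words for the points. -/
def W100 : List (List Nat) :=
  [[],
   [0,2,0,3,0],
   [0,2,4,2,0],
   [0,2,0,3,3,0,3,0,3,0],
   [0,2,0,3,3,0,4,3,0,3,3,0],
   [0,2,4,2,2,0,2,0,2,0],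
   [0,2,0,3,3,0,4,3,0,3,3],
   [0,2,0,3,0,3,3,4,3,0],
   [0,2,4,2,0,2,2,4],
   [0,2,0,3,3,0,3,0,3,0,2,0],
   [0,2,0,3,0,3,3,4],
   [0,2,4,2,2,0,4,2,0,4],
   [0,2,0,3,3,0,4,3,0],
   [0,2,0,3,3,0,3,0,3,0,2],
   [0,2,0,3,3,0,4,3,0,4],
   [0,2,0,3,0,3,3,4,3],
   [0,2,4,2,2,0,4,2,0],
   [0,2,0,3,0,3,3],
   [0,2,4,2,0,2],
   [0,2,4,2,2,0,4,2,0,2],
   [0,2,0,3,3,0,4,3,0,3],
   [0,2,4,2,0,2,2],
   [0,2,0,3,0,3],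
   [0,2,0,3,3,0,2,0],
   [0,2,0,3,3,0,3,3],
   [0,2,4,2,2],
   [0,2,0,3,3,4],
   [0],
   [0,2,0,3,3,4,3,3,0,3,0],
   [0,2,0,3,3,4,3,0,3,0],
   [0,2,0,3,3],
   [0,2,4,2,2,4],
   [0,2,0,3,3,0,4,3,4],
   [0,2,4,2,2,4,3,3],
   [0,2,4,2,2,0,4,2],
   [0,2,0,3,0,3,0,3,3,0],
   [0,2,4,2,2,4,2,2],
   [0,2,0,3,3,4,2],
   [0,2,0,3,0,3,0,3],
   [0,2,0,3,3,0,3],
   [0,2,0,3,0,3,0,3,4],
   [0,2,0,3,0,3,0,2],
   [0,3],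
   [0,2,0,3,3,4,2,2,2,0],
   [0,2,4,2,2,4,2],
   [0,2,0,3,3,4,3,0,2,0],
   [0,2,0,3,3,4,2,2,2],
   [0,2,4,2,2,4,2,0],
   [0,2,0,3,3,0,3,0,3],
   [0,2,0,3],
   [0,2,0,3,3,0,4],
   [0,2,0,3,3,4,3],
   [0,2,0,3,0,3,3,0,4,3],
   [0,2,4,2,2,4,2,2,2,0],
   [0,2],
   [0,2,0,3,3,4,3,0,2],
   [0,2,4],
   [0,2,0,3,0,3,3,0,4],
   [0,2,0,3,3,0,2,0,2],
   [0,2,0,3,3,0,4,3,3],
   [0,2,0,3,3,4,3,0,3,0,2],
   [0,2,0,3,3,4,2,2,2,0,3],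
   [0,2,4,2,0,2,0],
   [0,2,4,2,2,0,4,2,4],
   [0,2,0,3,0,3,3,0,4,2],
   [0,2,0,3,3,0,4,3],
   [0,2,0,3,3,4,2,2],
   [0,2,0,3,3,4,3,3,0,3],
   [0,2,0,3,3,0,2],
   [0,2,0,3,3,0,3,3,0],
   [0,2,0,3,3,0,3,0],
   [0,2,4,2,2,4,2,2,0],
   [0,2,0],
   [0,2,4,2,2,4,2,0,3],
   [0,2,0,3,3,0],
   [0,2,0,3,3,4,3,0],
   [0,2,4,2,2,4,2,2,2],
   [0,2,0,3,0,3,3,0],
   [0,2,0,3,0,3,0],
   [0,2,4,2,2,4,3],
   [0,2,0,3,3,4,3,3],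
   [0,2,4,2,0,2,0,2],
   [0,2,4,2,2,0,2],
   [0,2,4,2,2,0,2,0],
   [0,2,0,3,3,4,3,3,0],
   [0,2,0,3,3,0,4,3,4,2],
   [0,2,0,3,3,4,3,0,2,2],
   [0,2,0,3,3,0,3,3,0,2],
   [0,2,0,3,3,0,2,0,3],
   [0,2,0,3,0,3,0,3,3],
   [0,2,4,2,0,2,2,0,4],
   [0,2,4,2],
   [0,2,4,2,2,0,2,0,2],
   [0,2,4,2,2,0],
   [0,2,0,3,3,4,3,0,3],
   [0,2,0,3,0,3,0,3,0],
   [0,2,0,3,3,0,4,2],
   [0,2,0,3,3,0,3,3,0,3],
   [0,2,4,2,0,2,2,0],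
   [0,2,4,2,2,0,4]]

theorem hW : ((List.range 100).all fun i =>
    (W100.getD i []).all (fun z => Nat.blt z 5) && Nat.beq (P100.val (W100.getD i []) 0) i) = true := by
  decide +kernel

/-- The levels. -/
def lev100 : List Lev :=
  [⟨1,
   [[2],
    [3],
    [4],
    [0,2,2,2,1],
    [0,3,0,4,3,1],
    [0,2,0,4,2,1],
    [0,2,0,2,4,3,1],
    [0,2,4,3,1,3,1],
    [0,2,0,3,4,2,1,3,1],
    [0,2,4,2,4,3,4,3,1],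
    [0,2,0,3,0,2,1,3,4,3,1],
    [0,2,4,2,0,3,1,2,1,3,1],
    [0,2,0,3,0,3,4,2,1,2,1,3,1],
    [0,2,4,2,2,0,3,3,1,2,2,1,3,1],
    [0,2,0,3,3,0,2,2,1,3,3,4,3,1],
    [0,2,0,3,3,0,3,4,1,2,1,2,2,1,3,1],
    [0,2,0,3,3,4,2,0,3,4,1,2,2,1,3,1],
    [0,2,0,3,3,4,2,4,3,1,2,1,2,1,3,1],
    [0,2,4,2,0,2,0,3,3,4,1,2,2,1,3,1],
    [0,2,4,2,2,0,2,4,1,3,1,3,3,4,3,1],
    [0,2,4,2,2,0,4,3,3,1,2,1,2,1,3,1],
    [0,2,4,2,2,4,3,0,3,1,2,1,2,1,3,1],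
    [0,2,4,2,2,4,3,4,3,4,1,2,2,1,3,1],
    [0,2,0,3,0,3,0,2,0,2,4,3,3,4,3,1],
    [0,2,0,3,0,3,0,2,2,4,1,3,3,4,3,1],
    [0,2,0,3,3,0,4,2,2,1,3,1,3,4,3,1],
    [0,2,0,3,3,0,4,2,4,2,4,3,3,4,3,1],
    [0,2,0,3,0,3,3,0,2,1,3,3,1,3,4,3,1],
    [0,2,0,3,0,3,3,0,3,1,2,1,2,2,1,3,1],
    [0,2,0,3,0,3,3,4,2,4,3,3,1,3,4,3,1],
    [0,2,0,3,3,0,3,0,2,1,2,2,1,2,1,3,1],
    [0,2,0,3,3,4,2,2,4,3,3,4,2,2,1,3,1],
    [0,2,4,2,0,2,2,0,2,1,3,1,3,3,4,3,1],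
    [0,2,4,2,0,2,2,0,3,1,2,2,1,2,1,3,1],
    [0,2,4,2,2,0,2,0,3,1,3,3,1,3,4,3,1],
    [0,2,4,2,2,4,3,3,4,2,2,4,3,3,4,3,1],
    [0,2,0,3,3,0,3,3,4,1,2,2,1,2,2,1,3,1],
    [0,2,0,3,3,4,2,2,0,3,1,3,1,2,2,1,3,1],
    [0,2,4,2,0,2,0,2,0,4,2,1,2,1,2,1,3,1],
    [0,2,4,2,0,2,2,4,2,2,4,2,2,1,2,1,3,1],
    [0,2,4,2,2,4,2,0,2,2,1,2,4,2,2,1,3,1],
    [0,2,4,2,2,4,2,2,4,1,3,3,4,3,3,4,3,1],
    [0,2,0,3,0,3,0,3,0,4,3,1,3,1,3,4,3,1],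
    [0,2,0,3,0,3,3,4,3,3,4,3,3,1,3,4,3,1],
    [0,2,0,3,3,0,2,0,2,0,3,3,4,2,2,1,3,1],
    [0,2,0,3,3,4,3,0,3,3,1,3,4,3,3,4,3,1],
    [0,2,0,3,0,3,0,3,0,2,4,2,1,2,1,2,1,3,1],
    [0,2,0,3,0,3,0,3,0,3,4,2,1,2,1,2,1,3,1],
    [0,2,0,3,0,3,0,3,3,4,2,2,1,2,1,2,1,3,1],
    [0,2,0,3,0,3,0,3,4,2,1,2,1,2,1,2,1,3,1],
    [0,2,0,3,0,3,0,3,4,3,1,2,1,2,1,2,1,3,1],
    [0,2,0,3,3,0,2,0,2,2,1,3,3,4,3,3,4,3,1],
    [0,2,0,3,3,0,2,0,3,3,1,2,2,4,2,2,1,3,1],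
    [0,2,0,3,3,0,3,0,3,3,3,1,3,1,3,3,4,3,1],
    [0,2,0,3,3,0,4,3,3,4,2,2,4,1,2,2,1,3,1],
    [0,2,0,3,3,0,4,3,4,3,4,3,4,1,3,3,4,3,1],
    [0,2,0,3,3,4,3,3,0,2,2,1,3,1,2,2,1,3,1],
    [0,2,4,2,2,0,2,0,2,2,2,1,2,1,2,2,1,3,1],
    [0,2,4,2,2,0,2,0,2,4,3,1,3,1,3,3,4,3,1],
    [0,2,4,2,2,0,4,2,4,2,4,2,4,1,2,2,1,3,1]],
   [(2,1,0),
    (22,1,1),
    (12,1,4),
    (17,1,15),
    (7,1,19),
    (3,1,27),
    (21,1,30),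
    (10,1,36),
    (16,1,41),
    (9,1,46),
    (19,1,52),
    (18,2,0),
    (8,2,9),
    (13,2,15),
    (20,2,20),
    (6,2,30),
    (11,2,43),
    (14,2,55),
    (15,22,31),
    (4,12,25),
    (5,12,40)]⟩,
  ⟨2,
   [[4],
    [0,2,0,2,4,3,1],
    [0,2,4,3,1,3,1],
    [0,2,0,3,4,2,1,3,1],
    [0,2,4,2,4,3,4,3,1],
    [0,2,0,3,0,2,1,3,4,3,1],
    [0,2,4,2,0,3,1,2,1,3,1],
    [0,2,0,3,0,3,4,2,1,2,1,3,1],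
    [0,2,0,3,3,4,2,0,3,4,1,2,2,1,3,1],
    [0,2,0,3,3,4,2,4,3,1,2,1,2,1,3,1],
    [0,2,4,2,0,2,0,3,3,4,1,2,2,1,3,1],
    [0,2,4,2,2,0,4,3,3,1,2,1,2,1,3,1],
    [0,2,4,2,2,4,3,0,3,1,2,1,2,1,3,1],
    [0,2,4,2,2,4,3,4,3,4,1,2,2,1,3,1],
    [0,2,0,3,0,3,0,2,0,2,4,3,3,4,3,1],
    [0,2,0,3,0,3,0,2,2,4,1,3,3,4,3,1],
    [0,2,0,3,3,0,4,2,2,1,3,1,3,4,3,1],
    [0,2,0,3,3,0,4,2,4,2,4,3,3,4,3,1],
    [0,2,0,3,0,3,3,4,2,4,3,3,1,3,4,3,1],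
    [0,2,0,3,3,4,2,2,4,3,3,4,2,2,1,3,1],
    [0,2,4,2,2,4,3,3,4,2,2,4,3,3,4,3,1],
    [0,2,4,2,0,2,0,2,0,4,2,1,2,1,2,1,3,1],
    [0,2,4,2,0,2,2,4,2,2,4,2,2,1,2,1,3,1],
    [0,2,0,3,0,3,0,3,0,4,3,1,3,1,3,4,3,1],
    [0,2,0,3,0,3,3,4,3,3,4,3,3,1,3,4,3,1],
    [0,2,0,3,0,3,0,3,0,3,4,2,1,2,1,2,1,3,1],
    [0,2,0,3,0,3,0,3,4,2,1,2,1,2,1,2,1,3,1],
    [0,2,4,2,2,0,2,0,2,4,3,1,3,1,3,3,4,3,1]],
   [(21,2,1),
    (22,2,2),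
    (8,2,4),
    (7,2,6),
    (20,2,11),
    (17,2,12),
    (12,2,14),
    (11,2,24),
    (14,2,27),
    (19,21,1),
    (15,21,3),
    (3,21,5),
    (13,21,6),
    (4,21,10),
    (5,21,11),
    (6,21,12),
    (18,21,14),
    (10,21,15),
    (16,21,19),
    (9,21,26)]⟩,
  ⟨23,
   [[4],
    [0,2,0,3,4,2,1,3,1],
    [0,2,0,3,0,3,4,2,1,2,1,3,1],
    [0,2,0,3,3,4,2,0,3,4,1,2,2,1,3,1],
    [0,2,0,3,3,4,2,4,3,1,2,1,2,1,3,1],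
    [0,2,0,3,0,3,3,4,2,4,3,3,1,3,4,3,1],
    [0,2,0,3,3,4,2,2,4,3,3,4,2,2,1,3,1],
    [0,2,4,2,2,4,3,3,4,2,2,4,3,3,4,3,1]],
   [(69,23,5),
    (24,23,7),
    (92,69,6),
    (48,24,1)]⟩,
  ⟨3,
   [[4],
    [0,2,0,3,4,2,1,3,1],
    [0,2,0,3,0,3,4,2,1,2,1,3,1],
    [0,2,0,3,3,4,2,0,3,4,1,2,2,1,3,1],
    [0,2,0,3,3,4,2,4,3,1,2,1,2,1,3,1],
    [0,2,0,3,3,4,2,2,4,3,3,4,2,2,1,3,1],
    [0,2,0,3,0,3,3,4,2,4,3,3,1,3,4,3,1,4,0,2,4,2,2,4,3,3,4,2,2,4,3,3,4,3,1]],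
   [(4,3,1),
    (5,3,3),
    (6,4,0)]⟩,
  ⟨4,
   [[4],
    [0,2,0,3,0,3,4,2,1,2,1,3,1],
    [0,2,0,3,3,4,2,2,4,3,3,4,2,2,1,3,1],
    [0,2,0,3,4,0,3,3,4,2,4,3,3,1,3,4,3,1,4,0,2,4,2,2,4,3,3,4,2,2,4,3,3,4,0,3,4,2,1,3,1]],
   [(6,4,0),
    (5,4,1)]⟩,
  ⟨5,
   [[4,0,2,0,3,0,3,4,2,1,2,1,3,1,4],
    [0,2,0,3,3,4,2,2,4,3,3,4,2,2,1,3,1],
    [4,0,2,0,3,3,4,2,2,4,3,3,4,2,0,3,4,2,1,2,1,3,1],
    [4,0,2,0,3,4,0,3,3,4,2,4,3,3,1,3,4,3,1,4,0,2,4,2,2,4,3,3,4,2,2,4,3,3,4,0,3,4,2,1,3,1,4],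
    [0,2,0,3,4,0,3,3,4,2,4,3,3,1,3,4,3,1,4,0,2,4,2,2,4,3,3,4,2,2,4,3,3,4,0,3,4,0,3,4,2,1,2,1,3,1]],
   [(6,5,0)]⟩,
  ⟨24,
   [[4,0,2,0,3,0,3,4,2,1,3,4,2,2,4,3,3,4,2,0,3,4,2,1,2,1,3,1],
    [0,2,0,3,3,4,2,2,4,3,3,4,2,2,1,3,1,4,0,2,0,3,0,3,4,2,1,2,1,3,1,4],
    [0,2,0,3,4,0,3,3,4,2,4,3,3,1,3,4,3,1,4,0,2,4,2,2,4,3,3,4,2,2,4,3,3,4,0,3,4,0,3,4,2,1,2,1,3,1],
    [4,0,2,0,3,4,0,3,3,4,2,4,3,3,1,3,4,3,1,4,0,2,4,2,2,4,3,3,4,2,2,4,3,3,4,0,3,4,0,3,4,2,1,2,1,3,1,4]],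
   [(92,24,2),
    (48,24,3),
    (69,92,3)]⟩,
  ⟨27,
   [[4,0,2,0,3,0,3,4,2,1,3,4,2,2,4,3,3,4,2,0,3,4,2,1,2,1,3,1],
    [0,2,0,3,3,4,2,2,4,3,3,4,2,2,1,3,1,4,0,2,0,3,0,3,4,2,1,2,1,3,1,4]],
   [(68,27,1)]⟩,
  ⟨7,
   [[4,0,2,0,3,0,3,4,2,1,3,4,2,2,4,3,3,4,2,0,3,4,2,1,2,1,3,1]],
   [(9,7,0)]⟩]

theorem hlev100 : levsOK P100 [0] lev100 = true := by decide +kernel

theorem hprod100 : prodM lev100 = 887040 := by decide +kernel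

/-- An element of order eight. -/
def hw : List Nat := [2,4,0,2,1]

/-- The fourth power. -/
def hw4 : List Nat := [2,4,0,2,1,2,4,0,2,1,2,4,0,2,1,2,4,0,2,1]

theorem hhw4 : hw4 = hw ++ hw ++ hw ++ hw := by decide

theorem hwlt : hw.all (fun z => Nat.blt z 5) = true := by decide

theorem hfix4 : ((List.range 100).all fun i => Nat.beq (P100.val hw4 i) i) = true := by decide +kernel

theorem hmove4 : pt.val hw4 1 ≠ 1 := by decide +kernel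

theorem hmove4' : 1 < pt.n := by decide +kernel

/-- The letters which separate the points. -/
def sepL : List Nat := [0,3,7,8,14,16,17,18,20,21,36,40,48,85,178]

end Cfsg.Agent.Lib.TC.D.HNB.Data
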