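import Cfsg.Agent.Lib.HSRec.Model

/-!
# The standard Steiner system, and the order of the automorphism group of the standard graph
-/

namespace Cfsg.Agent.Lib.TC.D.HNB.Stein

open Cfsg Cfsg.Agent.Lib.SteinerSearch.Core Cfsg.Agent.Lib.SteinerSearch.S3622
  Cfsg.Agent.Lib.HS.Graph Cfsg.Agent.Lib.HS.Simple Cfsg.Agent.Lib.HSRec.Model

set_option maxRecDepth 100000

/-- The blocks. -/
def BB : Set (Finset (Fin 22)) := mset 22 '' {m | m ∈ S3622Std}

theorem hcard : ∀ m ∈ S3622Std, (mset 22 m).card = 6 := by decide +kernel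

theorem huniq : ∀ a b c : Fin 22, a ≠ b → a ≠ c → b ≠ c →
    (S3622Std.filter (fun m => m.testBit a.1 && m.testBit b.1 && m.testBit c.1)).length = 1 := by
  decide +kernel

theorem steinerBB : IsSteinerSystem 3 6 BB := by
  constructor
  · rintro _ ⟨m, hm, rfl⟩
    exact hcard m hm
  · intro s hs
    obtain ⟨a, b, c, hab, hac, hbc, rfl⟩ := Finset.card_eq_three.1 hs
    obtain ⟨m, hm⟩ := List.length_eq_one_iff.1 (huniq a b c hab hac hbc)
    have hmem : m ∈ S3622Std.filter (fun m => m.testBit a.1 && m.testBit b.1 && m.testBit c.1) := by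
      rw [hm]
      exact List.mem_singleton.2 rfl
    have hm1 := List.mem_filter.1 hmem
    simp only [Bool.and_eq_true] at hm1
    refine ⟨mset 22 m, ⟨⟨m, hm1.1, rfl⟩, ?_⟩, ?_⟩
    · intro x hx
      simp only [Finset.mem_insert, Finset.mem_singleton] at hx
      rw [mem_mset]
      rcases hx with rfl | rfl | rfl
      · exact hm1.2.1.1
      · exact hm1.2.1.2
      · exact hm1.2.2
    · rintro _ ⟨⟨m', hm', rfl⟩, hsub⟩
      have h1 : ∀ x ∈ ({a, b, c} : Finset (Fin 22)), m'.testBit x.1 = true := fun x hx =>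
        mem_mset.1 (hsub hx)
      have h2 : m' ∈ S3622Std.filter (fun m => m.testBit a.1 && m.testBit b.1 && m.testBit c.1) := by
        apply List.mem_filter.2
        refine ⟨hm', ?_⟩
        simp only [Bool.and_eq_true]
        exact ⟨⟨h1 a (by simp), h1 b (by simp)⟩, h1 c (by simp)⟩
      rw [hm] at h2
      rw [List.mem_singleton.1 h2]

theorem card_autS' : Nat.card autS = 88704000 :=
  card_autS (α := Fin 22) (by simp) steinerBB

theorem iso_HH' : Nonempty (Spor.HS ≃* HH) :=
  iso_HH (α := Fin 22) (by simp) steinerBB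

end Cfsg.Agent.Lib.TC.D.HNB.Stein
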