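import Cfsg.Agent.Lib.TC.D.HNB.ChkM
import Cfsg.Agent.Lib.TC.D.HNB.ChkA
import Cfsg.Agent.Lib.TC.D.HNB.Cover
import Cfsg.Agent.Lib.TC.D.HNB.Stein

/-!
# The subgroup generated by the first letters has a double cover of `HS` of index two
-/

namespace Cfsg.Agent.Lib.TC.D.HNB.Main

open Cfsg.Agent.Lib.TC.Core Cfsg.Agent.Lib.TC.Enc Cfsg.Agent.Lib.TC.Pres Cfsg.Agent.Lib.TC.Perm
  Cfsg.Agent.Lib.TC.Main Cfsg.Agent.Lib.TC.Chain Cfsg.Agent.Lib.TC.Chain.PermLev
  Cfsg.Agent.Lib.TC.G.HN Cfsg.Agent.Lib.TC.HNA Cfsg.Agent.Lib.TC.D.HNO.Tab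
  Cfsg.Agent.Lib.TC.D.HND.Sys Cfsg.Agent.Lib.TC.D.HNL.Lam Cfsg.Agent.Lib.TC.D.HNC.Ord
  Cfsg.Agent.Lib.TC.D.HNB.Data

open Cfsg.Agent.Lib.SteinerSearch.Core (tb)
open Cfsg.Agent.Lib.HS.Graph (adjB adj_iff autS HH_le)
open Cfsg.Agent.Lib.HS.Simple (hs_main HH)

set_option maxRecDepth 100000

theorem hT' (c : Nat) (hc : c < 5) (i : Nat) (hi : i < 100) :
    invL c < 5 ∧ P100.T c i < 100 ∧ P100.T (invL c) (P100.T c i) = i := by
  have h := hT
  simp only [List.all_eq_true, Bool.and_eq_true, List.mem_range] at h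
  obtain ⟨h1, h2⟩ := h c hc
  obtain ⟨h3, h4⟩ := h2 i hi
  exact ⟨Nat.le_of_ble_eq_true h1, Nat.le_of_ble_eq_true h3, Nat.eq_of_beq_eq_true h4⟩

theorem hinvInv (c : Nat) (hc : c < 5) : invL (invL c) = c := by
  revert c
  decide

/-- The permutation of a letter. -/
noncomputable def pi (c : Fin 5) : Equiv.Perm (Fin 100) where
  toFun i := ⟨P100.T c.1 i.1, (hT' c.1 c.2 i.1 i.2).2.1⟩
  invFun i := ⟨P100.T (invL c.1) i.1, (hT' (invL c.1) (hT' c.1 c.2 0 (by norm_num)).1 i.1 i.2).2.1⟩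
  left_inv i := Fin.ext (hT' c.1 c.2 i.1 i.2).2.2
  right_inv i := by
    apply Fin.ext
    have h := (hT' (invL c.1) (hT' c.1 c.2 0 (by norm_num)).1 i.1 i.2).2.2
    rw [hinvInv c.1 c.2] at h
    exact h

theorem pi_val (c : Fin 5) (i : Fin 100) : (pi c i).1 = P100.T c.1 i.1 := rfl

theorem hmask' (c : Nat) (hc : c < 5) (a : Nat) (ha : a < 1408) (v : Nat) (hv : v < 100) :
    tb (maskF (ptL.T c a)) (P100.T c v) = tb (maskF a) v := ChkM.hmask c hc a ha v hv

theorem hinvL' (c : Nat) (hc : c < 5) (a : Nat) (ha : a < 1408) :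
    ptL.T c (ptL.T (invL c) a) = a ∧ ptL.T (invL c) a < 1408 := by
  have h := ChkM.hinvL
  simp only [List.all_eq_true, Bool.and_eq_true, List.mem_range] at h
  obtain ⟨h1, h2⟩ := h c hc a ha
  exact ⟨Nat.eq_of_beq_eq_true h1, Nat.le_of_ble_eq_true h2⟩

theorem lam_inj {a b : Nat} (ha : a < 1408) (hb : b < 1408) (h : lam a = lam b) : a = b := by
  exact ChkM.inj_of_go ChkM.hlamGo (List.mem_range.2 ha) (List.mem_range.2 hb) h

theorem haut' (c : Nat) (hc : c < 5) (u : Nat) (hu : u < 100) (v : Nat) (hv : v < 100) :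
    adjB (P100.T c u) (P100.T c v) = adjB u v := by
  have h := ChkA.haut
  simp only [List.all_eq_true, List.mem_range] at h
  have h1 := h c hc u hu v hv
  cases h2 : adjB u v <;> cases h3 : adjB (P100.T c u) (P100.T c v) <;> simp_all

theorem pi_aut (c : Fin 5) : pi c ∈ autS := by
  intro u v
  rw [adj_iff, adj_iff, pi_val, pi_val]
  rw [haut' c.1 c.2 u.1 u.2 v.1 v.2]

/-- The relation between points and points. -/
def RR (p : Fin pt.n) (v : Fin 100) : Prop :=
  ∃ a, a < 1408 ∧ lam a = p.1 ∧ tb (maskF a) v.1 = true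

theorem sepRR : ∀ v w : Fin 100, (∀ p, RR p v ↔ RR p w) → v = w := by
  intro v w h
  apply Fin.ext
  apply ChkM.hsep v.2 w.2
  intro a ha
  have ha' := ChkM.hsepL a ha
  have hlt : lam a < pt.n := (Cfsg.Agent.Lib.TC.D.HNL.Main.lam_spec ha').1
  have key : ∀ u : Fin 100, RR ⟨lam a, hlt⟩ u ↔ tb (maskF a) u.1 = true := by
    intro u
    constructor
    · rintro ⟨b, hb, h1, h2⟩
      have : b = a := lam_inj hb ha' h1
      rw [← this]
      exact h2
    · intro h1
      exact ⟨a, ha', rfl, h1⟩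
  have h1 := h ⟨lam a, hlt⟩
  rw [key, key] at h1
  cases h2 : tb (maskF a) v.1 <;> cases h3 : tb (maskF a) w.1 <;> simp_all

/-- The action on 100 points. -/
theorem main (hgood : pt.Good rels)
    (hcard : Nat.card KK = 177408000) :
    ∃ K : Subgroup KK, K.Normal ∧ K.index = 2 ∧ Cfsg.IsNonsplitDoubleCover K Cfsg.Spor.HS := by
  classical
  have hk : pt.k = K.k := by decide
  obtain ⟨φ, hφ⟩ := exists_hom valid hk (fun _ => rfl) hgood hR
  have hφv : ∀ c, c < 5 → ∀ p : Fin pt.n, (φ (e c) p).1 = pt.T c p.1 := by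
    intro c hc p
    rw [show e c = K.E Rel c from rfl, hφ c (lt_of_lt_of_le hc (by decide : 5 ≤ K.k))]
    exact hgood.EP_apply (lt_of_lt_of_le hc (by decide : 5 ≤ pt.k)) p
  have hval : ∀ l : List Nat, (∀ z ∈ l, z < pt.k) → ∀ i : Fin pt.n,
      (φ (prodA e l) i).1 = pt.val l i.1 :=
    fun l hl i => phi_prodA_apply hk hgood φ hφ l (fun z hz => by rw [← hk]; exact hl z hz) i
  have hfin : Finite KK := Nat.finite_of_card_ne_zero (by rw [hcard]; norm_num)
  -- the homomorphism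
  have hequiv : ∀ (c : Fin 5) (x : Fin pt.n) (y : Fin 100),
      RR (φ (e c.1) x) (pi c y) ↔ RR x y := by
    intro c x y
    constructor
    · rintro ⟨a', ha', h1, h2⟩
      obtain ⟨h3, h4⟩ := hinvL' c.1 c.2 a' ha'
      refine ⟨ptL.T (invL c.1) a', h4, ?_, ?_⟩
      · -- the letter is the preimage
        have h5 := ((Cfsg.Agent.Lib.TC.D.HNL.Main.lam_spec h4).2 c.1 c.2).2
        rw [h3, h1] at h5
        have h6 : ∀ q : Fin pt.n, (φ (e c.1) q).1 = pt.T c.1 q.1 := hφv c.1 c.2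
        have hlt := (Cfsg.Agent.Lib.TC.D.HNL.Main.lam_spec h4).1
        have h7 : φ (e c.1) x = φ (e c.1) ⟨lam (ptL.T (invL c.1) a'), hlt⟩ := by
          apply Fin.ext
          rw [h5, h6]
        have h8 := (φ (e c.1)).injective h7
        rw [h8]
      · have h5 := hmask' c.1 c.2 _ h4 y.1 y.2
        rw [h3] at h5
        rw [pi_val] at h2
        rw [← h5]
        exact h2
    · rintro ⟨a, ha, h1, h2⟩
      obtain ⟨h3, h4⟩ := (Cfsg.Agent.Lib.TC.D.HNL.Main.lam_spec ha).2 c.1 c.2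
      refine ⟨ptL.T c.1 a, h3, ?_, ?_⟩
      · rw [h4, h1, hφv c.1 c.2]
      · rw [pi_val, hmask' c.1 c.2 a ha y.1 y.2]
        exact h2
  have hls : Subgroup.closure (Set.range fun c : Fin 5 => e c.1) = KK := by
    show _ = Subgroup.closure (e '' {c | c ∈ ([0,1,2,3,4] : List Nat)})
    congr 1
    ext g
    constructor
    · rintro ⟨c, rfl⟩
      refine ⟨c.1, ?_, rfl⟩
      have h := c.2
      simp only [Set.mem_setOf_eq, List.mem_cons, List.not_mem_nil, or_false]
      omega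
    · rintro ⟨c, hc, rfl⟩
      simp only [Set.mem_setOf_eq, List.mem_cons, List.not_mem_nil, or_false] at hc
      have hc5 : c < 5 := by omega
      exact ⟨⟨c, hc5⟩, rfl⟩
  obtain ⟨ρ, hρ⟩ := Cover.exists_rho φ RR sepRR KK (fun c : Fin 5 => e c.1) hls pi hequiv
  -- the letters of the subgroup
  have hmemE : ∀ c, c < 5 → e c ∈ KK := by
    intro c hc
    apply Subgroup.subset_closure
    refine ⟨c, ?_, rfl⟩
    simp only [Set.mem_setOf_eq, List.mem_cons, List.not_mem_nil, or_false]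
    omega
  have hgd : ∀ c, c < 5 → ([0,1,2,3,4] : List Nat).getD c 0 = c := by decide
  let E : Nat → KK := stageE e [0,1,2,3,4]
  have hE : ∀ c (hc : c < 5), ρ (E c) = pi ⟨c, hc⟩ := by
    intro c hc
    have h2 : E c = ⟨e c, hmemE c hc⟩ := by
      apply Subtype.ext
      rw [stageE_coe e [0,1,2,3,4] (by simpa using hc), hgd c hc]
    rw [h2]
    exact hρ ⟨c, hc⟩ (hmemE c hc)
  have hval100 : ∀ l : List Nat, (∀ z ∈ l, z < P100.k) → ∀ i : Fin 100,
      (ρ (prodA E l) i).1 = P100.val l i.1 := by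
    intro l
    induction l with
    | nil =>
      intro _ i
      rw [prodA_nil, map_one]
      rfl
    | cons z l ih =>
      intro hl i
      rw [prodA_cons, map_mul, Equiv.Perm.mul_apply, hE z (hl z (by simp))]
      exact ih (fun y hy => hl y (by simp [hy])) (pi ⟨z, hl z (by simp)⟩ i)
  let ρ₀ : KK →* Equiv.Perm (Fin P100.n) := ρ
  have : NeZero P100.n := ⟨by decide⟩
  have hval₀ : ∀ l : List Nat, (∀ z ∈ l, z < P100.k) → ∀ i : Fin P100.n,
      (ρ₀ (prodA E l) i).1 = P100.val l i.1 := fun l hl i => hval100 l hl i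
  have htr : ∀ i : Fin P100.n, ∃ g, ρ₀ g 0 = i := by
    intro i
    have h := hW
    simp only [List.all_eq_true, Bool.and_eq_true, List.mem_range] at h
    obtain ⟨h1, h2⟩ := h i.1 i.2
    refine ⟨prodA E (W100.getD i.1 []), Fin.ext ?_⟩
    exact (hval₀ _ (fun z hz => Nat.le_of_ble_eq_true (h1 z hz)) 0).trans (Nat.eq_of_beq_eq_true h2)
  have hge : P100.n * prodM lev100 ≤ Nat.card ρ₀.range := card_range_ge hval₀ htr lev100 hlev100
  rw [hprod100] at hge
  -- the range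
  have hle : ρ.range ≤ autS := by
    let U : Subgroup (PresentedGroup Rel) := (autS.comap ρ).map KK.subtype
    have hU : KK ≤ U := by
      rw [← hls, Subgroup.closure_le]
      rintro _ ⟨c, rfl⟩
      have h1 : e c.1 ∈ KK := hmemE c.1 c.2
      refine ⟨⟨e c.1, h1⟩, ?_, rfl⟩
      show ρ ⟨e c.1, h1⟩ ∈ autS
      rw [hρ c h1]
      exact pi_aut c
    rintro _ ⟨g, rfl⟩
    obtain ⟨g', hg', h2⟩ := hU g.2
    have : g' = g := Subtype.ext h2
    rw [← this]
    exact hg'
  have hA := Cfsg.Agent.Lib.TC.D.HNB.Stein.card_autS'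
  have hreq : ρ.range = autS := by
    apply Subgroup.eq_of_le_of_card_ge hle
    rw [hA]
    exact hge
  let ρ' : KK →* autS := ρ.codRestrict autS (fun g => hle ⟨g, rfl⟩)
  have hsurj : Function.Surjective ρ' := by
    rintro ⟨y, hy⟩
    rw [← hreq] at hy
    obtain ⟨g, rfl⟩ := hy
    exact ⟨g, rfl⟩
  have hker : Nat.card ρ'.ker = 2 := by
    have h1 := Subgroup.card_mul_index ρ'.ker
    rw [Subgroup.index_ker, MonoidHom.range_eq_top.2 hsurj, Subgroup.card_top, hA, hcard] at h1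
    omega
  -- the subgroup of index two
  let H : Subgroup autS := HH.subgroupOf autS
  have eH : H ≃* HH := Subgroup.subgroupOfEquivOfLe HH_le
  have hcH : Nat.card H = 44352000 := (Nat.card_congr eH.toEquiv).trans hs_main.2
  have hidx : H.index = 2 := by
    have h1 := Subgroup.card_mul_index H
    rw [hcH, hA] at h1
    omega
  have hsH : IsSimpleGroup H := by
    have := hs_main.1
    exact eH.isSimpleGroup
  have hnp : ¬ Nat.Prime (Nat.card H) := by
    rw [hcH]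
    norm_num
  -- the element
  let h : KK := prodA E hw
  have h4 : h ^ 4 = prodA E hw4 := by
    rw [hhw4, prodA_append, prodA_append, prodA_append]
    show (prodA E hw) ^ 4 = _
    simp only [pow_succ, pow_zero, one_mul, mul_assoc]
  have hlt4 : ∀ z ∈ hw4, z < 5 := by decide
  have h1 : ρ' (h ^ 4) = 1 := by
    apply Subtype.ext
    show ρ (h ^ 4) = 1
    rw [h4]
    have h5 := hfix4
    simp only [List.all_eq_true, List.mem_range] at h5
    apply Equiv.ext
    intro i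
    exact Fin.ext ((hval100 hw4 hlt4 i).trans (Nat.eq_of_beq_eq_true (h5 i.1 i.2)))
  have h2 : h ^ 4 ≠ 1 := by
    intro h5
    rw [h4] at h5
    have h6 := congrArg (fun t : KK => (t : PresentedGroup Rel)) h5
    simp only [Subgroup.coe_one] at h6
    rw [stage_prodA e [0,1,2,3,4] hw4 (by simpa using hlt4)] at h6
    have hm : (hw4.map fun z => ([0,1,2,3,4] : List Nat).getD z 0) = hw4 := by decide
    rw [hm] at h6
    have hz : ∀ z ∈ hw4, z < pt.k := by decide +kernel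
    have h7 := hval hw4 hz ⟨_, hmove4'⟩
    rw [h6, map_one] at h7
    exact hmove4 h7.symm
  obtain ⟨K₀, hn, hi, hc⟩ := Cover.cover_of_hom ρ' hsurj H hidx hsH hnp hker h h1 h2
  obtain ⟨e3⟩ := Cfsg.Agent.Lib.TC.D.HNB.Stein.iso_HH'
  obtain ⟨hc1, ⟨hc2⟩, hc3⟩ := hc
  exact ⟨K₀, hn, hi, hc1, ⟨(hc2.trans eH).trans e3.symm⟩, hc3⟩

end Cfsg.Agent.Lib.TC.D.HNB.Main
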