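import Cfsg.Agent.Lib.TC.D.HNB.Main
import Cfsg.Agent.Lib.TC.D.HNC.Ord

/-!
# The double cover of `HS` in the subgroup generated by `x, y, z`
-/

namespace Cfsg.Agent.Lib.TC.D.HNB.Top

open Cfsg.Agent.Lib.TC.Core Cfsg.Agent.Lib.TC.Chain Cfsg.Agent.Lib.TC.G.HN
  Cfsg.Agent.Lib.TC.D.HNC.Ord Cfsg.Agent.Lib.TC.HNA Cfsg.Agent.Lib.TC.D.HNO.Tab

/-- The subgroup of the statement is the subgroup generated by the letters. -/
theorem map_eq : (Subgroup.closure ({Cfsg.Spor.HN.x, Cfsg.Spor.HN.y, Cfsg.Spor.HN.z} : Set (FreeGroup Cfsg.Spor.HN.Gen))).map (PresentedGroup.mk (Cfsg.Spor.coxRelators Cfsg.Spor.HN.edges ∪ {r | r ∈ Cfsg.Spor.HN.extra})) = KK := by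
  apply le_antisymm
  · rw [MonoidHom.map_closure]
    apply (Subgroup.closure_le _).2
    rintro _ ⟨g, hg, rfl⟩
    simp only [Set.mem_insert_iff, Set.mem_singleton_iff] at hg
    rcases hg with rfl | rfl | rfl
    · exact Subgroup.subset_closure ⟨0, by decide, (Cfsg.Agent.Lib.TC.Pres.Cols.E_col valid Cfsg.Spor.HN.Gen.x)⟩
    · exact Subgroup.subset_closure ⟨2, by decide, (Cfsg.Agent.Lib.TC.Pres.Cols.E_col valid Cfsg.Spor.HN.Gen.y)⟩
    · exact Subgroup.subset_closure ⟨4, by decide, (Cfsg.Agent.Lib.TC.Pres.Cols.E_col valid Cfsg.Spor.HN.Gen.z)⟩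
  · rw [MonoidHom.map_closure]
    apply (Subgroup.closure_le _).2
    have hx : e 0 ∈ Subgroup.closure ((PresentedGroup.mk (Cfsg.Spor.coxRelators Cfsg.Spor.HN.edges ∪ {r | r ∈ Cfsg.Spor.HN.extra})) '' ({Cfsg.Spor.HN.x, Cfsg.Spor.HN.y, Cfsg.Spor.HN.z} : Set (FreeGroup Cfsg.Spor.HN.Gen))) :=
      Subgroup.subset_closure ⟨Cfsg.Spor.HN.x, by simp, (Cfsg.Agent.Lib.TC.Pres.Cols.E_col valid Cfsg.Spor.HN.Gen.x).symm⟩
    have hy : e 2 ∈ Subgroup.closure ((PresentedGroup.mk (Cfsg.Spor.coxRelators Cfsg.Spor.HN.edges ∪ {r | r ∈ Cfsg.Spor.HN.extra})) '' ({Cfsg.Spor.HN.x, Cfsg.Spor.HN.y, Cfsg.Spor.HN.z} : Set (FreeGroup Cfsg.Spor.HN.Gen))) :=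
      Subgroup.subset_closure ⟨Cfsg.Spor.HN.y, by simp, (Cfsg.Agent.Lib.TC.Pres.Cols.E_col valid Cfsg.Spor.HN.Gen.y).symm⟩
    have hz : e 4 ∈ Subgroup.closure ((PresentedGroup.mk (Cfsg.Spor.coxRelators Cfsg.Spor.HN.edges ∪ {r | r ∈ Cfsg.Spor.HN.extra})) '' ({Cfsg.Spor.HN.x, Cfsg.Spor.HN.y, Cfsg.Spor.HN.z} : Set (FreeGroup Cfsg.Spor.HN.Gen))) :=
      Subgroup.subset_closure ⟨Cfsg.Spor.HN.z, by simp, (Cfsg.Agent.Lib.TC.Pres.Cols.E_col valid Cfsg.Spor.HN.Gen.z).symm⟩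
    rintro _ ⟨c, hc, rfl⟩
    simp only [Set.mem_setOf_eq, List.mem_cons, List.not_mem_nil, or_false] at hc
    rcases hc with rfl | rfl | rfl | rfl | rfl
    · exact hx
    · rw [e1]
      exact Subgroup.inv_mem _ hx
    · exact hy
    · rw [e3]
      exact Subgroup.inv_mem _ hy
    · exact hz

/-- The order of the subgroup. -/
theorem card_kk (hgood : pt.Good rels) (hc : Nat.card (PresentedGroup Rel) = 273030912000000) :
    Nat.card KK = 177408000 := by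
  have h1 := Cfsg.Agent.Lib.TC.D.HNL.Main.main_index hgood card_KK3 card_KK
  have h2 := Subgroup.index_mul_card KK
  rw [h1, hc] at h2
  omega

/-- The statement, from the table. -/
theorem top (hgood : pt.Good rels) (hc : Nat.card (PresentedGroup Rel) = 273030912000000) :
    ∃ K : Subgroup (((Subgroup.closure ({Cfsg.Spor.HN.x, Cfsg.Spor.HN.y, Cfsg.Spor.HN.z} : Set (FreeGroup Cfsg.Spor.HN.Gen))).map (PresentedGroup.mk (Cfsg.Spor.coxRelators Cfsg.Spor.HN.edges ∪ {r | r ∈ Cfsg.Spor.HN.extra})))), K.Normal ∧ K.index = 2 ∧ Cfsg.IsNonsplitDoubleCover K Cfsg.Spor.HS := by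
  have key : ∀ N0 : Subgroup (PresentedGroup Rel), N0 = KK →
      ∃ K : Subgroup N0, K.Normal ∧ K.index = 2 ∧ Cfsg.IsNonsplitDoubleCover K Cfsg.Spor.HS := by
    rintro _ rfl
    exact Cfsg.Agent.Lib.TC.D.HNB.Main.main hgood (card_kk hgood hc)
  exact key _ map_eq

end Cfsg.Agent.Lib.TC.D.HNB.Top
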